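import Groth.Prelude.Def_W4bk4grassmannianPl
import Mathlib.GroupTheory.Perm.Fin
import Mathlib.LinearAlgebra.Matrix.Adjugate
import Mathlib.LinearAlgebra.Matrix.Rank
import Mathlib.LinearAlgebra.Matrix.NonsingularInverse

/-!
# Signed Plücker coordinates, the quadratic Plücker relations, nonzero minors of full-rank matrices
-/

set_option autoImplicit false

open W4bk4grassmannian Matrix MvPolynomial

universe u v

namespace Groth.Agent.W4bk4.Plucker

variable {d n : ℕ}

/-- an injective tuple is a permutation of a unique increasing one -/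
theorem exists_idx_perm (a : Fin d → Fin n) (ha : Function.Injective a) :
    ∃ (θ : Idx d n) (σ : Equiv.Perm (Fin d)), a = θ.1 ∘ σ := by
  classical
  have h : (Finset.univ.image a).card = d := by
    rw [Finset.card_image_of_injective _ ha, Finset.card_univ, Fintype.card_fin]
  let θ := sortIdx d n a h
  have hr : ∀ t, ∃ s, θ.1 s = a t := by
    intro t
    have : a t ∈ Set.range θ.1 := by
      change a t ∈ Set.range fun s => Finset.orderEmbOfFin _ h s
      rw [Finset.range_orderEmbOfFin]
      simp
    exact this
  choose s hs using hr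
  have hsinj : Function.Injective s := fun x y hxy => ha (by rw [← hs x, ← hs y, hxy])
  exact ⟨θ, Equiv.ofBijective s (Finite.injective_iff_bijective.1 hsinj),
    funext fun t => (hs t).symm⟩

theorem card_image_iff (a : Fin d → Fin n) :
    (Finset.univ.image a).card = d ↔ Function.Injective a := by
  classical
  constructor
  · intro h
    rw [← Set.injOn_univ, ← Finset.coe_univ]
    refine Finset.injOn_of_card_image_eq ?_
    rw [h, Finset.card_univ, Fintype.card_fin]
  · intro h
    rw [Finset.card_image_of_injective _ h, Finset.card_univ, Fintype.card_fin]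

theorem neg_one_pow_invCount {R : Type*} [CommRing R] (θ : Idx d n) (σ : Equiv.Perm (Fin d)) :
    (-1 : R) ^ invCount d n (θ.1 ∘ σ) = ((Equiv.Perm.sign σ : ℤ) : R) := by
  classical
  let f : Fin d → Fin d → R := fun i j => if i < j then 1 else if j < i then -1 else 0
  have hf : ∀ i j, f i j = -f j i := by
    intro i j
    rcases lt_trichotomy i j with h | h | h <;> simp [f, h, h.not_gt]
  have h := σ.prod_Ioi_comp_eq_sign_mul_prod hf
  have h1 : ∀ i : Fin d, (∏ j ∈ Finset.Ioi i, f i j) = 1 := fun i =>
    Finset.prod_eq_one fun j hj => by simp [f, Finset.mem_Ioi.1 hj]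
  rw [Finset.prod_congr rfl fun i _ => h1 i, Finset.prod_const_one, mul_one] at h
  have h2 : ∀ i : Fin d, (∏ j ∈ Finset.Ioi i, f (σ i) (σ j)) =
      (-1 : R) ^ ((Finset.Ioi i).filter fun j => σ j < σ i).card := by
    intro i
    rw [← Finset.prod_const, Finset.prod_filter]
    refine Finset.prod_congr rfl fun j hj => ?_
    rcases lt_trichotomy (σ i) (σ j) with h | h | h
    · simp [f, h, h.not_gt]
    · exact absurd (σ.injective h) (Finset.mem_Ioi.1 hj).ne
    · simp [f, h, h.not_gt]
  rw [Finset.prod_congr rfl fun i _ => h2 i, Finset.prod_pow_eq_pow_sum] at h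
  rw [← h]
  congr 1
  unfold invCount
  rw [← Finset.card_sigma]
  refine Finset.card_bij (fun x _ => ⟨x.1, x.2⟩) ?_ ?_ ?_
  · intro x hx
    simp only [Finset.mem_filter, Finset.mem_univ, true_and, Function.comp_apply,
      θ.2.lt_iff_lt] at hx
    simp [hx.1, hx.2]
  · intro x _ y _ hxy
    simp only [Sigma.mk.injEq, heq_eq_eq] at hxy
    exact Prod.ext hxy.1 hxy.2
  · intro y hy
    simp only [Finset.mem_sigma, Finset.mem_filter, Finset.mem_Ioi, Finset.mem_univ, true_and] at hy
    exact ⟨(y.1, y.2), by simp [θ.2.lt_iff_lt, hy.1, hy.2], rfl⟩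

variable {K : Type u} [CommRing K]

theorem coord_comp_perm (θ : Idx d n) (σ : Equiv.Perm (Fin d)) :
    coord K d n (θ.1 ∘ σ) = ((Equiv.Perm.sign σ : ℤ) : PlRing K d n) * X θ := by
  classical
  have h : (Finset.univ.image (θ.1 ∘ σ)).card = d :=
    (card_image_iff _).2 (θ.2.injective.comp σ.injective)
  rw [coord, dif_pos h, neg_one_pow_invCount]
  have hs : sortIdx d n (θ.1 ∘ σ) h = θ := by
    refine Subtype.ext (Eq.symm ?_)
    exact Finset.orderEmbOfFin_unique h
      (fun x => Finset.mem_image.2 ⟨σ.symm x, Finset.mem_univ _, by simp⟩) θ.2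
  rw [hs]

theorem coord_idx (θ : Idx d n) : coord K d n θ.1 = X θ := by
  simpa using coord_comp_perm (K := K) θ 1

theorem coord_eq_zero (a : Fin d → Fin n) (ha : ¬ Function.Injective a) : coord K d n a = 0 := by
  rw [coord, dif_neg (mt (card_image_iff a).1 ha)]

theorem det_submatrix_eq_zero {S : Type v} [CommRing S] (M : Matrix (Fin n) (Fin d) S)
    (a : Fin d → Fin n) (ha : ¬ Function.Injective a) : (M.submatrix a id).det = 0 := by
  obtain ⟨x, y, hxy, hne⟩ := Function.not_injective_iff.1 ha
  exact Matrix.det_zero_of_row_eq hne (funext fun c => by simp [hxy])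

theorem det_submatrix_perm {S : Type v} [CommRing S] (M : Matrix (Fin n) (Fin d) S)
    (a : Fin d → Fin n) (σ : Equiv.Perm (Fin d)) :
    (M.submatrix (a ∘ σ) id).det = ((Equiv.Perm.sign σ : ℤ) : S) * (M.submatrix a id).det := by
  rw [← Matrix.det_permute]
  rfl

theorem aeval_coord {S : Type v} [CommRing S] [Algebra K S] (M : Matrix (Fin n) (Fin d) S)
    (a : Fin d → Fin n) :
    MvPolynomial.aeval (fun θ : Idx d n => (M.submatrix θ.1 id).det) (coord K d n a) =
      (M.submatrix a id).det := by
  by_cases ha : Function.Injective a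
  · obtain ⟨θ, σ, rfl⟩ := exists_idx_perm a ha
    rw [coord_comp_perm, det_submatrix_perm, map_mul, map_intCast, MvPolynomial.aeval_X]
  · rw [coord_eq_zero a ha, det_submatrix_eq_zero M a ha, map_zero]

theorem evalMinors_coord (M : Matrix (Fin n) (Fin d) K) (a : Fin d → Fin n) :
    evalMinors K d n M (coord K d n a) = (M.submatrix a id).det :=
  aeval_coord M a

theorem pluckerMap_coord (a : Fin d → Fin n) :
    pluckerMap K d n (coord K d n a) = minor K d n a := by
  have h := aeval_coord (K := K)
    (Matrix.of fun (i : Fin n) (t : Fin d) => (X (i, t) : MatRing K d n)) a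
  exact h

/-- minors proportional on increasing tuples are proportional on all tuples -/
theorem det_submatrix_proportional {S : Type v} [CommRing S] (A A' : Matrix (Fin n) (Fin d) S)
    (c : S) (h : ∀ θ : Idx d n, (A.submatrix θ.1 id).det = c * (A'.submatrix θ.1 id).det)
    (a : Fin d → Fin n) : (A.submatrix a id).det = c * (A'.submatrix a id).det := by
  by_cases ha : Function.Injective a
  · obtain ⟨θ, σ, rfl⟩ := exists_idx_perm a ha
    rw [det_submatrix_perm, det_submatrix_perm, h θ]
    ring
  · rw [det_submatrix_eq_zero A a ha, det_submatrix_eq_zero A' a ha, mul_zero]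

/-- the quadratic Plücker relation -/
theorem plucker_relation {S : Type v} [CommRing S] {N : Type*} {e : ℕ}
    (B : Matrix N (Fin (e + 1)) S) (i : Fin e → N) (j : Fin (e + 2) → N) :
    ∑ h : Fin (e + 2), (-1 : S) ^ (h : ℕ) * (B.submatrix (Fin.snoc i (j h)) id).det *
      (B.submatrix (j ∘ h.succAbove) id).det = 0 := by
  classical
  have hz : ∀ c : Fin (e + 1), ∑ h : Fin (e + 2), (-1 : S) ^ (h : ℕ) *
      (B.submatrix (j ∘ h.succAbove) id).det * B (j h) c = 0 := by
    intro c
    let M : Matrix (Fin (e + 2)) (Fin (e + 2)) S :=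
      Matrix.of fun k => Fin.cons (B (j k) c) (fun l => B (j k) l)
    have h0 : M.det = 0 :=
      Matrix.det_zero_of_column_eq (Fin.succ_ne_zero c).symm (fun k => by simp [M])
    rw [Matrix.det_succ_column_zero] at h0
    rw [← h0]
    refine Finset.sum_congr rfl fun k _ => ?_
    have h1 : M.submatrix k.succAbove Fin.succ = B.submatrix (j ∘ k.succAbove) id := by
      ext a b; simp [M]
    rw [h1]
    simp [M]
    ring
  have hexp : ∀ h : Fin (e + 2), (B.submatrix (Fin.snoc i (j h)) id).det =
      ∑ c : Fin (e + 1), B (j h) c *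
        ((-1 : S) ^ (e + (c : ℕ)) * (B.submatrix i c.succAbove).det) := by
    intro h
    rw [Matrix.det_succ_row _ (Fin.last e)]
    refine Finset.sum_congr rfl fun c _ => ?_
    have h1 : (B.submatrix (Fin.snoc i (j h)) id).submatrix (Fin.last e).succAbove c.succAbove =
        B.submatrix i c.succAbove := by
      ext a b; simp [Fin.succAbove_last]
    rw [h1]
    simp
    ring
  simp_rw [hexp, Finset.mul_sum, Finset.sum_mul]
  rw [Finset.sum_comm]
  refine Finset.sum_eq_zero fun c _ => ?_
  have := congrArg (fun z => z * ((-1 : S) ^ (e + (c : ℕ)) * (B.submatrix i c.succAbove).det)) (hz c)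
  simp only [zero_mul, Finset.sum_mul] at this
  rw [← this]
  exact Finset.sum_congr rfl fun h _ => by ring

/-- a matrix over a field has independent columns iff some maximal minor is nonzero -/
theorem linearIndependent_cols_iff_exists_minor {F : Type u} [Field F]
    (A : Matrix (Fin n) (Fin d) F) :
    LinearIndependent F A.transpose ↔ ∃ θ : Idx d n, (A.submatrix θ.1 id).det ≠ 0 := by
  classical
  constructor
  · intro hA
    obtain ⟨κ, a, ha, hspan, hli⟩ := exists_linearIndependent' F A.row
    haveI : Fintype κ := Fintype.ofInjective a ha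
    have hcard : Fintype.card κ = d := by
      have h1 := finrank_span_eq_card hli
      rw [hspan, ← Matrix.rank_eq_finrank_span_row, ← Matrix.rank_transpose] at h1
      rw [← h1, LinearIndependent.rank_matrix (show LinearIndependent F A.transpose.row from hA),
        Fintype.card_fin]
    let e : Fin d ≃ κ := (Fintype.equivFinOfCardEq hcard).symm
    obtain ⟨θ, σ, hσ⟩ := exists_idx_perm (a ∘ e) (ha.comp e.injective)
    refine ⟨θ, fun h0 => ?_⟩
    have hli' : LinearIndependent F (A.submatrix (a ∘ e) id).row := hli.comp e e.injective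
    have hu := (Matrix.isUnit_iff_isUnit_det _).1 (Matrix.linearIndependent_rows_iff_isUnit.1 hli')
    rw [hσ, det_submatrix_perm, h0, mul_zero] at hu
    exact not_isUnit_zero hu
  · rintro ⟨θ, hθ⟩
    have h : LinearIndependent F (A.submatrix θ.1 id).col :=
      Matrix.linearIndependent_cols_iff_isUnit.2
        ((Matrix.isUnit_iff_isUnit_det _).2 (isUnit_iff_ne_zero.2 hθ))
    exact LinearIndependent.of_comp (LinearMap.funLeft F F θ.1) h

end Groth.Agent.W4bk4.Plucker
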