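import Groth.Agent.W4bk4.Opp
import Groth.Agent.S11275

/-!
# Determinantal rings as opposite cells of Schubert varieties
-/

set_option autoImplicit false

open W4bk4grassmannian MvPolynomial Matrix

noncomputable section

universe u v

namespace Groth.Agent.W4bk4.Det

/-- number of entries below `z` -/
def cnt {s N : ℕ} (a : Fin s → Fin N) (z : ℕ) : ℕ :=
  (Finset.univ.filter fun j => (a j).val < z).card

theorem cnt_top {s N : ℕ} (a : Fin s → Fin N) {z : ℕ} (hz : N ≤ z) : cnt a z = s := by
  rw [cnt, Finset.filter_true_of_mem fun j _ => lt_of_lt_of_le (a j).isLt hz, Finset.card_univ,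
    Fintype.card_fin]

theorem lt_cnt_iff {s N : ℕ} (a : Fin s → Fin N) (ha : StrictMono a) (k : Fin s) (z : ℕ) :
    (a k).val < z ↔ k.val < cnt a z := by
  constructor
  · intro h
    have : Finset.Iic k ⊆ Finset.univ.filter fun j => (a j).val < z := fun j hj =>
      Finset.mem_filter.2 ⟨Finset.mem_univ _,
        lt_of_le_of_lt (Fin.le_def.1 (ha.monotone (Finset.mem_Iic.1 hj))) h⟩
    have := Finset.card_le_card this
    rw [Fin.card_Iic] at this
    exact this
  · intro h
    by_contra hc
    have : (Finset.univ.filter fun j => (a j).val < z) ⊆ Finset.Iio k := fun j hj => by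
      rw [Finset.mem_Iio]
      by_contra hk
      exact hc (lt_of_le_of_lt (Fin.le_def.1 (ha.monotone (not_lt.1 hk))) (Finset.mem_filter.1 hj).2)
    have := Finset.card_le_card this
    rw [Fin.card_Iio] at this
    exact absurd h (not_lt.2 this)

theorem dominates_iff {s s' N : ℕ} (a : Fin s → Fin N) (a' : Fin s' → Fin N) (ha : StrictMono a)
    (ha' : StrictMono a') :
    (s ≤ s' ∧ ∀ (j : Fin s) (j' : Fin s'), j.val = j'.val → a' j' ≤ a j) ↔
      ∀ z, cnt a z ≤ cnt a' z := by
  constructor
  · rintro ⟨hs, h⟩ z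
    have : (Finset.univ.filter fun j => (a j).val < z).image (Fin.castLE hs) ⊆
        Finset.univ.filter fun j => (a' j).val < z := by
      intro x hx
      obtain ⟨j, hj, rfl⟩ := Finset.mem_image.1 hx
      refine Finset.mem_filter.2 ⟨Finset.mem_univ _, ?_⟩
      have h1 := Fin.le_def.1 (h j (Fin.castLE hs j) rfl)
      have := (Finset.mem_filter.1 hj).2
      omega
    have := Finset.card_le_card this
    rwa [Finset.card_image_of_injective _ (Fin.castLE_injective hs)] at this
  · intro h
    refine ⟨by simpa [cnt_top a le_rfl, cnt_top a' le_rfl] using h N, fun j j' hjj => ?_⟩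
    have h1 : j.val < cnt a ((a j).val + 1) := (lt_cnt_iff a ha j _).1 (Nat.lt_succ_self _)
    have h2 := (lt_cnt_iff a' ha' j' _).2 (lt_of_lt_of_le (hjj ▸ h1) (h _))
    exact Fin.le_def.2 (Nat.lt_succ_iff.1 h2)

theorem idx_le_iff {d N : ℕ} (θ φ : Idx d N) : θ ≤ φ ↔ ∀ z, cnt φ.1 z ≤ cnt θ.1 z := by
  rw [← dominates_iff φ.1 θ.1 φ.2 θ.2]
  constructor
  · intro h
    exact ⟨le_rfl, fun j j' hj => by obtain rfl := Fin.ext hj; exact h j⟩
  · intro h j
    exact h.2 j j rfl

variable {d r : ℕ}

/-- rows: identity outside the range of `g`, the row `f s` of the lower block at `g s` -/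
def cellRow {t : ℕ} (f : Fin t → Fin r) (g : Fin t → Fin d) (c : Fin d) : Fin (d + r) :=
  if h : ∃ s, g s = c then Fin.natAdd d (f h.choose) else Fin.castAdd r c

theorem cellRow_apply {t : ℕ} (f : Fin t → Fin r) (g : Fin t → Fin d) (hg : Function.Injective g)
    (s : Fin t) : cellRow f g (g s) = Fin.natAdd d (f s) := by
  have h : ∃ s', g s' = g s := ⟨s, rfl⟩
  simp only [cellRow, dif_pos h]
  rw [hg h.choose_spec]

theorem cellRow_not {t : ℕ} (f : Fin t → Fin r) (g : Fin t → Fin d) {c : Fin d}
    (h : ¬ ∃ s, g s = c) : cellRow f g c = Fin.castAdd r c := dif_neg h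

theorem cellRow_injective {t : ℕ} (f : Fin t → Fin r) (g : Fin t → Fin d)
    (hf : Function.Injective f) (hg : Function.Injective g) : Function.Injective (cellRow f g) := by
  intro x y hxy
  by_cases hx : ∃ s, g s = x <;> by_cases hy : ∃ s, g s = y
  · obtain ⟨s, rfl⟩ := hx; obtain ⟨s', rfl⟩ := hy
    rw [cellRow_apply f g hg, cellRow_apply f g hg] at hxy
    rw [hf ((Fin.natAdd_inj _).1 hxy)]
  · obtain ⟨s, rfl⟩ := hx
    rw [cellRow_apply f g hg, cellRow_not f g hy] at hxy
    have := congrArg Fin.val hxy; simp at this; omega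
  · obtain ⟨s, rfl⟩ := hy
    rw [cellRow_apply f g hg, cellRow_not f g hx] at hxy
    have := congrArg Fin.val hxy; simp at this; omega
  · rw [cellRow_not f g hx, cellRow_not f g hy] at hxy
    exact Fin.castAdd_injective _ _ hxy

variable (K : Type u) [CommRing K]

theorem det_cellRow {t : ℕ} (f : Fin t → Fin r) (g : Fin t → Fin d) (hg : Function.Injective g) :
    ((cellMatrix K d r).submatrix (cellRow f g) id).det = ((genMatrix K r d).submatrix f g).det := by
  classical
  let M := cellMatrix K d r
  let p : Fin d → Prop := fun c => c ∈ Set.range g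
  rw [Matrix.twoBlockTriangular_det _ p]
  · have h2 : (M.submatrix (cellRow f g) id).toSquareBlockProp (fun i => ¬ p i) = 1 := by
      ext i j
      have hi : ¬ ∃ s, g s = i.1 := i.2
      simp only [Matrix.toSquareBlockProp, Matrix.toBlock_apply, Matrix.submatrix_apply, id_eq]
      rw [cellRow_not f g hi]
      simp [M, cellMatrix, Matrix.one_apply, Subtype.ext_iff, Fin.val_inj]
    rw [h2, Matrix.det_one, mul_one]
    let e : Fin t ≃ {c // p c} := Equiv.ofInjective g hg
    have h4 : ((M.submatrix (cellRow f g) id).toSquareBlockProp p).submatrix e e =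
        (genMatrix K r d).submatrix f g := by
      refine Matrix.ext fun i j => ?_
      change M (cellRow f g (g i)) (g j) = genMatrix K r d (f i) (g j)
      rw [cellRow_apply f g hg]
      simp [M, cellMatrix, genMatrix]
    rw [← h4]
    convert (Matrix.det_submatrix_equiv_self e ((M.submatrix (cellRow f g) id).toSquareBlockProp p)).symm
  · intro i hi j hj
    simp only [Matrix.submatrix_apply, id_eq]
    rw [cellRow_not f g hi]
    have : i ≠ j := fun h => hi (h ▸ hj)
    simp [cellMatrix, Fin.val_ne_iff.2 this]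

variable (d r)

/-- reverse the rows of the generic block -/
def flip : CellRing K d r →ₐ[K] CellRing K d r := rename fun p : Fin r × Fin d => (p.1.rev, p.2)

theorem flip_flip (f : CellRing K d r) : flip d r K (flip d r K f) = f := by
  rw [flip, rename_rename,
    show ((fun p : Fin r × Fin d => (p.1.rev, p.2)) ∘ fun p : Fin r × Fin d => (p.1.rev, p.2)) = id from
      funext fun p => by simp]
  exact rename_id_apply f

/-- `[I_d ; Z]` with the rows of `Z` reversed -/
def cmat : Matrix (Fin (d + r)) (Fin d) (CellRing K d r) := (cellMatrix K d r).map (flip d r K)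

/-- Plücker coordinates on the opposite cell -/
def cmap : PlRing K d (d + r) →ₐ[K] CellRing K d r :=
  MvPolynomial.aeval fun θ : Idx d (d + r) => ((cmat d r K).submatrix θ.1 id).det

theorem cmap_X (θ : Idx d (d + r)) : cmap d r K (X θ) = flip d r K (cellMinor K d r θ) := by
  rw [cmap, aeval_X, cmat, Matrix.submatrix_map, cellMinor, AlgHom.map_det]
  rfl

theorem cmap_coord (a : Fin d → Fin (d + r)) :
    cmap d r K (coord K d (d + r) a) = flip d r K ((cellMatrix K d r).submatrix a id).det := by
  rw [cmap, Plucker.aeval_coord, cmat, Matrix.submatrix_map, AlgHom.map_det]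
  rfl

variable {d r}

theorem cmat_top (s t : Fin d) : cmat d r K (Fin.castAdd r s) t = if s = t then 1 else 0 := by
  simp [cmat, cellMatrix, Fin.val_inj, apply_ite (flip d r K)]

theorem cmat_bot (i : Fin r) (t : Fin d) : cmat d r K (Fin.natAdd d i) t = X (i.rev, t) := by
  simp [cmat, cellMatrix, flip]

theorem botIdx_eq (s : Fin d) :
    (Bottom.botIdx (Nat.le_add_right d r)).1 s = Fin.castAdd r s := rfl

theorem cmap_bot : cmap d r K (X (Bottom.botIdx (Nat.le_add_right d r))) = 1 := by
  rw [cmap, aeval_X, show (cmat d r K).submatrix (Bottom.botIdx (Nat.le_add_right d r)).1 id = 1 from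
    Matrix.ext fun s t => by simp [botIdx_eq, cmat_top, Matrix.one_apply], Matrix.det_one]

/-- the coordinate recovering an entry of the cell -/
def entry (p : Fin r × Fin d) : PlRing K d (d + r) :=
  coord K d (d + r)
    (Function.update (Bottom.botIdx (Nat.le_add_right d r)).1 p.2 (Fin.natAdd d p.1.rev))

theorem cmap_entry (p : Fin r × Fin d) : cmap d r K (entry K p) = X p := by
  rw [cmap, entry, Plucker.aeval_coord]
  have hrow : (cmat d r K).submatrix
      (Function.update (Bottom.botIdx (Nat.le_add_right d r)).1 p.2 (Fin.natAdd d p.1.rev)) id =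
      (1 : Matrix (Fin d) (Fin d) (CellRing K d r)).updateRow p.2 (cmat d r K (Fin.natAdd d p.1.rev)) := by
    ext a b
    by_cases ha : a = p.2
    · subst ha; simp
    · simp [Matrix.updateRow_ne ha, Function.update_of_ne ha, botIdx_eq, cmat_top, Matrix.one_apply]
  rw [hrow, ← Matrix.cramer_transpose_apply, Matrix.transpose_one, Matrix.cramer_one]
  simp [cmat_bot]

theorem cmap_surjective : Function.Surjective (cmap d r K) := fun f =>
  ⟨aeval (entry K) f, by
    have : (cmap d r K).comp (aeval (entry K)) = AlgHom.id K (CellRing K d r) :=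
      MvPolynomial.algHom_ext fun p => by simp [cmap_entry]
    exact AlgHom.congr_fun this f⟩

/-- ideal of the cell of `X(w)` -/
def cellIdeal (w : Idx d (d + r)) : Ideal (CellRing K d r) :=
  Ideal.span {f | ∃ θ : Idx d (d + r), ¬ θ ≤ w ∧ f = cmap d r K (X θ)}

theorem flip_minorIdeal (t : ℕ) :
    (CAlgX.minorIdeal (genMatrix K r d) t).map (flip d r K).toRingHom =
      CAlgX.minorIdeal (genMatrix K r d) t := by
  have hle : (CAlgX.minorIdeal (genMatrix K r d) t).map (flip d r K).toRingHom ≤
      CAlgX.minorIdeal (genMatrix K r d) t := by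
    rw [Ideal.map_le_iff_le_comap, CAlgX.minorIdeal, Ideal.span_le]
    rintro _ ⟨⟨f, g⟩, rfl⟩
    refine Ideal.subset_span ⟨(Fin.rev ∘ f, g), ?_⟩
    change _ = flip d r K ((genMatrix K r d).submatrix f g).det
    rw [AlgHom.map_det]
    refine congrArg Matrix.det (Matrix.ext fun i j => ?_)
    simp [flip, genMatrix]
  refine le_antisymm hle fun f hf => ?_
  rw [← flip_flip d r K f]
  exact Ideal.mem_map_of_mem _ (hle (Ideal.mem_map_of_mem _ hf))

/-- the Schubert index of the determinantal variety `D_t` -/
def wIdx (t : ℕ) (ht : 1 ≤ t) (htr : t ≤ r + 1) : Idx d (d + r) :=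
  ⟨fun s => ⟨if s.val + t ≤ d then t - 1 + s.val else r + s.val, by
      have := s.isLt; split <;> omega⟩, fun a b hab => by
    have : a.val < b.val := hab
    rw [Fin.lt_def]
    dsimp only
    split <;> split <;> omega⟩

theorem le_wIdx_iff (t : ℕ) (ht : 1 ≤ t) (htr : t ≤ r + 1) (θ : Idx d (d + r)) :
    θ ≤ wIdx t ht htr ↔ (t ≤ d → d + 1 - t ≤ cnt θ.1 d) := by
  constructor
  · intro h htd
    have h1 := Fin.le_def.1 (h ⟨d - t, by omega⟩)
    simp only [wIdx] at h1
    rw [if_pos (by omega)] at h1
    have h2 := (lt_cnt_iff θ.1 θ.2 ⟨d - t, by omega⟩ d).1 (by omega)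
    simp only at h2
    omega
  · intro h s
    rw [Fin.le_def]
    simp only [wIdx]
    split
    · rename_i hs
      have hk : d - t < cnt θ.1 d := by have := h (by omega); omega
      have h1 := (lt_cnt_iff θ.1 θ.2 ⟨d - t, by omega⟩ d).2 hk
      suffices ∀ j, ∀ s : Fin d, s.val + j + t = d → (θ.1 s).val + j < d by
        have := this (d - t - s.val) s (by omega)
        omega
      intro j
      induction j with
      | zero => intro s hs'; rw [show s = ⟨d - t, by omega⟩ from Fin.ext (by simp; omega)]; omega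
      | succ j ih =>
        intro s hs'
        have h2 := Fin.lt_def.1 (θ.2 (show s < (⟨s.val + 1, by omega⟩ : Fin d) from
          Fin.lt_def.2 (Nat.lt_succ_self _)))
        have h3 := ih ⟨s.val + 1, by omega⟩ (by simp; omega)
        omega
    · have := Fin.le_def.1 (Schubert.le_topIdx (Nat.le_add_right d r) θ s)
      simp only [Schubert.topIdx] at this
      omega

theorem cnt_top_top (θ : Idx d (d + r)) : d - r ≤ cnt θ.1 d := by
  by_contra hc
  push Not at hc
  let k : Fin d := ⟨cnt θ.1 d, by omega⟩
  have h1 : ¬ (θ.1 k).val < d := fun h => (lt_irrefl _) ((lt_cnt_iff θ.1 θ.2 k d).1 h)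
  have h2 := Fin.le_def.1 (Schubert.le_topIdx (Nat.le_add_right d r) θ k)
  simp only [Schubert.topIdx, k] at h2 h1
  omega

theorem cellIdeal_wIdx (t : ℕ) (hd : 0 < d) (ht : 1 ≤ t) (htr : t ≤ r + 1) (htd : t ≤ d + 1) :
    cellIdeal K (wIdx t ht htr) = CAlgX.minorIdeal (genMatrix K r d) t := by
  classical
  by_cases hmax : t ≤ d ∧ t ≤ r
  · rw [← flip_minorIdeal K t, ← Groth.Agent.S11275.result K d r t hd ht hmax.1 hmax.2, Ideal.map_span]
    refine congrArg Ideal.span ?_
    ext f
    have hiff : ∀ θ : Idx d (d + r), ¬ θ ≤ wIdx t ht htr ↔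
        d ≤ (θ.1 ⟨d - t, Nat.sub_lt hd ht⟩).val := by
      intro θ
      rw [le_wIdx_iff]
      constructor
      · intro h
        by_contra hc
        refine h fun _ => ?_
        have h2 := (lt_cnt_iff θ.1 θ.2 _ d).1 (not_le.1 hc)
        simp only at h2
        omega
      · intro h h'
        have h2 := (lt_cnt_iff θ.1 θ.2 ⟨d - t, Nat.sub_lt hd ht⟩ d).2
          (show d - t < _ by have := h' hmax.1; omega)
        omega
    constructor
    · rintro ⟨θ, hθ, rfl⟩
      exact ⟨_, ⟨θ, (hiff θ).1 hθ, rfl⟩, (cmap_X d r K θ).symm⟩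
    · rintro ⟨_, ⟨θ, hθ, rfl⟩, rfl⟩
      exact ⟨θ, (hiff θ).2 hθ, (cmap_X d r K θ).symm⟩
  · have h1 : CAlgX.minorIdeal (genMatrix K r d) t = ⊥ := by
      rw [CAlgX.minorIdeal, Ideal.span_eq_bot]
      rintro _ ⟨⟨f, g⟩, rfl⟩
      by_cases hf : Function.Injective f
      swap
      · obtain ⟨x, y, hxy, hne⟩ := Function.not_injective_iff.1 hf
        exact Matrix.det_zero_of_row_eq hne (funext fun c => by simp [hxy])
      by_cases hg : Function.Injective g
      swap
      · obtain ⟨x, y, hxy, hne⟩ := Function.not_injective_iff.1 hg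
        exact Matrix.det_zero_of_column_eq hne (fun c => by simp [hxy])
      have := Fintype.card_le_of_injective f hf
      have := Fintype.card_le_of_injective g hg
      simp at *
      omega
    have h2 : ∀ θ : Idx d (d + r), θ ≤ wIdx t ht htr := by
      intro θ
      rw [le_wIdx_iff]
      intro htd'
      have := cnt_top_top θ
      omega
    rw [h1, cellIdeal, Ideal.span_eq_bot]
    rintro _ ⟨θ, hθ, -⟩
    exact absurd (h2 θ) hθ

theorem codeg_wIdx (t : ℕ) (ht : 1 ≤ t) (htr : t ≤ r + 1) (htd : t ≤ d + 1) :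
    codeg (wIdx (d := d) t ht htr) = (t - 1) * (d + r - t + 1) := by
  classical
  have h : codeg (wIdx (d := d) t ht htr) =
      ∑ s : Fin d, if s.val < d + 1 - t then t - 1 else r := by
    refine Finset.sum_congr rfl fun s _ => ?_
    simp only [wIdx]
    split <;> split <;> omega
  rw [h, Finset.sum_ite, Finset.sum_const, Finset.sum_const, smul_eq_mul, smul_eq_mul]
  have h1 : (Finset.univ.filter fun s : Fin d => s.val < d + 1 - t).card = d + 1 - t := by
    rw [Fin.card_filter_val_lt]
    omega
  have h2 := Finset.card_filter_add_card_filter_not (s := (Finset.univ : Finset (Fin d)))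
    (fun s => s.val < d + 1 - t)
  rw [h1, Finset.card_univ, Fintype.card_fin] at h2
  rw [h1, show (Finset.univ.filter fun s : Fin d => ¬ s.val < d + 1 - t).card = t - 1 by omega]
  obtain ⟨u, rfl⟩ : ∃ u, t = u + 1 := ⟨t - 1, by omega⟩
  obtain ⟨e, rfl⟩ : ∃ e, d = u + e := ⟨d - u, by omega⟩
  rw [show u + e + 1 - (u + 1) = e by omega, show u + 1 - 1 = u by omega]
  rcases Nat.eq_zero_or_pos (e + r) with h0 | h0
  · rw [show u = 0 by omega]; simp
  · rw [show u + e + r - (u + 1) + 1 = e + r by omega]
    ring

section field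

variable (K : Type u) [Field K] [IsAlgClosed K]

theorem minor_relation (hd : 0 < d) (w θ : Idx d (d + r)) :
    X (Bottom.botIdx (Nat.le_add_right d r)) ^ (d - 1) * X θ -
      (Matrix.of fun s t : Fin d => coord K d (d + r)
        (Function.update (Bottom.botIdx (Nat.le_add_right d r)).1 t (θ.1 s))).det ∈
      schubertVanishing K d (d + r) w := by
  classical
  set b := Bottom.botIdx (Nat.le_add_right d r) with hb
  haveI := Schubert.schubertVanishing_isPrime K hd w
  refine (Ideal.IsPrime.mem_or_mem (inferInstance : (schubertVanishing K d (d + r) w).IsPrime) ?_).resolve_left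
    (Opp.bot_notMem K hd (Nat.le_add_right d r) w)
  simp only [schubertVanishing, Ideal.mem_iInf]
  intro A _
  change evalMinors K d (d + r) A (X b * _) = 0
  have hX : ∀ φ : Idx d (d + r), evalMinors K d (d + r) A (X φ) = (A.submatrix φ.1 id).det := fun φ => by
    simp [evalMinors]
  rw [map_mul, hX]
  by_cases hδ : (A.submatrix b.1 id).det = 0
  · rw [hδ, zero_mul]
  refine mul_eq_zero_of_right _ ?_
  set A0 := A.submatrix b.1 id with hA0
  have hu : IsUnit A0.det := isUnit_iff_ne_zero.2 hδ
  let A' := A * A0⁻¹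
  have hA' : ∀ a : Fin d → Fin (d + r),
      (A.submatrix a id).det = (A'.submatrix a id).det * A0.det := by
    intro a
    rw [show A'.submatrix a id = A.submatrix a id * A0⁻¹ from
      (Matrix.submatrix_mul A A0⁻¹ a id id Function.bijective_id).trans (by simp),
      Matrix.det_mul, Matrix.det_nonsing_inv, Ring.inverse_eq_inv', mul_assoc,
      inv_mul_cancel₀ hδ, mul_one]
  have h1 : A'.submatrix b.1 id = 1 := by
    rw [show A'.submatrix b.1 id = A0 * A0⁻¹ from
      (Matrix.submatrix_mul A A0⁻¹ b.1 id id Function.bijective_id).trans (by simp [hA0]),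
      Matrix.mul_nonsing_inv _ hu]
  have hentry : ∀ (i : Fin (d + r)) (t : Fin d),
      evalMinors K d (d + r) A (coord K d (d + r) (Function.update b.1 t i)) = A' i t * A0.det := by
    intro i t
    rw [Plucker.evalMinors_coord, hA']
    congr 1
    have : A'.submatrix (Function.update b.1 t i) id =
        (1 : Matrix (Fin d) (Fin d) K).updateRow t (A' i) := by
      rw [← h1]; ext x y
      by_cases hx : x = t
      · subst hx; simp
      · simp [Matrix.updateRow_ne hx, Function.update_of_ne hx]
    rw [this, ← Matrix.cramer_transpose_apply, Matrix.transpose_one, Matrix.cramer_one]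
    rfl
  rw [map_sub, map_mul, map_pow, hX, hX, ← hA0, AlgHom.map_det, hA' θ.1, sub_eq_zero]
  have : (evalMinors K d (d + r) A).mapMatrix
      (Matrix.of fun s t : Fin d => coord K d (d + r) (Function.update b.1 t (θ.1 s))) =
      A0.det • A'.submatrix θ.1 id := by
    refine Matrix.ext fun s t => ?_
    simp [hentry, mul_comm]
  rw [this, Matrix.det_smul, Fintype.card_fin]
  obtain ⟨e, rfl⟩ : ∃ e, d = e + 1 := ⟨d - 1, by omega⟩
  rw [Nat.add_sub_cancel, pow_succ]
  ring

theorem ker_cmap (hd : 0 < d) (w : Idx d (d + r)) (f : PlRing K d (d + r)) :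
    cmap d r K f ∈ cellIdeal K w ↔ f ∈ Opp.Q K (Nat.le_add_right d r) w := by
  classical
  set b := Bottom.botIdx (Nat.le_add_right d r) with hb
  constructor
  · intro hf
    let η : CellRing K d r →ₐ[K] PlRing K d (d + r) ⧸ Opp.Q K (Nat.le_add_right d r) w :=
      aeval fun p => Ideal.Quotient.mkₐ K _ (entry K p)
    have hmkb : Ideal.Quotient.mkₐ K (Opp.Q K (Nat.le_add_right d r) w) (X b) = 1 := by
      rw [← map_one (Ideal.Quotient.mkₐ K (Opp.Q K (Nat.le_add_right d r) w)),
        Ideal.Quotient.mkₐ_eq_mk, Ideal.Quotient.eq]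
      exact Ideal.mem_sup_right (Ideal.mem_span_singleton_self _)
    have hη : ∀ (i : Fin (d + r)) (t : Fin d), η (cmat d r K i t) =
        Ideal.Quotient.mkₐ K _ (coord K d (d + r) (Function.update b.1 t i)) := by
      intro i t
      induction i using Fin.addCases with
      | left s =>
        rw [cmat_top]
        by_cases hst : s = t
        · subst hst
          rw [if_pos rfl, map_one, ← botIdx_eq, Function.update_eq_self, Plucker.coord_idx, hmkb]
        · rw [if_neg hst, map_zero, Plucker.coord_eq_zero, map_zero]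
          intro hinj
          refine hst (hinj ?_)
          rw [Function.update_of_ne hst, Function.update_self, botIdx_eq]
      | right i =>
        rw [cmat_bot, show η (X (i.rev, t)) = Ideal.Quotient.mkₐ K _ (entry K (i.rev, t)) from
          aeval_X _ _, entry, Fin.rev_rev]
    have hcomp : η.comp (cmap d r K) = Ideal.Quotient.mkₐ K _ := by
      refine MvPolynomial.algHom_ext fun θ => ?_
      rw [AlgHom.comp_apply, cmap, aeval_X, AlgHom.map_det]
      have h2 : η.mapMatrix ((cmat d r K).submatrix θ.1 id) =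
          (Ideal.Quotient.mkₐ K (Opp.Q K (Nat.le_add_right d r) w)).mapMatrix
            (Matrix.of fun s t : Fin d => coord K d (d + r) (Function.update b.1 t (θ.1 s))) := by
        refine Matrix.ext fun s t => ?_
        simpa using hη (θ.1 s) t
      rw [h2, ← AlgHom.map_det]
      have h3 := Ideal.Quotient.eq.2 (show X b ^ (d - 1) * X θ -
        (Matrix.of fun s t : Fin d => coord K d (d + r) (Function.update b.1 t (θ.1 s))).det ∈
          Opp.Q K (Nat.le_add_right d r) w from Ideal.mem_sup_left (minor_relation K hd w θ))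
      rw [← Ideal.Quotient.mkₐ_eq_mk K, map_mul, map_pow, hmkb, one_pow, one_mul] at h3
      exact h3.symm
    have hIw : cellIdeal K w ≤ RingHom.ker η.toRingHom := by
      rw [cellIdeal, Ideal.span_le]
      rintro _ ⟨θ, hθ, rfl⟩
      change (η.comp (cmap d r K)) (X θ) = 0
      rw [hcomp]
      refine Ideal.Quotient.eq_zero_iff_mem.2 (Ideal.mem_sup_left ?_)
      rw [Basis.mem_schubertVanishing_iff K hd]
      exact Schubert.phi_X_eq_zero K hθ
    have h4 : (η.comp (cmap d r K)) f = 0 := hIw hf
    rw [hcomp] at h4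
    exact Ideal.Quotient.eq_zero_iff_mem.1 h4
  · intro hf
    suffices h : Opp.Q K (Nat.le_add_right d r) w ≤ (cellIdeal K w).comap (cmap d r K) from h hf
    refine sup_le ?_ ((Ideal.span_singleton_le_iff_mem _).2 ?_)
    · rw [Schubert.schubertVanishing_eq_plIdeal K hd, plIdeal, Ideal.span_le]
      rintro g (⟨i, j, s, -, rfl⟩ | ⟨φ, hφ, rfl⟩)
      · change cmap d r K _ ∈ cellIdeal K w
        rw [show cmap d r K (shuffleRel K i j s) = 0 from Shuffle.aeval_shuffleRel (cmat d r K) i j s]
        exact zero_mem _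
      · exact Ideal.subset_span ⟨φ, hφ, rfl⟩
    · change cmap d r K (X b - 1) ∈ cellIdeal K w
      rw [map_sub, cmap_bot, map_one, sub_self]
      exact zero_mem _

/-- the opposite cell of `X(w)` -/
def equiv (hd : 0 < d) (w : Idx d (d + r)) :
    (PlRing K d (d + r) ⧸ Opp.Q K (Nat.le_add_right d r) w) ≃ₐ[K] CellRing K d r ⧸ cellIdeal K w :=
  AlgEquiv.ofBijective
    (Ideal.Quotient.liftₐ _ ((Ideal.Quotient.mkₐ K (cellIdeal K w)).comp (cmap d r K))
      fun f hf => Ideal.Quotient.eq_zero_iff_mem.2 ((ker_cmap K hd w f).2 hf))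
    ⟨RingHom.lift_injective_of_ker_le_ideal _ _ fun f hf =>
        (ker_cmap K hd w f).1 (Ideal.Quotient.eq_zero_iff_mem.1 hf),
      fun z => by
        obtain ⟨g, rfl⟩ := Ideal.Quotient.mk_surjective z
        obtain ⟨f, rfl⟩ := cmap_surjective K g
        exact ⟨Ideal.Quotient.mk _ f, rfl⟩⟩

theorem equiv_mk (hd : 0 < d) (w : Idx d (d + r)) (f : PlRing K d (d + r)) :
    equiv K hd w (Ideal.Quotient.mkₐ K _ f) = Ideal.Quotient.mk _ (cmap d r K f) := rfl

end field

end Groth.Agent.W4bk4.Det
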