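import Groth.Agent.W4bk4.Schubert
import Mathlib.FieldTheory.IsAlgClosed.Basic

/-!
# Standard monomial bases: ideals of unions of Schubert varieties, killing variables, row content
-/

set_option autoImplicit false

open W4bk4grassmannian MvPolynomial

noncomputable section

universe u v

namespace Groth.Agent.W4bk4.Basis

section kill

variable {σ : Type v} {K : Type u} [CommRing K]

/-- set the variables outside `p` to zero -/
def kill (p : σ → Prop) [DecidablePred p] : MvPolynomial σ K →ₐ[K] MvPolynomial σ K :=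
  MvPolynomial.aeval fun x => if p x then X x else 0

theorem kill_monomial (p : σ → Prop) [DecidablePred p] (e : σ →₀ ℕ) (a : K) :
    kill p (monomial e a) = if (∀ x ∈ e.support, p x) then monomial e a else 0 := by
  classical
  rw [kill, aeval_monomial]
  split
  · rename_i h
    rw [monomial_eq, MvPolynomial.algebraMap_eq]
    congr 1
    exact Finset.prod_congr rfl fun x hx => by simp [h x hx]
  · rename_i h
    push Not at h
    obtain ⟨x, hx, hpx⟩ := h
    rw [Finsupp.prod, Finset.prod_eq_zero hx, mul_zero]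
    rw [if_neg hpx, zero_pow (Finsupp.mem_support_iff.1 hx)]

theorem coeff_kill (p : σ → Prop) [DecidablePred p] (f : MvPolynomial σ K) (e : σ →₀ ℕ) :
    (kill p f).coeff e = if (∀ x ∈ e.support, p x) then f.coeff e else 0 := by
  classical
  induction f using MvPolynomial.induction_on' with
  | monomial u a =>
    rw [kill_monomial]
    by_cases hue : u = e
    · subst hue; split <;> simp
    · simp [coeff_monomial, hue]
      split <;> simp [coeff_monomial, hue]
  | add f g hf hg =>
    rw [map_add, coeff_add, hf, hg, coeff_add]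
    split <;> simp

theorem isLead_kill {w : σ → ℕ} (p : σ → Prop) [DecidablePred p] {f : MvPolynomial σ K}
    {e : σ →₀ ℕ} (h : Lead.IsLead w f e) (he : ∀ x ∈ e.support, p x) :
    Lead.IsLead w (kill p f) e := by
  classical
  refine ⟨by rw [coeff_kill, if_pos he, h.1], fun x hx => h.2 x ?_⟩
  rw [mem_support_iff, coeff_kill] at hx
  rw [mem_support_iff]
  intro h0
  rw [h0] at hx
  simp at hx

end kill

variable {d n : ℕ}

/-- all standard monomials -/
abbrev Chain (d n : ℕ) : Type := Σ m : ℕ, {c : Fin m → Idx d n // Antitone c}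

/-- a chain lies below `τ` -/
def Below' (τ : Idx d n) (c : Chain d n) : Prop := ∀ k, c.2.1 k ≤ τ

/-- the monomial of a chain -/
def mon (K : Type u) [CommRing K] (c : Chain d n) : PlRing K d n := chainMon K c.2.1

/-- exponent of the leading term of a chain -/
def dg (c : Chain d n) : (Fin n × Fin d) →₀ ℕ := Schubert.chainDiag c.2.1

theorem dg_injective (hd : 0 < d) : Function.Injective (dg (d := d) (n := n)) :=
  Schubert.chainDiag_injective hd

variable (K : Type u) [CommRing K]

theorem isLead_phi {τ : Idx d n} {c : Chain d n} (h : Below' τ c) :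
    Lead.IsLead (Schubert.wt (n := n) (d := d)) (Schubert.phi K τ (mon K c)) (dg c) :=
  Schubert.isLead_phi_chain K _ h

theorem phi_eq_zero {τ : Idx d n} {c : Chain d n} (h : ¬ Below' τ c) :
    Schubert.phi K τ (mon K c) = 0 := by
  obtain ⟨k, hk⟩ := not_forall.1 h
  exact Schubert.phi_chain_eq_zero K _ k hk

/-- a map of the form `kill p ∘ phi τ`: surviving chains stay independent -/
theorem coeff_eq_zero (hd : 0 < d) (p : Fin n × Fin d → Prop) [DecidablePred p] (τ : Idx d n)
    (S : Set (Chain d n)) (hS : ∀ c ∈ S, Below' τ c ∧ ∀ x ∈ (dg c).support, p x)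
    (l : Chain d n →₀ K)
    (hz : ∀ c, c ∉ S → l c = 0 ∨ kill p (Schubert.phi K τ (mon K c)) = 0)
    (h : kill p (Schubert.phi K τ (Finsupp.linearCombination K (mon K) l)) = 0)
    {c : Chain d n} (hc : c ∈ S) : l c = 0 := by
  classical
  have hli : LinearIndependent K fun x : S => kill p (Schubert.phi K τ (mon K x.1)) :=
    Lead.linearIndependent_of_isLead (w := Schubert.wt (n := n) (d := d)) _ (fun x : S => dg x.1)
      (fun x => isLead_kill p (isLead_phi K (hS _ x.2).1) (hS _ x.2).2)
      (fun x y hxy => Subtype.ext (dg_injective hd hxy))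
  have h0 := (linearIndependent_iff.1 hli) (l.subtypeDomain fun x => x ∈ S) ?_
  · simpa using congrArg (fun z => z (⟨c, hc⟩ : S)) h0
  rw [Finsupp.linearCombination_apply, Finsupp.sum, map_sum, map_sum] at h
  rw [Finsupp.linearCombination_apply, Finsupp.sum, Finsupp.support_subtypeDomain]
  simp only [Finsupp.subtypeDomain_apply]
  rw [Finset.sum_subtype_eq_sum_filter (fun x => l x • kill p (Schubert.phi K τ (mon K x)))]
  rw [← h, Finset.sum_filter]
  refine Finset.sum_congr rfl fun x hx => ?_
  by_cases hxS : x ∈ S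
  · rw [if_pos hxS, map_smul, map_smul]
  · rw [if_neg hxS, map_smul, map_smul]
    rcases hz x hxS with h' | h' <;> simp [h']

theorem mem_plIdeal_of_not_below {τ : Idx d n} {c : Chain d n} (h : ¬ Below' τ c) :
    mon K c ∈ plIdeal K τ := by
  obtain ⟨k, hk⟩ := not_forall.1 h
  rw [mon, chainMon, ← Finset.mul_prod_erase _ _ (Finset.mem_univ k)]
  exact Ideal.mul_mem_right _ _ (Ideal.subset_span (Or.inr ⟨c.2.1 k, hk, rfl⟩))

theorem phi_coeff_eq_zero (hd : 0 < d) (τ : Idx d n) (l : Chain d n →₀ K)
    (h : Schubert.phi K τ (Finsupp.linearCombination K (mon K) l) = 0)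
    {c : Chain d n} (hc : Below' τ c) : l c = 0 := by
  classical
  refine coeff_eq_zero K hd (fun _ => True) τ {c | Below' τ c} (fun x hx => ⟨hx, fun _ _ => trivial⟩)
    l (fun x hx => Or.inr ?_) ?_ hc
  · rw [phi_eq_zero K hx, map_zero]
  · rw [h, map_zero]

theorem exists_repr (f : PlRing K d n) : ∃ (l : Chain d n →₀ K) (g : PlRing K d n),
    g ∈ plIdealTop (d := d) (n := n) K ∧ f = g + Finsupp.linearCombination K (mon K) l := by
  obtain ⟨g, hg, h, hh, rfl⟩ := Submodule.mem_sup.1 (Straighten.mem_span_all K f)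
  obtain ⟨l, hl⟩ := Finsupp.mem_span_range_iff_exists_finsupp.1 hh
  exact ⟨l, g, hg, by rw [Finsupp.linearCombination_apply]; simp only [mon]; rw [hl]⟩

theorem phi_plIdealTop {τ : Idx d n} {g : PlRing K d n} (hg : g ∈ plIdealTop (d := d) (n := n) K) :
    Schubert.phi K τ g = 0 :=
  Schubert.plIdeal_le_ker K τ
    ((Ideal.span_mono Set.subset_union_left : plIdealTop K ≤ plIdeal K τ) hg)

section field

variable (K : Type u) [Field K] [Infinite K]

theorem mem_schubertVanishing_iff (hd : 0 < d) (τ : Idx d n) (f : PlRing K d n) :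
    f ∈ schubertVanishing K d n τ ↔ Schubert.phi K τ f = 0 := by
  rw [Schubert.schubertVanishing_eq_ker K hd τ]; exact Iff.rfl

theorem plIdealTop_le (hd : 0 < d) (τ : Idx d n) :
    plIdealTop (d := d) (n := n) K ≤ schubertVanishing K d n τ := fun _ hg =>
  (mem_schubertVanishing_iff K hd τ _).2 (phi_plIdealTop K hg)

theorem mon_mem_of_not_below (hd : 0 < d) {τ : Idx d n} {c : Chain d n} (h : ¬ Below' τ c) :
    mon K c ∈ schubertVanishing K d n τ :=
  (mem_schubertVanishing_iff K hd τ _).2 (phi_eq_zero K h)

theorem schubert_iff_repr (hd : 0 < d) (τ : Idx d n) {f g : PlRing K d n} {l : Chain d n →₀ K}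
    (hg : g ∈ plIdealTop (d := d) (n := n) K) (hf : f = g + Finsupp.linearCombination K (mon K) l) :
    f ∈ schubertVanishing K d n τ ↔ ∀ c, Below' τ c → l c = 0 := by
  constructor
  · intro h c hc
    refine phi_coeff_eq_zero K hd τ l ?_ hc
    rw [mem_schubertVanishing_iff K hd, hf, map_add, phi_plIdealTop K hg, zero_add] at h
    exact h
  · intro h
    rw [hf]
    refine add_mem (plIdealTop_le K hd τ hg) ?_
    rw [Finsupp.linearCombination_apply]
    refine sum_mem fun c hc => ?_
    simp only [smul_eq_C_mul]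
    exact Ideal.mul_mem_left _ _
      (mon_mem_of_not_below K hd fun hb => Finsupp.mem_support_iff.1 hc (h c hb))

/-- if all chains avoiding the bad set are killed, membership follows -/
theorem mem_of_repr {I : Ideal (PlRing K d n)} (hI : plIdealTop (d := d) (n := n) K ≤ I)
    {f g : PlRing K d n} {l : Chain d n →₀ K}
    (hg : g ∈ plIdealTop (d := d) (n := n) K) (hf : f = g + Finsupp.linearCombination K (mon K) l)
    (h : ∀ c, l c ≠ 0 → mon K c ∈ I) : f ∈ I := by
  rw [hf]
  refine add_mem (hI hg) ?_
  rw [Finsupp.linearCombination_apply]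
  refine sum_mem fun c hc => ?_
  simp only [smul_eq_C_mul]
  exact Ideal.mul_mem_left _ _ (h c (Finsupp.mem_support_iff.1 hc))

end field

end Groth.Agent.W4bk4.Basis
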