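import Groth.Agent.W4bk4.Shuffle
import Mathlib.Data.Fin.Tuple.Sort
import Mathlib.RingTheory.MvPolynomial.Homogeneous
import Mathlib.Tactic.Linarith

/-!
# Standard monomials span the Plücker algebra
-/

set_option autoImplicit false

open W4bk4grassmannian MvPolynomial

noncomputable section

universe u

namespace Groth.Agent.W4bk4.Straighten

variable {d n : ℕ} {m : ℕ}

/-- the potential `Σ codeg²` of a tuple of indices -/
def sq (c : Fin m → Idx d n) : ℕ := ∑ k, codeg (c k) ^ 2

theorem codeg_le (w : Idx d n) : codeg w ≤ d * n := by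
  have h : ∀ t : Fin d, (w.1 t).val - t.val ≤ n := fun t => by have := (w.1 t).isLt; omega
  calc codeg w ≤ ∑ _t : Fin d, n := Finset.sum_le_sum fun t _ => h t
    _ = d * n := by simp

theorem sq_le (c : Fin m → Idx d n) : sq c ≤ m * (d * n) ^ 2 := by
  calc sq c ≤ ∑ _k : Fin m, (d * n) ^ 2 :=
        Finset.sum_le_sum fun k _ => Nat.pow_le_pow_left (codeg_le _) 2
    _ = m * (d * n) ^ 2 := by simp

theorem sq_comp_perm (c : Fin m → Idx d n) (σ : Equiv.Perm (Fin m)) : sq (c ∘ σ) = sq c :=
  Equiv.sum_comp σ (fun k => codeg (c k) ^ 2)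

theorem codeg_mono {a b : Idx d n} (h : a ≤ b) : codeg a ≤ codeg b :=
  Finset.sum_le_sum fun t _ => Nat.sub_le_sub_right (Fin.le_def.1 (h t)) _

theorem eq_of_le_of_codeg {a b : Idx d n} (h : a ≤ b) (hc : codeg b ≤ codeg a) : a = b := by
  have h1 := Shuffle.codeg_add a
  have h2 := Shuffle.codeg_add b
  have h3 : ∀ t ∈ Finset.univ, (a.1 t).val ≤ (b.1 t).val := fun t _ => Fin.le_def.1 (h t)
  have h4 := Finset.sum_le_sum h3
  have h5 := (Finset.sum_eq_sum_iff_of_le h3).1 (by omega)
  exact Subtype.ext (funext fun t => Fin.ext (h5 t (Finset.mem_univ t)))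

theorem exists_antitone_perm (c : Fin m → Idx d n) (h : ∀ k l, c k ≤ c l ∨ c l ≤ c k) :
    ∃ σ : Equiv.Perm (Fin m), Antitone (c ∘ σ) := by
  refine ⟨Tuple.sort fun k => OrderDual.toDual (codeg (c k)), fun x y hxy => ?_⟩
  have h1 := Tuple.monotone_sort (fun k => OrderDual.toDual (codeg (c k))) hxy
  simp only [Function.comp_apply, OrderDual.toDual_le_toDual] at h1 ⊢
  rcases h _ _ with h2 | h2
  · exact (eq_of_le_of_codeg h2 h1).ge
  · exact h2

theorem chainMon_comp_perm (K : Type u) [CommRing K] (c : Fin m → Idx d n)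
    (σ : Equiv.Perm (Fin m)) : chainMon K (c ∘ σ) = chainMon K c :=
  Equiv.prod_comp σ (fun k => (X (c k) : PlRing K d n))

variable (K : Type u) [CommRing K]

/-- the span of the standard monomials of degree `m` and potential at least `s`, plus the ideal -/
def stdFrom (d n m : ℕ) (s : ℕ) : Submodule K (PlRing K d n) :=
  (plIdealTop (d := d) (n := n) K).restrictScalars K ⊔ Submodule.span K
    {f | ∃ c : Fin m → Idx d n, Antitone c ∧ s ≤ sq c ∧ f = chainMon K c}

theorem stdFrom_anti {s s' : ℕ} (h : s ≤ s') : stdFrom K d n m s' ≤ stdFrom K d n m s := by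
  refine sup_le_sup_left (Submodule.span_mono ?_) _
  rintro f ⟨c, hc, hs, rfl⟩
  exact ⟨c, hc, h.trans hs, rfl⟩

theorem mem_of_incomparable_aux (c : Fin m → Idx d n) (k l : Fin m) (hkl : ¬ c l ≤ c k)
    (hlk : ¬ c k ≤ c l)
    (IH : ∀ c' : Fin m → Idx d n, sq c < sq c' → chainMon K c' ∈ stdFrom K d n m (sq c')) :
    chainMon K c ∈ stdFrom K d n m (sq c + 1) := by
  classical
  wlog hcd : codeg (c l) ≤ codeg (c k) generalizing k l with H
  · exact H l k hlk hkl (le_of_not_ge hcd)
  have hne : k ≠ l := fun h => hkl (h ▸ le_rfl)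
  obtain ⟨r, hr⟩ := Shuffle.exists_pivot (c k) (c l) hkl
  let rest : PlRing K d n := ∏ x ∈ (Finset.univ.erase k).erase l, X (c x)
  have hmem : l ∈ Finset.univ.erase k := by simp [hne.symm]
  have hupd : ∀ (α β : Idx d n), chainMon K (Function.update (Function.update c k α) l β) =
      X α * X β * rest := by
    intro α β
    rw [chainMon, ← Finset.mul_prod_erase _ _ (Finset.mem_univ k), ← Finset.mul_prod_erase _ _ hmem,
      ← mul_assoc]
    congr 1
    · simp [hne]
    · refine Finset.prod_congr rfl fun x hx => ?_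
      rw [Function.update_of_ne (Finset.ne_of_mem_erase hx),
        Function.update_of_ne (Finset.ne_of_mem_erase (Finset.mem_of_mem_erase hx))]
  have hsq : ∀ (α β : Idx d n), codeg (c k) < codeg α →
      codeg α + codeg β = codeg (c k) + codeg (c l) →
      sq c < sq (Function.update (Function.update c k α) l β) := by
    intro α β h1 h2
    unfold sq
    rw [← Finset.add_sum_erase _ _ (Finset.mem_univ k), ← Finset.add_sum_erase _ _ hmem,
      ← Finset.add_sum_erase _ _ (Finset.mem_univ k), ← Finset.add_sum_erase _ _ hmem,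
      ← add_assoc, ← add_assoc]
    rw [Finset.sum_congr (s₁ := (Finset.univ.erase k).erase l) rfl
      (f := fun x => codeg (Function.update (Function.update c k α) l β x) ^ 2)
      (g := fun x => codeg (c x) ^ 2) fun x hx => by
        rw [Function.update_of_ne (Finset.ne_of_mem_erase hx),
          Function.update_of_ne (Finset.ne_of_mem_erase (Finset.mem_of_mem_erase hx))]]
    simp only [Function.update_self, Function.update_of_ne hne]
    nlinarith
  have hc : chainMon K c = (X (c k) * X (c l)) * rest := by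
    rw [← hupd]
    congr 1
    funext x
    by_cases hxl : x = l
    · subst hxl; simp
    · by_cases hxk : x = k
      · subst hxk; simp [hne]
      · simp [hxl, hxk]
  have hle : Submodule.map (LinearMap.mulRight K rest)
      ((plIdealTop (d := d) (n := n) K).restrictScalars K ⊔ Submodule.span K
        {f : PlRing K d n | ∃ α β : Idx d n, codeg (c k) < codeg α ∧
          codeg α + codeg β = codeg (c k) + codeg (c l) ∧ f = X α * X β}) ≤
      stdFrom K d n m (sq c + 1) := by
    rw [Submodule.map_sup, Submodule.map_span]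
    refine sup_le ?_ ?_
    · rintro _ ⟨g, hg, rfl⟩
      exact Submodule.mem_sup_left (Ideal.mul_mem_right rest _ hg)
    · rw [Submodule.span_le]
      rintro _ ⟨_, ⟨α, β, h1, h2, rfl⟩, rfl⟩
      change X α * X β * rest ∈ stdFrom K d n m (sq c + 1)
      rw [← hupd]
      exact stdFrom_anti K (hsq α β h1 h2) (IH _ (hsq α β h1 h2))
  rw [hc]
  exact hle ⟨_, Shuffle.straighten_step (K := K) (c k) (c l) r hr, rfl⟩

theorem mem_stdFrom (c : Fin m → Idx d n) : chainMon K c ∈ stdFrom K d n m (sq c) := by
  classical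
  induction hk : (m * (d * n) ^ 2 - sq c) using Nat.strong_induction_on generalizing c with
  | _ k ih =>
  subst hk
  by_cases h : ∀ k l, c k ≤ c l ∨ c l ≤ c k
  · obtain ⟨σ, hσ⟩ := exists_antitone_perm c h
    refine Submodule.mem_sup_right (Submodule.subset_span
      ⟨c ∘ σ, hσ, (sq_comp_perm c σ).ge, (chainMon_comp_perm K c σ).symm⟩)
  · push Not at h
    obtain ⟨k, l, h1, h2⟩ := h
    refine stdFrom_anti K (Nat.le_succ _)
      (mem_of_incomparable_aux K c k l h2 h1 fun c' hc' => ih _ ?_ c' rfl)
    have := sq_le c'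
    omega

/-- a non-standard monomial is a combination of standard ones of higher potential -/
theorem mem_stdFrom_succ (c : Fin m → Idx d n) (k l : Fin m) (hkl : ¬ c l ≤ c k)
    (hlk : ¬ c k ≤ c l) : chainMon K c ∈ stdFrom K d n m (sq c + 1) :=
  mem_of_incomparable_aux K c k l hkl hlk fun c' _ => mem_stdFrom K c'

/-- standard monomials of degree `m` -/
def stdSpan (d n m : ℕ) : Submodule K (PlRing K d n) :=
  Submodule.span K {f | ∃ c : Fin m → Idx d n, Antitone c ∧ f = chainMon K c}

theorem exists_chainMon_eq_monomial (e : Idx d n →₀ ℕ) :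
    ∃ c : Fin e.degree → Idx d n, chainMon K c = monomial e (1 : K) := by
  classical
  let L := e.toMultiset.toList
  have hL : L.length = e.degree := by
    rw [Multiset.length_toList, Finsupp.card_toMultiset, Finsupp.degree_apply]
    rfl
  refine ⟨fun k => L.get (k.cast hL.symm), ?_⟩
  have e1 : chainMon K (fun k => L.get (k.cast hL.symm)) =
      ∏ k : Fin L.length, (X (L.get k) : PlRing K d n) :=
    Fintype.prod_equiv (finCongr hL.symm) _ _ (fun k => rfl)
  rw [e1]
  rw [MvPolynomial.monomial_eq, C_1, one_mul, Finsupp.prod,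
    ← List.prod_ofFn, List.ofFn_comp', List.ofFn_get]
  rw [← Multiset.prod_coe, ← Multiset.map_coe, Multiset.coe_toList, Finsupp.toMultiset_map,
    Finsupp.prod_toMultiset]
  rw [Finsupp.prod_mapDomain_index (by simp) (by simp [pow_add])]
  rfl

theorem homogeneous_mem (f : PlRing K d n) (hf : f.IsHomogeneous m) :
    f ∈ (plIdealTop (d := d) (n := n) K).restrictScalars K ⊔ stdSpan K d n m := by
  rw [← f.support_sum_monomial_coeff]
  refine sum_mem fun e he => ?_
  have hd : e.degree = m := by
    rw [Finsupp.degree_apply]; exact (hf.degree_eq_sum_deg_support he).symm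
  obtain ⟨c, hc⟩ := exists_chainMon_eq_monomial K e
  have h1 : monomial e (f.coeff e) = f.coeff e • monomial e (1 : K) := by simp [smul_monomial]
  rw [h1]
  refine Submodule.smul_mem _ _ ?_
  subst hd
  rw [← hc]
  refine (sup_le_sup_left (Submodule.span_mono ?_) _ : stdFrom K d n _ (sq c) ≤ _) (mem_stdFrom K c)
  rintro g ⟨c', hc', -, rfl⟩
  exact ⟨c', hc', rfl⟩

theorem mem_span_all (f : PlRing K d n) :
    f ∈ (plIdealTop (d := d) (n := n) K).restrictScalars K ⊔ Submodule.span K
      (Set.range fun c : (Σ m : ℕ, {c : Fin m → Idx d n // Antitone c}) => chainMon K c.2.1) := by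
  rw [← f.sum_homogeneousComponent]
  refine sum_mem fun k _ => ?_
  have hle : stdSpan K d n k ≤ Submodule.span K (Set.range fun c :
      (Σ m : ℕ, {c : Fin m → Idx d n // Antitone c}) => chainMon K c.2.1) := Submodule.span_mono ?_
  exact (sup_le_sup_left hle _) (homogeneous_mem K _ (homogeneousComponent_isHomogeneous k f))
  rintro g ⟨c, hc, rfl⟩
  exact ⟨⟨k, c, hc⟩, rfl⟩

end Groth.Agent.W4bk4.Straighten
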