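import Groth.Agent.Depth.CM
import Mathlib.RingTheory.RegularLocalRing.Polynomial
import Mathlib.RingTheory.Flat.Localization
import Mathlib.RingTheory.Ideal.GoingUp
import Mathlib.RingTheory.Ideal.Height
import Mathlib.RingTheory.Flat.FaithfullyFlat.Algebra
import Mathlib.RingTheory.IntegralClosure.IntegrallyClosed

/-!
# Finite flat algebras over regular rings are Cohen-Macaulay
-/

set_option autoImplicit false

universe u

namespace Groth.Agent.W4bk4.FiniteFreeCM

variable (A B : Type u) [CommRing A] [CommRing B] [Algebra A B] [Module.Finite A B]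

theorem comap_strictMono : StrictMono (PrimeSpectrum.comap (algebraMap A B)) := by
  intro P Q hPQ
  have : P.asIdeal < Q.asIdeal := hPQ
  exact Ideal.IsIntegral.comap_lt_comap this

theorem height_le (P : Ideal B) [hP : P.IsPrime] :
    P.height ≤ (P.comap (algebraMap A B)).height := by
  rw [show P.height = Order.height (⟨P, hP⟩ : PrimeSpectrum B) from
      PrimeSpectrum.height_eq_orderHeight ⟨P, hP⟩,
    show (P.comap (algebraMap A B)).height =
        Order.height (PrimeSpectrum.comap (algebraMap A B) ⟨P, hP⟩) from
      PrimeSpectrum.height_eq_orderHeight (PrimeSpectrum.comap (algebraMap A B) ⟨P, hP⟩)]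
  exact Order.height_le_height_apply_of_strictMono _ (comap_strictMono A B) ⟨P, hP⟩

variable [IsRegularRing A] [Module.Flat A B]

theorem height_comap_le_depth (P : Ideal B) [hP : P.IsPrime] :
    ((P.comap (algebraMap A B)).height : WithBot ℕ∞) ≤
      ((LocCoh.depth (Localization.AtPrime P) (Localization.AtPrime P) : ℕ∞) : WithBot ℕ∞) := by
  let p := P.comap (algebraMap A B)
  haveI : P.LiesOver p := ⟨rfl⟩
  let φ := Localization.localRingHom p P (algebraMap A B) rfl
  letI : Algebra (Localization.AtPrime p) (Localization.AtPrime P) := φ.toAlgebra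
  haveI : IsScalarTower A (Localization.AtPrime p) (Localization.AtPrime P) :=
    IsScalarTower.of_algebraMap_eq fun x => by
      rw [RingHom.algebraMap_toAlgebra, Localization.localRingHom_to_map,
        IsScalarTower.algebraMap_apply A B (Localization.AtPrime P)]
  haveI : Module.Flat A (Localization.AtPrime P) := Localization.flat (R := A) (S := B) P.primeCompl
  haveI : Module.Flat (Localization.AtPrime p) (Localization.AtPrime P) :=
    (Module.flat_iff_of_isLocalization (Localization.AtPrime p) p.primeCompl _).2 inferInstance
  haveI : IsLocalHom φ := Localization.isLocalHom_localRingHom p P (algebraMap A B) rfl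
  haveI : LocCoh.IsCohenMacaulayLocalRing (Localization.AtPrime p) :=
    Depth.isCohenMacaulayLocalRing_of_isRegularLocalRing
  have hcm : ringKrullDim (Localization.AtPrime p) =
      ((LocCoh.depth (Localization.AtPrime p) (Localization.AtPrime p) : ℕ∞) : WithBot ℕ∞) := by
    rw [← Module.supportDim_self_eq_ringKrullDim]
    exact Depth.isCohenMacaulayModule_self (Localization.AtPrime p)
  rw [← IsLocalization.AtPrime.ringKrullDim_eq_height p (Localization.AtPrime p), hcm,
    WithBot.coe_le_coe]
  have hbc : IsBaseChange (Localization.AtPrime P)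
      (Algebra.linearMap (Localization.AtPrime p) (Localization.AtPrime P)) := IsBaseChange.linearMap _ _
  refine le_trans (Depth.idealDepth_le_idealDepth_of_isBaseChange hbc) (Depth.idealDepth_mono ?_)
  rw [Ideal.map_le_iff_le_comap]
  intro x hx hu
  exact hx (IsUnit.of_map φ x hu)

include A in
theorem isCohenMacaulayRing [IsNoetherianRing B] : LocCoh.IsCohenMacaulayRing B :=
  { isCohenMacaulayLocalRing_localization := fun P _ => by
      rw [Depth.isCohenMacaulayLocalRing_iff]
      haveI : Nontrivial (Localization.AtPrime P) := inferInstance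
      refine le_antisymm ?_ (Depth.depth_le_supportDim)
      rw [Module.supportDim_self_eq_ringKrullDim,
        IsLocalization.AtPrime.ringKrullDim_eq_height P (Localization.AtPrime P)]
      exact le_trans (WithBot.coe_le_coe.2 (height_le A B P)) (height_comap_le_depth A B P) }

include A in
theorem ringKrullDim_eq [Nontrivial B] [Module.Free A B] [IsNoetherianRing B] :
    ringKrullDim B = ringKrullDim A := by
  haveI : Nontrivial A := RingHom.domain_nontrivial (algebraMap A B)
  refine le_antisymm (Order.krullDim_le_of_strictMono _ (comap_strictMono A B)) ?_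
  rw [← Ideal.sup_isPrime_height_eq_ringKrullDim]
  haveI : Module.FaithfullyFlat A B := inferInstance
  obtain hb := fun (p : PrimeSpectrum A) =>
    PrimeSpectrum.comap_surjective_of_faithfullyFlat (B := B) p
  have : ∀ (p : Ideal A), p.IsPrime → (p.height : WithBot ℕ∞) ≤ ringKrullDim B := by
    intro p hp
    obtain ⟨⟨P, hP⟩, hPp⟩ := hb ⟨p, hp⟩
    have e : P.comap (algebraMap A B) = p := congrArg PrimeSpectrum.asIdeal hPp
    have h := height_comap_le_depth A B P
    rw [e] at h
    refine le_trans (le_trans h Depth.depth_le_supportDim) ?_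
    rw [Module.supportDim_self_eq_ringKrullDim,
      IsLocalization.AtPrime.ringKrullDim_eq_height P (Localization.AtPrime P)]
    exact Ideal.height_le_ringKrullDim_of_ne_top hP.ne_top
  obtain ⟨k, hk⟩ : ∃ k : ℕ∞, (k : WithBot ℕ∞) = ringKrullDim B :=
    ⟨_, Ideal.sup_isPrime_height_eq_ringKrullDim⟩
  rw [← hk, WithBot.coe_le_coe]
  refine iSup₂_le fun p hp => ?_
  have := this p hp
  rwa [← hk, WithBot.coe_le_coe] at this

end Groth.Agent.W4bk4.FiniteFreeCM
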