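import Groth.Agent.W4bk4.WReg
import Mathlib.Algebra.MvPolynomial.Equiv
import Mathlib.RingTheory.MvPolynomial.Homogeneous
import Mathlib.LinearAlgebra.FreeModule.Basic
import Mathlib.LinearAlgebra.Basis.VectorSpace
import Mathlib.RingTheory.Finiteness.Basic
import Mathlib.RingTheory.Nilpotent.Lemmas
import Mathlib.RingTheory.Ideal.Quotient.Operations

/-!
# Graded quotients with a regular sequence of linear forms are free over a polynomial ring
-/

set_option autoImplicit false

open MvPolynomial

noncomputable section

universe u v

namespace Groth.Agent.W4bk4.FreeGraded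

variable {K : Type u} [CommRing K] {P : Type v} [CommRing P] [Algebra K P]

/-- lifts of an independent family are independent over the polynomials in a regular sequence -/
theorem coeff_zero_of_wreg {β : Type*} [Fintype β] (b : β → P) :
    ∀ (r : ℕ) (th : Fin r → P) (I : Ideal P), WReg.WReg (A := P) (List.ofFn th) I →
    (∀ c : β → K, ∑ j, c j • b j ∈ I ⊔ Ideal.span (Set.range th) → c = 0) →
    ∀ q : β → MvPolynomial (Fin r) K, ∑ j, aeval th (q j) * b j ∈ I → q = 0 := by
  intro r
  induction r with
  | zero =>
    intro th I _ hb q hq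
    have hc : ∀ p : MvPolynomial (Fin 0) K, p = C (constantCoeff p) := fun p => by
      obtain ⟨a, rfl⟩ := C_surjective (Fin 0) p; simp
    have := hb (fun j => constantCoeff (q j)) (Ideal.mem_sup_left ?_)
    · funext j; rw [hc (q j), congrFun this j]; simp
    · convert hq using 2 with j _
      conv_rhs => rw [hc (q j)]
      rw [aeval_C, Algebra.smul_def]
  | succ r ih =>
    intro th I hth hb q hq
    rw [List.ofFn_succ] at hth
    obtain ⟨hreg, hrest⟩ := hth
    rw [WReg.step_ideal] at hrest
    have hb' : ∀ c : β → K,
        ∑ j, c j • b j ∈ (I ⊔ Ideal.span {th 0}) ⊔ Ideal.span (Set.range fun i => th (Fin.succ i)) →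
        c = 0 := by
      intro c hc
      refine hb c ?_
      rw [sup_assoc, ← Ideal.span_union] at hc
      rw [show Set.range th = {th 0} ∪ Set.range (fun i => th (Fin.succ i)) by
        ext x; simp [Fin.exists_fin_succ, eq_comm]]
      exact hc
    let E := finSuccEquiv K r
    let p : β → Polynomial (MvPolynomial (Fin r) K) := fun j => E (q j)
    let ev : Polynomial (MvPolynomial (Fin r) K) →+* P :=
      Polynomial.eval₂RingHom (aeval fun i => th (Fin.succ i)).toRingHom (th 0)
    have hev : ∀ z, ev (E z) = aeval th z := by
      intro z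
      suffices h : ev.comp E.toRingEquiv.toRingHom = (aeval th).toRingHom from congrArg (fun f => f z) h
      refine MvPolynomial.ringHom_ext (fun a => ?_) fun i => ?_
      · simp [ev, E, finSuccEquiv_apply]
      · refine Fin.cases ?_ (fun i => ?_) i <;> simp [ev, E, finSuccEquiv_X_zero, finSuccEquiv_X_succ]
    suffices h : ∀ (N : ℕ) (p : β → Polynomial (MvPolynomial (Fin r) K)),
        (∀ j, (p j).natDegree < N) → ∑ j, ev (p j) * b j ∈ I → p = 0 by
      have := h (Finset.univ.sup (fun j => (p j).natDegree) + 1) p
        (fun j => Nat.lt_succ_of_le (Finset.le_sup (f := fun j => (p j).natDegree) (Finset.mem_univ j)))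
        (by simpa [p, hev] using hq)
      funext j
      exact E.injective (by simpa [p] using congrFun this j)
    intro N
    induction N with
    | zero => intro p hN _; funext j; exact absurd (hN j) (Nat.not_lt_zero _)
    | succ N ihN =>
      intro p hN hp
      have hsplit : ∀ j, ev (p j) = aeval (fun i => th (Fin.succ i)) ((p j).coeff 0) +
          th 0 * ev ((p j).divX) := by
        intro j
        conv_lhs => rw [← Polynomial.divX_mul_X_add (p j)]
        simp [ev]; ring
      have hc0 : (fun j => (p j).coeff 0) = 0 := by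
        refine ih _ _ hrest hb' _ ?_
        have : ∑ j, aeval (fun i => th (Fin.succ i)) ((p j).coeff 0) * b j =
            ∑ j, ev (p j) * b j - th 0 * ∑ j, ev ((p j).divX) * b j := by
          rw [Finset.mul_sum, ← Finset.sum_sub_distrib]
          exact Finset.sum_congr rfl fun j _ => by rw [hsplit]; ring
        rw [this]
        exact Ideal.sub_mem _ (Ideal.mem_sup_left hp)
          (Ideal.mul_mem_right _ _ (Ideal.mem_sup_right (Ideal.mem_span_singleton_self _)))
      have hdiv : ∑ j, ev ((p j).divX) * b j ∈ I := by
        refine hreg _ ?_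
        rw [smul_eq_mul, Finset.mul_sum]
        convert hp using 2 with j _
        rw [hsplit, show (p j).coeff 0 = 0 from congrFun hc0 j, map_zero, zero_add, mul_assoc]
      by_cases hN0 : N = 0
      · subst hN0
        funext j
        have hdeg : (p j).natDegree = 0 := Nat.lt_one_iff.1 (hN j)
        rw [Polynomial.eq_C_of_natDegree_eq_zero hdeg, show (p j).coeff 0 = 0 from congrFun hc0 j,
          Polynomial.C_0]
        rfl
      have := ihN (fun j => (p j).divX) (fun j => by
        rw [Polynomial.natDegree_divX_eq_natDegree_tsub_one]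
        have := hN j
        omega) hdiv
      funext j
      rw [← Polynomial.divX_mul_X_add (p j), show (p j).divX = 0 from congrFun this j,
        show (p j).coeff 0 = 0 from congrFun hc0 j]
      simp

section graded

variable {σ : Type v} [Finite σ] (K : Type u) [Field K]

/-- every homogeneous component of a member is a member -/
def IsHomog (I : Ideal (MvPolynomial σ K)) : Prop :=
  ∀ f ∈ I, ∀ k, homogeneousComponent k f ∈ I

theorem homogeneousComponent_mul_linear {x : MvPolynomial σ K} (hx : x.IsHomogeneous 1)
    (g : MvPolynomial σ K) (k : ℕ) :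
    homogeneousComponent (k + 1) (g * x) = homogeneousComponent k g * x := by
  classical
  conv_lhs => rw [← g.sum_homogeneousComponent, Finset.sum_mul, map_sum]
  rw [Finset.sum_congr rfl fun i _ =>
    homogeneousComponent_of_mem ((homogeneousComponent_isHomogeneous i g).mul hx)]
  rw [Finset.sum_eq_single k]
  · rw [if_pos rfl]
  · intro i _ hi
    rw [if_neg (by omega)]
  · intro hk
    rw [if_pos rfl, homogeneousComponent_eq_zero, zero_mul]
    simpa using hk

theorem homogeneousComponent_zero_mul_linear {x : MvPolynomial σ K} (hx : x.IsHomogeneous 1)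
    (g : MvPolynomial σ K) : homogeneousComponent 0 (g * x) = 0 := by
  classical
  conv_lhs => rw [← g.sum_homogeneousComponent, Finset.sum_mul, map_sum]
  refine Finset.sum_eq_zero fun i _ => ?_
  rw [homogeneousComponent_of_mem ((homogeneousComponent_isHomogeneous i g).mul hx), if_neg (by omega)]

variable {r : ℕ} (th : Fin r → MvPolynomial σ K) (I : Ideal (MvPolynomial σ K))

/-- `(MvPolynomial σ K) ⧸ I` as an algebra over the polynomials in `th` -/
@[reducible] def algQ : Algebra (MvPolynomial (Fin r) K) (MvPolynomial σ K ⧸ I) :=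
  ((Ideal.Quotient.mkₐ K I).comp (MvPolynomial.aeval th)).toRingHom.toAlgebra

theorem free_finite (hth : ∀ i, (th i).IsHomogeneous 1) (hI : IsHomog K I)
    (hreg : WReg.WReg (A := MvPolynomial σ K) (List.ofFn th) I)
    (hrad : ∀ i, X i ∈ (I ⊔ Ideal.span (Set.range th)).radical) :
    letI := algQ K th I
    Module.Free (MvPolynomial (Fin r) K) (MvPolynomial σ K ⧸ I) ∧
      Module.Finite (MvPolynomial (Fin r) K) (MvPolynomial σ K ⧸ I) := by
  letI := algQ K th I
  classical
  haveI : Fintype σ := Fintype.ofFinite σ
  set J := I ⊔ Ideal.span (Set.range th) with hJ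
  choose m hm using hrad
  let M := Finset.univ.sup m + 1
  have hM : ∀ i, (X i : MvPolynomial σ K) ^ M ∈ J := fun i =>
    J.pow_mem_of_pow_mem (hm i) (Nat.le_succ_of_le (Finset.le_sup (f := m) (Finset.mem_univ i)))
  let expo : (σ → Fin M) → (σ →₀ ℕ) := fun a => Finsupp.equivFunOnFinite.symm fun i => (a i).val
  let v : (σ → Fin M) → MvPolynomial σ K ⧸ J := fun a => Ideal.Quotient.mk J (monomial (expo a) 1)
  obtain ⟨κ, a, ha, hspan, hli⟩ := exists_linearIndependent' K v
  haveI : Fintype κ := Fintype.ofInjective a ha
  let b : κ → MvPolynomial σ K := fun j => monomial (expo (a j)) 1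
  have hJK : ∀ (c : κ → K), Ideal.Quotient.mk J (∑ j, c j • b j) = ∑ j, c j • v (a j) := by
    intro c
    rw [map_sum]
    exact Finset.sum_congr rfl fun j _ => map_smul (Ideal.Quotient.mkₐ K J) _ _
  have hb : ∀ c : κ → K, ∑ j, c j • b j ∈ J → c = 0 := by
    intro c hc
    rw [← Ideal.Quotient.eq_zero_iff_mem, hJK] at hc
    exact funext (Fintype.linearIndependent_iff.1 hli c hc)
  have hvspan : ∀ f : MvPolynomial σ K, ∃ c : κ → K, f - ∑ j, c j • b j ∈ J := by
    intro f
    have : Ideal.Quotient.mk J f ∈ Submodule.span K (Set.range v) := by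
      rw [← f.support_sum_monomial_coeff, map_sum]
      refine sum_mem fun e _ => ?_
      have e1 : monomial e (f.coeff e) = f.coeff e • monomial e (1 : K) := by simp [smul_monomial]
      rw [e1]
      have e2 := map_smul (Ideal.Quotient.mkₐ K J) (f.coeff e) (monomial e (1 : K))
      rw [Ideal.Quotient.mkₐ_eq_mk] at e2
      rw [e2]
      refine Submodule.smul_mem _ _ ?_
      by_cases hsmall : ∀ i, e i < M
      · refine Submodule.subset_span ⟨fun i => ⟨e i, hsmall i⟩, ?_⟩
        have : expo (fun i => ⟨e i, hsmall i⟩) = e := by ext i; simp [expo]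
        simp only [v, this]
      · push Not at hsmall
        obtain ⟨i, hi⟩ := hsmall
        have h0 : Ideal.Quotient.mk J (monomial e (1 : K)) = 0 := by
          rw [Ideal.Quotient.eq_zero_iff_mem]
          have : monomial e (1 : K) = X i ^ M * monomial (e - Finsupp.single i M) 1 := by
            rw [X_pow_eq_monomial, monomial_mul, one_mul, add_tsub_cancel_of_le]
            exact Finsupp.single_le_iff.2 hi
          rw [this]
          exact Ideal.mul_mem_right _ _ (hM i)
        rw [h0]
        exact zero_mem _
    rw [← hspan] at this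
    obtain ⟨c, hc⟩ := (Submodule.mem_span_range_iff_exists_fun K).1 this
    refine ⟨c, ?_⟩
    rw [← Ideal.Quotient.eq, hJK]
    exact hc.symm
  let B : κ → MvPolynomial σ K ⧸ I := fun j => Ideal.Quotient.mk I (b j)
  have hsmul : ∀ (p : MvPolynomial (Fin r) K) (x : MvPolynomial σ K),
      p • Ideal.Quotient.mk I x = Ideal.Quotient.mk I (MvPolynomial.aeval th p * x) := by
    intro p x
    rw [Algebra.smul_def, map_mul]
    rfl
  let V := Submodule.span (MvPolynomial (Fin r) K) (Set.range B)
  have hVK : ∀ (c : K) (x : MvPolynomial σ K), Ideal.Quotient.mk I x ∈ V →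
      Ideal.Quotient.mk I (c • x) ∈ V := by
    intro c x hx
    have := V.smul_mem (C c) hx
    rw [hsmul, aeval_C, ← Algebra.smul_def] at this
    exact this
  have hhom : ∀ (k : ℕ) (f : MvPolynomial σ K), f.IsHomogeneous k → Ideal.Quotient.mk I f ∈ V := by
    intro k
    induction k using Nat.strong_induction_on with
    | _ k ihk =>
    intro f hf
    obtain ⟨c, hc⟩ := hvspan f
    obtain ⟨i₀, hi₀, y, hy, hiy⟩ := Submodule.mem_sup.1 hc
    obtain ⟨g, hg⟩ := (Submodule.mem_span_range_iff_exists_fun _).1 hy
    have hf' : f = (∑ j, c j • homogeneousComponent k (b j)) + homogeneousComponent k i₀ +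
        ∑ l, homogeneousComponent k (g l * th l) := by
      conv_lhs => rw [← homogeneousComponent_eq_self hf,
        show f = (∑ j, c j • b j) + i₀ + y by rw [add_assoc, hiy]; ring, ← hg]
      simp only [map_add, map_sum, map_smul, smul_eq_mul]
    rw [hf', map_add, map_add, Ideal.Quotient.eq_zero_iff_mem.2 (hI _ hi₀ k), add_zero]
    refine V.add_mem ?_ ?_
    · rw [map_sum]
      refine V.sum_mem fun j _ => hVK _ _ ?_
      rw [homogeneousComponent_of_mem (isHomogeneous_monomial (1 : K) rfl)]
      split
      · exact Submodule.subset_span ⟨j, rfl⟩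
      · rw [map_zero]; exact zero_mem _
    · rw [map_sum]
      refine V.sum_mem fun l _ => ?_
      cases k with
      | zero => rw [homogeneousComponent_zero_mul_linear K (hth l), map_zero]; exact zero_mem _
      | succ k =>
        rw [homogeneousComponent_mul_linear K (hth l), mul_comm]
        have := V.smul_mem (X l) (ihk k (Nat.lt_succ_self k) _ (homogeneousComponent_isHomogeneous k (g l)))
        rw [hsmul, aeval_X] at this
        exact this
  have htop : V = ⊤ := by
    rw [eq_top_iff]
    intro x _
    obtain ⟨f, rfl⟩ := Ideal.Quotient.mk_surjective x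
    rw [← f.sum_homogeneousComponent, map_sum]
    exact V.sum_mem fun k _ => hhom k _ (homogeneousComponent_isHomogeneous k f)
  have hBli : LinearIndependent (MvPolynomial (Fin r) K) B := by
    rw [Fintype.linearIndependent_iff]
    intro q hq
    refine congrFun (coeff_zero_of_wreg (K := K) b r th I hreg hb q ?_)
    rw [← Ideal.Quotient.eq_zero_iff_mem, map_sum, ← hq]
    exact Finset.sum_congr rfl fun j _ => (hsmul _ _).symm
  exact ⟨Module.Free.of_basis (Module.Basis.mk hBli htop.ge),
    Module.Finite.of_basis (Module.Basis.mk hBli htop.ge)⟩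

end graded

end Groth.Agent.W4bk4.FreeGraded
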