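import Groth.Agent.W4bk4.Bottom
import Groth.Agent.W4bk4.FreeGraded
import Groth.Agent.W4bk4.FiniteFreeCM
import Groth.Agent.S11254

/-!
# Level sums form regular sequences on unions of Schubert divisors
-/

set_option autoImplicit false

open W4bk4grassmannian MvPolynomial

noncomputable section

universe u

namespace Groth.Agent.W4bk4.Levels

variable {d n : ℕ}

/-- sum of the Plücker coordinates of a given codegree -/
def lev (K : Type u) [CommRing K] (d n k : ℕ) : PlRing K d n :=
  ∑ φ ∈ Finset.univ.filter (fun φ : Idx d n => codeg φ = k), X φ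

/-- `[lev k, …, lev 0]` -/
def levList (K : Type u) [CommRing K] (d n : ℕ) : ℕ → List (PlRing K d n)
  | 0 => [lev K d n 0]
  | k + 1 => lev K d n (k + 1) :: levList K d n k

/-- the same as a tuple -/
def levTuple (K : Type u) [CommRing K] (d n N : ℕ) (i : Fin (N + 1)) : PlRing K d n :=
  lev K d n (N - i.val)

theorem ofFn_levTuple (K : Type u) [CommRing K] (N : ℕ) :
    List.ofFn (levTuple K d n N) = levList K d n N := by
  induction N with
  | zero => simp [levTuple, levList]
  | succ N ih =>
    rw [List.ofFn_succ, levList, ← ih]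
    congr 1
    refine congrArg List.ofFn (funext fun i => ?_)
    simp [levTuple]

theorem lev_isHomogeneous (K : Type u) [CommRing K] (k : ℕ) : (lev K d n k).IsHomogeneous 1 :=
  IsHomogeneous.sum _ _ _ fun φ _ => isHomogeneous_X K φ

theorem X_mem_radical {K : Type u} [CommRing K] {I : Ideal (PlRing K d n)}
    (hI : plIdealTop (d := d) (n := n) K ≤ I) (hlev : ∀ k, lev K d n k ∈ I) (φ : Idx d n) :
    X φ ∈ I.radical := by
  classical
  induction hm : d * n - codeg φ using Nat.strong_induction_on generalizing φ with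
  | _ m ih =>
  subst hm
  have hsq : (X φ * X φ : PlRing K d n) ∈ I.radical := by
    have h1 : (X φ * X φ : PlRing K d n) = X φ * lev K d n (codeg φ) -
        ∑ ψ ∈ (Finset.univ.filter fun ψ : Idx d n => codeg ψ = codeg φ).erase φ, X φ * X ψ := by
      rw [lev, Finset.mul_sum, ← Finset.add_sum_erase _ _ (by simp :
        φ ∈ Finset.univ.filter fun ψ : Idx d n => codeg ψ = codeg φ)]
      ring
    rw [h1]
    refine Ideal.sub_mem _ (Ideal.le_radical (I.mul_mem_left _ (hlev _))) (Ideal.sum_mem _ fun ψ hψ => ?_)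
    obtain ⟨hne, hψ'⟩ := Finset.mem_erase.1 hψ
    have hc : codeg ψ = codeg φ := (Finset.mem_filter.1 hψ').2
    obtain ⟨r, hr⟩ := Shuffle.exists_pivot φ ψ
      (fun h => hne (Straighten.eq_of_le_of_codeg h hc.ge))
    have hle : (plIdealTop (d := d) (n := n) K).restrictScalars K ⊔
        Submodule.span K {f : PlRing K d n | ∃ α β : Idx d n, codeg φ < codeg α ∧
          codeg α + codeg β = codeg φ + codeg ψ ∧ f = X α * X β} ≤
        I.radical.restrictScalars K := by
      refine sup_le (fun f hf => Ideal.le_radical (hI hf)) (Submodule.span_le.2 ?_)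
      rintro _ ⟨α, β, h1, -, rfl⟩
      refine Ideal.mul_mem_right _ _ (ih _ ?_ α rfl)
      have := Straighten.codeg_le α
      omega
    exact hle (Shuffle.straighten_step (K := K) φ ψ r hr)
  exact (Ideal.radical_isRadical I) ⟨2, by rwa [pow_two]⟩

theorem divisor_spec {τ φ : Idx d n} (h : φ ∈ divisors τ) :
    ∃ t, (φ.1 t).val + 1 = (τ.1 t).val ∧ ∀ s, s ≠ t → φ.1 s = τ.1 s := by
  classical
  obtain ⟨hlt, hc⟩ := h
  have h1 := Shuffle.codeg_add φ
  have h2 := Shuffle.codeg_add τ
  have hle : ∀ s, (φ.1 s).val ≤ (τ.1 s).val := fun s => Fin.le_def.1 (hlt.le s)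
  obtain ⟨t, ht⟩ : ∃ t, (φ.1 t).val < (τ.1 t).val := by
    by_contra hc'
    push Not at hc'
    exact hlt.ne (le_antisymm hlt.le fun s => Fin.le_def.2 (hc' s))
  have hsum : ∑ s, (φ.1 s).val + 1 = ∑ s, (τ.1 s).val := by omega
  rw [← Finset.add_sum_erase _ _ (Finset.mem_univ t),
    ← Finset.add_sum_erase _ _ (Finset.mem_univ t)] at hsum
  have h3 : ∀ s ∈ Finset.univ.erase t, (φ.1 s).val ≤ (τ.1 s).val := fun s _ => hle s
  have h4 := Finset.sum_le_sum h3
  have h5 := (Finset.sum_eq_sum_iff_of_le h3).1 (by omega)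
  exact ⟨t, by omega, fun s hs => Fin.ext (h5 s (by simp [hs]))⟩

theorem inf_mem_divisors {τ φ ψ : Idx d n} (hφ : φ ∈ divisors τ) (hψ : ψ ∈ divisors τ)
    (hne : φ ≠ ψ) : W4bk4grassmannian.inf φ ψ ∈ divisors φ := by
  classical
  obtain ⟨a, ha, ha'⟩ := divisor_spec hφ
  obtain ⟨b, hb, hb'⟩ := divisor_spec hψ
  have hab : a ≠ b := by
    rintro rfl
    refine hne (Subtype.ext (funext fun s => Fin.ext ?_))
    by_cases hs : s = a
    · subst hs; omega
    · rw [ha' s hs, hb' s hs]
  have hval : ∀ s, ((W4bk4grassmannian.inf φ ψ).1 s).val = min (φ.1 s).val (ψ.1 s).val := fun s =>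
    Fin.val_strictMono.monotone.map_min
  have hother : ∀ s, s ≠ b → ((W4bk4grassmannian.inf φ ψ).1 s).val = (φ.1 s).val := by
    intro s hs
    rw [hval, hb' s hs]
    by_cases hsa : s = a
    · subst hsa; omega
    · rw [ha' s hsa, min_self]
  have hbb : ((W4bk4grassmannian.inf φ ψ).1 b).val + 1 = (φ.1 b).val := by
    rw [hval, ha' b (Ne.symm hab)]; omega
  refine ⟨lt_of_le_of_ne (fun s => min_le_left _ _) fun h => ?_, ?_⟩
  · have := congrArg (fun z : Idx d n => (z.1 b).val) h
    omega
  · have h1 := Shuffle.codeg_add φ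
    have h2 := Shuffle.codeg_add (W4bk4grassmannian.inf φ ψ)
    have hs : ∑ s, ((W4bk4grassmannian.inf φ ψ).1 s).val + 1 = ∑ s, (φ.1 s).val := by
      rw [← Finset.add_sum_erase _ _ (Finset.mem_univ b),
        ← Finset.add_sum_erase _ _ (Finset.mem_univ b),
        Finset.sum_congr rfl fun s hs => hother s (Finset.ne_of_mem_erase hs)]
      omega
    omega

section field

variable (K : Type u) [Field K] [IsAlgClosed K]

theorem lev_mem_of_lt (hd : 0 < d) {φ : Idx d n} {k : ℕ} (h : codeg φ < k) :
    lev K d n k ∈ schubertVanishing K d n φ := by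
  refine Ideal.sum_mem _ fun ψ hψ => ?_
  rw [Basis.mem_schubertVanishing_iff K hd]
  refine Schubert.phi_X_eq_zero K fun hle => ?_
  have := Straighten.codeg_mono hle
  have := (Finset.mem_filter.1 hψ).2
  omega

theorem lev_sub_X_mem (hd : 0 < d) (φ : Idx d n) :
    lev K d n (codeg φ) - X φ ∈ schubertVanishing K d n φ := by
  classical
  rw [lev, ← Finset.add_sum_erase _ _ (by simp :
    φ ∈ Finset.univ.filter fun ψ : Idx d n => codeg ψ = codeg φ), add_sub_cancel_left]
  refine Ideal.sum_mem _ fun ψ hψ => ?_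
  obtain ⟨hne, hψ'⟩ := Finset.mem_erase.1 hψ
  rw [Basis.mem_schubertVanishing_iff K hd]
  exact Schubert.phi_X_eq_zero K fun hle =>
    hne (Straighten.eq_of_le_of_codeg hle (Finset.mem_filter.1 hψ').2.ge)

theorem X_notMem (hd : 0 < d) (φ : Idx d n) : X φ ∉ schubertVanishing K d n φ := by
  intro h
  rw [Basis.mem_schubertVanishing_iff K hd] at h
  have := (Schubert.isLead_phi_X K (le_refl φ)).1
  rw [h, coeff_zero] at this
  exact zero_ne_one this

theorem lev_regular (hd : 0 < d) (τ : Idx d n) (a : PlRing K d n)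
    (h : lev K d n (codeg τ) * a ∈ schubertVanishing K d n τ) : a ∈ schubertVanishing K d n τ := by
  have h1 : X τ * a ∈ schubertVanishing K d n τ := by
    have := Ideal.sub_mem _ h (Ideal.mul_mem_right a _ (lev_sub_X_mem K hd τ))
    convert this using 1
    ring
  exact ((Schubert.schubertVanishing_isPrime K hd τ).mem_or_mem h1).resolve_left (X_notMem K hd τ)

theorem inf_sup_eq (hd : 0 < d) (φ : Idx d n) (S : Finset (Idx d n)) :
    (⨅ ψ ∈ S, schubertVanishing K d n ψ) ⊔ schubertVanishing K d n φ =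
      ⨅ ψ ∈ S.image (W4bk4grassmannian.inf φ), schubertVanishing K d n ψ := by
  classical
  have hmono : ∀ a b : Idx d n, a ≤ b →
      schubertVanishing K d n b ≤ schubertVanishing K d n a := by
    intro a b hab f hf
    simp only [schubertVanishing, Ideal.mem_iInf] at hf ⊢
    exact fun A hA => hf A fun χ hχ => hA χ fun h => hχ (h.trans hab)
  apply le_antisymm
  · refine sup_le (le_iInf₂ fun χ hχ => ?_) (le_iInf₂ fun χ hχ => ?_)
    · obtain ⟨ψ, hψ, rfl⟩ := Finset.mem_image.1 hχ
      exact (iInf₂_le ψ hψ).trans (hmono _ _ fun t => min_le_right _ _)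
    · obtain ⟨ψ, hψ, rfl⟩ := Finset.mem_image.1 hχ
      exact hmono _ _ fun t => min_le_left _ _
  · intro f hf
    obtain ⟨l, g, hg, hfg⟩ := Basis.exists_repr K f
    refine Basis.mem_of_repr K ((Basis.plIdealTop_le K hd φ).trans le_sup_right) hg hfg fun c hc => ?_
    by_cases hb : Basis.Below' φ c
    swap
    · exact Ideal.mem_sup_right (Basis.mon_mem_of_not_below K hd hb)
    refine Ideal.mem_sup_left (Ideal.mem_iInf.2 fun ψ => Ideal.mem_iInf.2 fun hψ => ?_)
    refine Basis.mon_mem_of_not_below K hd fun hb' => hc ?_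
    have := (Ideal.mem_iInf.1 (Ideal.mem_iInf.1 hf (W4bk4grassmannian.inf φ ψ))
      (Finset.mem_image_of_mem _ hψ))
    exact (Basis.schubert_iff_repr K hd _ hg hfg).1 this c fun k t => le_min (hb k t) (hb' k t)

theorem wreg_levList (hd : 0 < d) (hdn : d < n) (τ : Idx d n) :
    WReg.WReg (A := PlRing K d n) (levList K d n (codeg τ)) (schubertVanishing K d n τ) ∧
    ∀ S : Finset (Idx d n), S.Nonempty → (∀ φ ∈ S, φ ∈ divisors τ) →
      WReg.WReg (A := PlRing K d n) (levList K d n (codeg τ - 1))
        (⨅ φ ∈ S, schubertVanishing K d n φ) := by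
  classical
  induction hN : codeg τ using Nat.strong_induction_on generalizing τ with
  | _ N ih =>
  subst hN
  have hU : ∀ S : Finset (Idx d n), S.Nonempty → (∀ φ ∈ S, φ ∈ divisors τ) →
      WReg.WReg (A := PlRing K d n) (levList K d n (codeg τ - 1))
        (⨅ φ ∈ S, schubertVanishing K d n φ) := by
    intro S hS
    induction hS using Finset.Nonempty.cons_induction with
    | singleton φ =>
      intro hmem
      obtain ⟨-, hc⟩ := hmem φ (Finset.mem_singleton_self φ)
      simp only [Finset.mem_singleton, iInf_iInf_eq_left]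
      have := (ih (codeg φ) (by omega) φ rfl).1
      rwa [show codeg τ - 1 = codeg φ by omega]
    | cons φ S hφS hS ihS =>
      intro hmem
      rw [Finset.cons_eq_insert, Finset.iInf_insert, inf_comm]
      have hφ := hmem φ (Finset.mem_cons_self φ S)
      have hSmem : ∀ ψ ∈ S, ψ ∈ divisors τ := fun ψ hψ => hmem ψ (Finset.mem_cons.2 (Or.inr hψ))
      have himg : ∀ χ ∈ S.image (W4bk4grassmannian.inf φ), χ ∈ divisors φ := by
        intro χ hχ
        obtain ⟨ψ, hψ, rfl⟩ := Finset.mem_image.1 hχ
        exact inf_mem_divisors hφ (hSmem ψ hψ) fun h => hφS (h ▸ hψ)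
      obtain ⟨χ, hχ⟩ := hS.image (W4bk4grassmannian.inf φ)
      have hc1 := (himg χ hχ).2
      have hc2 := hφ.2
      obtain ⟨M, hM⟩ : ∃ M, codeg τ - 1 = M + 1 := ⟨codeg τ - 2, by omega⟩
      rw [hM, levList]
      have hx : lev K d n (M + 1) ∈
          (⨅ ψ ∈ S, schubertVanishing K d n ψ) ⊔ schubertVanishing K d n φ := by
        rw [inf_sup_eq K hd]
        refine Ideal.mem_iInf.2 fun χ' => Ideal.mem_iInf.2 fun hχ' => lev_mem_of_lt K hd ?_
        have := (himg χ' hχ').2
        omega
      refine WReg.wreg_inf hx ?_ ?_ ?_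
      · have := ihS hSmem
        rwa [hM, levList] at this
      · have := (ih (codeg φ) (by omega) φ rfl).1
        rwa [show codeg φ = M + 1 by omega, levList] at this
      · rw [inf_sup_eq K hd]
        have := (ih (codeg φ) (by omega) φ rfl).2 _ (hS.image _) himg
        rwa [show codeg φ - 1 = M by omega] at this
  refine ⟨?_, hU⟩
  cases hN : codeg τ with
  | zero =>
    refine ⟨fun a ha => lev_regular K hd τ a ?_, trivial⟩
    rw [hN]; exact ha
  | succ M =>
    rw [levList]
    refine ⟨fun a ha => lev_regular K hd τ a (by rw [hN]; exact ha), ?_⟩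
    rw [WReg.step_ideal]
    have hsup : schubertVanishing K d n τ ⊔ Ideal.span {lev K d n (M + 1)} =
        schubertVanishing K d n τ ⊔ Ideal.span {X τ} := by
      have h1 : lev K d n (M + 1) - X τ ∈ schubertVanishing K d n τ := by
        rw [← hN]; exact lev_sub_X_mem K hd τ
      apply le_antisymm <;> refine sup_le le_sup_left ((Ideal.span_singleton_le_iff_mem _).2 ?_)
      · have := Ideal.add_mem _ (Ideal.mem_sup_left h1 :
          lev K d n (M + 1) - X τ ∈ schubertVanishing K d n τ ⊔ Ideal.span {X τ})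
          (Ideal.mem_sup_right (Ideal.mem_span_singleton_self (X τ)))
        simpa using this
      · have := Ideal.sub_mem _ (Ideal.mem_sup_right (Ideal.mem_span_singleton_self _) :
          lev K d n (M + 1) ∈ schubertVanishing K d n τ ⊔ Ideal.span {lev K d n (M + 1)})
          (Ideal.mem_sup_left h1)
        simpa using this
    have hlt : Bottom.botIdx hdn.le < τ := by
      refine lt_of_le_of_ne (Bottom.botIdx_le _ τ) fun h => ?_
      have : codeg (Bottom.botIdx (n := n) hdn.le) = 0 := by simp [codeg, Bottom.botIdx]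
      rw [h, hN] at this
      exact Nat.succ_ne_zero M this
    rw [hsup, Groth.Agent.S11254.result K d n hd hdn τ ⟨_, hlt⟩]
    have hfin : (Finset.univ.filter fun φ => φ ∈ divisors τ).Nonempty := by
      obtain ⟨φ, hφ, -⟩ := Groth.Agent.S11268.result d n _ τ hlt
      exact ⟨φ, by simp [hφ]⟩
    have := hU _ hfin (fun φ hφ => (Finset.mem_filter.1 hφ).2)
    rw [hN, Nat.add_sub_cancel] at this
    convert this using 2
    simp

theorem isHomog_schubert (hd : 0 < d) (τ : Idx d n) :
    FreeGraded.IsHomog K (schubertVanishing K d n τ) := by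
  classical
  have hX : ∀ θ : Idx d n, (Schubert.phi K τ (X θ)).IsHomogeneous d := by
    intro θ
    rw [Schubert.phi, aeval_X, Matrix.det_apply]
    refine IsHomogeneous.sum _ _ _ fun π _ => ?_
    have h : (∏ t : Fin d, ((Schubert.genE K τ).submatrix θ.1 id) (π t) t).IsHomogeneous
        (∑ _t : Fin d, 1) := by
      refine IsHomogeneous.prod _ _ _ fun t _ => ?_
      simp only [Matrix.submatrix_apply, id_eq, Schubert.genE, Matrix.of_apply]
      split
      · exact isHomogeneous_X K _
      · exact isHomogeneous_zero _ _ _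
    rw [show (∑ _t : Fin d, 1) = d by simp] at h
    rcases Int.units_eq_one_or (Equiv.Perm.sign π) with hs | hs <;> rw [hs]
    · simpa using h
    · simpa using h.neg
  have hhom : ∀ (f : PlRing K d n) (k : ℕ), f.IsHomogeneous k →
      (Schubert.phi K τ f).IsHomogeneous (d * k) := by
    intro f k hf
    rw [← f.support_sum_monomial_coeff, map_sum]
    refine IsHomogeneous.sum _ _ _ fun e he => ?_
    rw [Schubert.phi, aeval_monomial, MvPolynomial.algebraMap_eq]
    have h2 : (e.prod fun θ a => ((Schubert.genE K τ).submatrix θ.1 id).det ^ a :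
        MatRing K d n).IsHomogeneous (∑ θ ∈ e.support, d * e θ) := by
      refine IsHomogeneous.prod _ _ _ fun θ _ => ?_
      have := (hX θ).pow (e θ)
      simpa [Schubert.phi] using this
    rw [← Finset.mul_sum, ← hf.degree_eq_sum_deg_support he] at h2
    exact h2.C_mul _
  intro f hf k
  rw [Basis.mem_schubertVanishing_iff K hd] at hf ⊢
  have h3 := congrArg (homogeneousComponent (d * k)) hf
  rw [map_zero] at h3
  conv_lhs at h3 => rw [← f.sum_homogeneousComponent, map_sum, map_sum]
  rw [Finset.sum_congr rfl fun i _ =>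
    homogeneousComponent_of_mem (hhom _ i (homogeneousComponent_isHomogeneous i f))] at h3
  simp only [Nat.mul_left_cancel_iff hd, Finset.sum_ite_eq] at h3
  by_cases hk : k ∈ Finset.range (f.totalDegree + 1)
  · rwa [if_pos hk] at h3
  · rw [homogeneousComponent_eq_zero, map_zero]
    simpa using hk

theorem isHomog_iInf (hd : 0 < d) (S : Finset (Idx d n)) :
    FreeGraded.IsHomog K (⨅ φ ∈ S, schubertVanishing K d n φ) := by
  intro f hf k
  simp only [Ideal.mem_iInf] at hf ⊢
  exact fun φ hφ => isHomog_schubert K hd φ f (hf φ hφ) k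

/-- Cohen–Macaulayness and dimension of `K[X]/I` from the level sequence -/
theorem cm_dim (N : ℕ) (I : Ideal (PlRing K d n)) (htop : plIdealTop (d := d) (n := n) K ≤ I)
    (hhom : FreeGraded.IsHomog K I)
    (hreg : WReg.WReg (A := PlRing K d n) (levList K d n N) I)
    (hhigh : ∀ k, N < k → lev K d n k ∈ I) :
    LocCoh.IsCohenMacaulayRing (PlRing K d n ⧸ I) ∧
      (I ≠ ⊤ → ringKrullDim (PlRing K d n ⧸ I) = ((N + 1 : ℕ) : WithBot ℕ∞)) := by
  have hrad : ∀ φ, (X φ : PlRing K d n) ∈ (I ⊔ Ideal.span (Set.range (levTuple K d n N))).radical :=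
    fun φ => X_mem_radical (htop.trans le_sup_left) (fun k => by
      by_cases hk : N < k
      · exact Ideal.mem_sup_left (hhigh k hk)
      · refine Ideal.mem_sup_right (Ideal.subset_span ⟨⟨N - k, by omega⟩, ?_⟩)
        change lev K d n (N - (N - k)) = lev K d n k
        rw [Nat.sub_sub_self (not_lt.1 hk)]) φ
  obtain ⟨hfree, hfin⟩ := FreeGraded.free_finite K (levTuple K d n N) I
    (fun i => lev_isHomogeneous K _) hhom (by rw [ofFn_levTuple]; exact hreg) hrad
  letI := FreeGraded.algQ K (levTuple K d n N) I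
  haveI := hfree
  haveI := hfin
  haveI : IsRegularRing (MvPolynomial (Fin (N + 1)) K) := inferInstance
  refine ⟨FiniteFreeCM.isCohenMacaulayRing (MvPolynomial (Fin (N + 1)) K) (PlRing K d n ⧸ I),
    fun hI => ?_⟩
  haveI : Nontrivial (PlRing K d n ⧸ I) := Ideal.Quotient.nontrivial_iff.2 hI
  rw [FiniteFreeCM.ringKrullDim_eq (MvPolynomial (Fin (N + 1)) K) (PlRing K d n ⧸ I),
    MvPolynomial.ringKrullDim_of_isNoetherianRing, ringKrullDim_eq_zero_of_field]
  simp

end field

end Groth.Agent.W4bk4.Levels
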