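import Mathlib.RingTheory.Ideal.Operations
import Mathlib.LinearAlgebra.Prod
import Mathlib.RingTheory.Ideal.Maps
import Mathlib.Tactic.LinearCombination
import Mathlib.Tactic.Abel

/-!
# Weakly regular sequences modulo submodules, short exact sequences, unions
-/

set_option autoImplicit false

open Pointwise

universe u v

namespace Groth.Agent.W4bk4.WReg

variable {R : Type u} [CommRing R]
variable {A : Type*} [AddCommGroup A] [Module R A]
variable {B : Type*} [AddCommGroup B] [Module R B]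
variable {C : Type*} [AddCommGroup C] [Module R C]

/-- `N + x M` -/
def step (x : R) (N : Submodule R A) : Submodule R A :=
  N ⊔ LinearMap.range (LinearMap.lsmul R A x)

theorem mem_step {x : R} {N : Submodule R A} {m : A} :
    m ∈ step x N ↔ ∃ n ∈ N, ∃ b : A, n + x • b = m := by
  simp [step, Submodule.mem_sup]

/-- the list is a weakly regular sequence on `A ⧸ N` -/
def WReg : List R → Submodule R A → Prop
  | [], _ => True
  | x :: l, N => (∀ a : A, x • a ∈ N → a ∈ N) ∧ WReg l (step x N)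

/-- `0 → A/NA → B/NB → C/NC → 0` is exact -/
structure SES (i : A →ₗ[R] B) (q : B →ₗ[R] C) (NA : Submodule R A) (NB : Submodule R B)
    (NC : Submodule R C) : Prop where
  inj : ∀ a, i a ∈ NB ↔ a ∈ NA
  exact' : ∀ b, q b ∈ NC ↔ ∃ a, b - i a ∈ NB
  surj : ∀ c, ∃ b, q b - c ∈ NC

variable {i : A →ₗ[R] B} {q : B →ₗ[R] C} {NA : Submodule R A} {NB : Submodule R B}
  {NC : Submodule R C}

theorem SES.q_mem (h : SES i q NA NB NC) {b : B} (hb : b ∈ NB) : q b ∈ NC :=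
  (h.exact' b).2 ⟨0, by simpa using hb⟩

theorem SES.q_i (h : SES i q NA NB NC) (a : A) : q (i a) ∈ NC :=
  (h.exact' (i a)).2 ⟨a, by simp⟩

theorem SES.step (h : SES i q NA NB NC) {x : R} (hC : ∀ c : C, x • c ∈ NC → c ∈ NC) :
    SES i q (step x NA) (step x NB) (step x NC) := by
  refine ⟨fun a => ⟨fun ha => ?_, fun ha => ?_⟩, fun b => ⟨fun hb => ?_, ?_⟩, fun c => ?_⟩
  · obtain ⟨nb, hnb, b, hb⟩ := mem_step.1 ha
    have hq : x • q b ∈ NC := by
      have h1 := h.q_i a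
      rw [← hb, map_add, map_smul] at h1
      simpa using NC.sub_mem h1 (h.q_mem hnb)
    obtain ⟨a', ha'⟩ := (h.exact' b).1 (hC _ hq)
    have : i (a - x • a') ∈ NB := by
      rw [map_sub, map_smul, ← hb,
        show nb + x • b - x • i a' = nb + x • (b - i a') by rw [smul_sub]; abel]
      exact NB.add_mem hnb (NB.smul_mem x ha')
    exact mem_step.2 ⟨a - x • a', (h.inj _).1 this, a', by abel⟩
  · obtain ⟨na, hna, a', rfl⟩ := mem_step.1 ha
    exact mem_step.2 ⟨i na, (h.inj _).2 hna, i a', by rw [map_add, map_smul]⟩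
  · obtain ⟨nc, hnc, c, hc⟩ := mem_step.1 hb
    obtain ⟨b', hb'⟩ := h.surj c
    have : q (b - x • b') ∈ NC := by
      rw [map_sub, map_smul, ← hc,
        show nc + x • c - x • q b' = nc - x • (q b' - c) by rw [smul_sub]; abel]
      exact NC.sub_mem hnc (NC.smul_mem x hb')
    obtain ⟨a, ha⟩ := (h.exact' _).1 this
    exact ⟨a, mem_step.2 ⟨_, ha, b', by abel⟩⟩
  · rintro ⟨a, ha⟩
    obtain ⟨nb, hnb, b', hb'⟩ := mem_step.1 ha
    refine mem_step.2 ⟨q (i a) + q nb, NC.add_mem (h.q_i a) (h.q_mem hnb), q b', ?_⟩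
    have := congrArg q hb'
    rw [map_add, map_smul, map_sub] at this
    rw [add_assoc, this]; abel
  · obtain ⟨b, hb⟩ := h.surj c
    exact ⟨b, mem_step.2 ⟨_, hb, 0, by simp⟩⟩

theorem SES.reg_sub (h : SES i q NA NB NC) {x : R} (hB : ∀ b : B, x • b ∈ NB → b ∈ NB) :
    ∀ a : A, x • a ∈ NA → a ∈ NA := fun a ha =>
  (h.inj a).1 (hB _ (by rw [← map_smul]; exact (h.inj _).2 ha))

theorem SES.reg_mid (h : SES i q NA NB NC) {x : R} (hA : ∀ a : A, x • a ∈ NA → a ∈ NA)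
    (hC : ∀ c : C, x • c ∈ NC → c ∈ NC) : ∀ b : B, x • b ∈ NB → b ∈ NB := by
  intro b hb
  obtain ⟨a, ha⟩ := (h.exact' b).1 (hC _ (by rw [← map_smul]; exact h.q_mem hb))
  have : i (x • a) ∈ NB := by
    rw [map_smul, show x • i a = x • b - x • (b - i a) by rw [smul_sub]; abel]
    exact NB.sub_mem hb (NB.smul_mem x ha)
  have h2 : i a ∈ NB := (h.inj a).2 (hA a ((h.inj _).1 this))
  simpa using NB.add_mem ha h2

theorem SES.wreg_sub (h : SES i q NA NB NC) {l : List R} (hB : WReg l NB) (hC : WReg l NC) :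
    WReg l NA := by
  induction l generalizing NA NB NC with
  | nil => trivial
  | cons x l ih => exact ⟨h.reg_sub hB.1, ih (h.step hC.1) hB.2 hC.2⟩

theorem SES.wreg_mid (h : SES i q NA NB NC) {l : List R} (hA : WReg l NA) (hC : WReg l NC) :
    WReg l NB := by
  induction l generalizing NA NB NC with
  | nil => trivial
  | cons x l ih => exact ⟨h.reg_mid hA.1 hC.1, ih (h.step hC.1) hA.2 hC.2⟩

theorem wreg_prod {l : List R} {NA : Submodule R A} {NB : Submodule R B} (hA : WReg l NA)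
    (hB : WReg l NB) : WReg l (NA.prod NB) := by
  induction l generalizing NA NB with
  | nil => trivial
  | cons x l ih =>
    refine ⟨fun p hp => ⟨hA.1 _ hp.1, hB.1 _ hp.2⟩, ?_⟩
    have : step x (NA.prod NB) = (step x NA).prod (step x NB) := by
      ext ⟨a, b⟩
      simp only [mem_step, Submodule.mem_prod, Prod.exists, Prod.smul_mk, Prod.mk_add_mk, Prod.mk.injEq]
      constructor
      · rintro ⟨a₀, b₀, ⟨h1, h2⟩, a₁, b₁, e1, e2⟩
        exact ⟨⟨a₀, h1, a₁, e1⟩, b₀, h2, b₁, e2⟩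
      · rintro ⟨⟨a₀, h1, a₁, e1⟩, b₀, h2, b₁, e2⟩
        exact ⟨a₀, b₀, ⟨h1, h2⟩, a₁, b₁, e1, e2⟩
    rw [this]
    exact ih hA.2 hB.2

theorem step_ideal (x : R) (I : Ideal R) : step x (A := R) I = I ⊔ Ideal.span {x} := by
  ext m
  rw [mem_step, Submodule.mem_sup]
  simp only [Ideal.mem_span_singleton']
  constructor
  · rintro ⟨n, hn, b, rfl⟩; exact ⟨n, hn, _, ⟨b, mul_comm b x⟩, rfl⟩
  · rintro ⟨n, hn, _, ⟨b, rfl⟩, rfl⟩; exact ⟨n, hn, b, by rw [smul_eq_mul, mul_comm]⟩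

/-- a union `Z ∪ Z'` where the first element of the sequence vanishes on `Z ∩ Z'` -/
theorem wreg_inf {x : R} {l : List R} {I₁ I₂ : Ideal R} (hx : x ∈ I₁ ⊔ I₂)
    (h₁ : WReg (A := R) (x :: l) I₁) (h₂ : WReg (A := R) (x :: l) I₂)
    (h₁₂ : WReg (A := R) l (I₁ ⊔ I₂)) : WReg (A := R) (x :: l) (I₁ ⊓ I₂) := by
  refine ⟨fun a ha => ⟨h₁.1 a ha.1, h₂.1 a ha.2⟩, ?_⟩
  rw [step_ideal]
  obtain ⟨a₁, ha₁, a₂, ha₂, hsum⟩ := Submodule.mem_sup.1 hx
  have r₁ : ∀ a, x * a ∈ I₁ → a ∈ I₁ := h₁.1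
  have r₂ : ∀ a, x * a ∈ I₂ → a ∈ I₂ := h₂.1
  have t₁ := h₁.2
  have t₂ := h₂.2
  rw [step_ideal] at t₁ t₂
  have hK : WReg (A := R) l ((I₁ ⊔ Ideal.span {x}) ⊓ (I₂ ⊔ Ideal.span {x})) := by
    refine SES.wreg_sub (A := R) (B := R × R) (C := R) (i := LinearMap.prod LinearMap.id LinearMap.id)
      (q := LinearMap.fst R R R - LinearMap.snd R R R) ⟨?_, ?_, ?_⟩ (wreg_prod t₁ t₂) h₁₂
    · intro a; exact Iff.rfl
    · rintro ⟨a, b⟩
      change a - b ∈ I₁ ⊔ I₂ ↔ ∃ f : R, a - f ∈ I₁ ⊔ Ideal.span {x} ∧ b - f ∈ I₂ ⊔ Ideal.span {x}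
      constructor
      · intro h
        obtain ⟨u, hu, v, hv, huv⟩ := Submodule.mem_sup.1 h
        refine ⟨a - u, ?_, ?_⟩
        · rw [sub_sub_cancel]; exact Ideal.mem_sup_left hu
        · have : b - (a - u) = -v := by linear_combination huv
          rw [this]
          exact Ideal.mem_sup_left (I₂.neg_mem hv)
      · rintro ⟨f, h1, h2⟩
        have hle : ∀ {I : Ideal R}, I ≤ I₁ ⊔ I₂ → I ⊔ Ideal.span {x} ≤ I₁ ⊔ I₂ := fun hI =>
          sup_le hI ((Ideal.span_singleton_le_iff_mem _).2 hx)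
        have := (I₁ ⊔ I₂).sub_mem (hle le_sup_left h1) (hle le_sup_right h2)
        simpa using this
    · intro c; exact ⟨(c, 0), by simp⟩
  refine SES.wreg_mid (A := R) (B := R) (C := R) (i := LinearMap.toSpanSingleton R R a₂)
    (q := LinearMap.id) ⟨?_, ?_, ?_⟩ h₁₂ hK
  · intro c
    simp only [LinearMap.toSpanSingleton_apply, smul_eq_mul]
    constructor
    · intro h
      obtain ⟨m, hm, y, hy, hmy⟩ := Submodule.mem_sup.1 h
      obtain ⟨g, rfl⟩ := Ideal.mem_span_singleton'.1 hy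
      have e1 : c - g ∈ I₁ := r₁ _ (by
        have : x * (c - g) = m + a₁ * c := by linear_combination -hmy - c * hsum
        rw [this]; exact I₁.add_mem hm.1 (I₁.mul_mem_right c ha₁))
      have e2 : g ∈ I₂ := r₂ _ (by
        have : x * g = c * a₂ - m := by linear_combination hmy
        rw [this]; exact I₂.sub_mem (I₂.mul_mem_left c ha₂) hm.2)
      have := Submodule.add_mem_sup (S := I₁) (T := I₂) e1 e2
      simpa using this
    · intro h
      obtain ⟨b₁, hb₁, b₂, hb₂, rfl⟩ := Submodule.mem_sup.1 h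
      refine Submodule.mem_sup.2 ⟨b₁ * a₂ - a₁ * b₂, ⟨?_, ?_⟩, x * b₂,
        Ideal.mem_span_singleton'.2 ⟨b₂, mul_comm b₂ x⟩, by linear_combination -b₂ * hsum⟩
      · exact I₁.sub_mem (I₁.mul_mem_right a₂ hb₁) (I₁.mul_mem_right b₂ ha₁)
      · exact I₂.sub_mem (I₂.mul_mem_left b₁ ha₂) (I₂.mul_mem_left a₁ hb₂)
  · intro f
    simp only [LinearMap.id_coe, id_eq, LinearMap.toSpanSingleton_apply, smul_eq_mul]
    constructor
    · rintro ⟨h1, h2⟩
      obtain ⟨b₁, hb₁, y₁, hy₁, e₁⟩ := Submodule.mem_sup.1 h1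
      obtain ⟨g₁, rfl⟩ := Ideal.mem_span_singleton'.1 hy₁
      obtain ⟨b₂, hb₂, y₂, hy₂, e₂⟩ := Submodule.mem_sup.1 h2
      obtain ⟨g₂, rfl⟩ := Ideal.mem_span_singleton'.1 hy₂
      refine ⟨g₁ - g₂, Submodule.mem_sup.2 ⟨f - g₂ * x - (g₁ - g₂) * a₂, ⟨?_, ?_⟩,
        g₂ * x, Ideal.mem_span_singleton'.2 ⟨g₂, rfl⟩, by ring⟩⟩
      · have : f - g₂ * x - (g₁ - g₂) * a₂ = b₁ + (g₁ - g₂) * a₁ := by
          linear_combination -e₁ - (g₁ - g₂) * hsum
        rw [this]; exact I₁.add_mem hb₁ (I₁.mul_mem_left _ ha₁)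
      · have : f - g₂ * x - (g₁ - g₂) * a₂ = b₂ - (g₁ - g₂) * a₂ := by linear_combination -e₂
        rw [this]; exact I₂.sub_mem hb₂ (I₂.mul_mem_left _ ha₂)
    · rintro ⟨c, h⟩
      have h2 : a₂ ∈ (I₁ ⊔ Ideal.span {x}) ⊓ (I₂ ⊔ Ideal.span {x}) := by
        refine ⟨?_, Ideal.mem_sup_left ha₂⟩
        rw [eq_sub_of_add_eq' hsum]
        exact Ideal.sub_mem _ (Ideal.mem_sup_right (Ideal.mem_span_singleton_self x))
          (Ideal.mem_sup_left ha₁)
      have h3 : (I₁ ⊓ I₂) ⊔ Ideal.span {x} ≤ (I₁ ⊔ Ideal.span {x}) ⊓ (I₂ ⊔ Ideal.span {x}) :=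
        le_inf (sup_le_sup_right inf_le_left _) (sup_le_sup_right inf_le_right _)
      have := Ideal.add_mem _ (h3 h) (Ideal.mul_mem_left _ c h2)
      simpa using this
  · intro c; exact ⟨c, by simp⟩

end Groth.Agent.W4bk4.WReg
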