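import Groth.Agent.W4bk4.Levels
import Groth.Agent.S11254
import Mathlib.LinearAlgebra.Matrix.Block
import Mathlib.Algebra.MvPolynomial.Nilpotent
import Mathlib.Algebra.MvPolynomial.Division
import Mathlib.RingTheory.Localization.Away.Basic
import Mathlib.RingTheory.IntegralClosure.IntegrallyClosed
import Mathlib.RingTheory.Polynomial.UniqueFactorization
import Mathlib.GroupTheory.MonoidLocalization.UniqueFactorization

/-!
# The open cell of a Schubert variety, normality, factoriality
-/

set_option autoImplicit false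

open W4bk4grassmannian MvPolynomial Matrix

noncomputable section

universe u v w

namespace Groth.Agent.W4bk4.Cell

/-- normality from a reduced hyperplane section and a normal ring between `R` and `R[1/p]` -/
theorem isIntegrallyClosed_of_radical {R : Type u} {A : Type v} [CommRing R] [IsDomain R]
    [CommRing A] [IsDomain A] [IsIntegrallyClosed A] (f : R →+* A) (hf : Function.Injective f)
    (p : R) (hp : p ≠ 0) (hrad : ∀ (a : R) (m : ℕ), p ∣ a ^ m → p ∣ a)
    (hloc : ∀ a : A, ∃ (k : ℕ) (r : R), f r = f p ^ k * a) : IsIntegrallyClosed R := by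
  classical
  rw [isIntegrallyClosed_iff (FractionRing R)]
  intro x hx
  let g : FractionRing R →+* FractionRing A :=
    IsFractionRing.lift (g := (algebraMap A (FractionRing A)).comp f)
      ((IsFractionRing.injective A (FractionRing A)).comp hf)
  have hg : ∀ r : R, g (algebraMap R (FractionRing R) r) = algebraMap A (FractionRing A) (f r) :=
    fun r => IsFractionRing.lift_algebraMap _ r
  obtain ⟨P, hP, hP0⟩ := hx
  have hgx : IsIntegral A (g x) := by
    refine ⟨P.map f, hP.map f, ?_⟩
    rw [Polynomial.eval₂_map]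
    have h := congrArg g hP0
    rw [map_zero, Polynomial.hom_eval₂] at h
    have hcomp : g.comp (algebraMap R (FractionRing R)) = (algebraMap A (FractionRing A)).comp f :=
      RingHom.ext hg
    rw [hcomp] at h
    exact h
  obtain ⟨a, ha⟩ := IsIntegrallyClosed.isIntegral_iff.1 hgx
  obtain ⟨k, r, hr⟩ := hloc a
  have key : ∀ (k : ℕ) (r : R), algebraMap R (FractionRing R) r =
      algebraMap R (FractionRing R) p ^ k * x → ∃ y, algebraMap R (FractionRing R) y = x := by
    intro k
    induction k with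
    | zero => intro r hr; exact ⟨r, by simpa using hr⟩
    | succ k ih =>
      intro r hr
      set q := p ^ (k + 1) with hq
      have hrq : algebraMap R (FractionRing R) r = algebraMap R (FractionRing R) q * x := by
        rw [hr, hq, map_pow]
      -- clear denominators in the integral equation
      have hsum : ∑ i ∈ Finset.range (P.natDegree + 1),
          P.coeff i * r ^ i * q ^ (P.natDegree - i) = 0 := by
        apply IsFractionRing.injective R (FractionRing R)
        rw [map_sum, map_zero]
        have h := congrArg (fun z => algebraMap R (FractionRing R) q ^ P.natDegree * z) hP0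
        simp only [mul_zero, Polynomial.eval₂_eq_sum_range, Finset.mul_sum] at h
        refine Eq.trans (Finset.sum_congr rfl fun i hi => ?_) h
        have hi' : i ≤ P.natDegree := Finset.mem_range_succ_iff.1 hi
        rw [map_mul, map_mul, map_pow, map_pow, hrq]
        conv_rhs => rw [← Nat.sub_add_cancel hi', pow_add]
        ring
      rw [Finset.sum_range_succ, hP.coeff_natDegree, Nat.sub_self, pow_zero, mul_one, one_mul]
        at hsum
      have hdvd : p ∣ r ^ P.natDegree := by
        rw [add_eq_zero_iff_eq_neg'.1 hsum, dvd_neg]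
        refine Finset.dvd_sum fun i hi => dvd_mul_of_dvd_right ?_ _
        refine dvd_trans ?_ (dvd_pow_self q (n := P.natDegree - i) (by
          have := Finset.mem_range.1 hi; omega))
        exact dvd_pow_self p (Nat.succ_ne_zero k)
      obtain ⟨r', rfl⟩ := hrad r _ hdvd
      refine ih r' ?_
      rw [map_mul, pow_succ] at hr
      have hp' : algebraMap R (FractionRing R) p ≠ 0 := fun h =>
        hp (IsFractionRing.injective R (FractionRing R) (by rw [h, map_zero]))
      exact mul_left_cancel₀ hp' (by rw [hr]; ring)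
  refine key k r (g.injective ?_)
  rw [map_mul, map_pow, hg, hg, hr, map_mul, map_pow, ← ha]

/-- Nagata's criterion, for a localisation at a prime element -/
theorem ufd_of_prime {R : Type u} {L : Type v} [CommRing R] [IsDomain R] [IsNoetherianRing R]
    [CommRing L] [IsDomain L] [UniqueFactorizationMonoid L] (f : R →+* L)
    (hf : Function.Injective f) (p : R) (hp : Prime p) (hu : IsUnit (f p))
    (hloc : ∀ l : L, ∃ (k : ℕ) (r : R), f r = f p ^ k * l) : UniqueFactorizationMonoid R := by
  haveI : WfDvdMonoid R := inferInstance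
  refine ⟨fun {q} => ⟨?_, Prime.irreducible⟩⟩
  intro hq
  by_cases hpq : p ∣ q
  · exact ((hp.irreducible.associated_of_dvd hq hpq).prime_iff).1 hp
  have hpow : ∀ (k : ℕ) (a b : R), q * a = p ^ k * b → p ^ k ∣ a := fun k a b h =>
    hp.pow_dvd_of_dvd_mul_left k hpq ⟨b, h⟩
  have hnu : ¬ IsUnit (f q) := by
    intro h
    obtain ⟨k, r, hr⟩ := hloc ↑h.unit⁻¹
    have h1 : q * r = p ^ k * 1 := by
      apply hf
      rw [map_mul, map_mul, map_one, map_pow, hr, mul_one, mul_left_comm, h.mul_val_inv, mul_one]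
    obtain ⟨r', rfl⟩ := hpow k r 1 h1
    rw [mul_left_comm] at h1
    exact hq.1 (IsUnit.of_mul_eq_one _ (mul_left_cancel₀ (pow_ne_zero k hp.ne_zero) h1))
  have hirr : Irreducible (f q) := by
    refine ⟨hnu, fun l₁ l₂ hl => ?_⟩
    obtain ⟨k₁, r₁, hr₁⟩ := hloc l₁
    obtain ⟨k₂, r₂, hr₂⟩ := hloc l₂
    have h12 : r₁ * r₂ = p ^ (k₁ + k₂) * q := by
      apply hf
      rw [map_mul, map_mul, map_pow, hr₁, hr₂, hl, pow_add]
      ring
    have hr0 : r₁ ≠ 0 ∧ r₂ ≠ 0 := by
      rw [← mul_ne_zero_iff, h12]
      exact mul_ne_zero (pow_ne_zero _ hp.ne_zero) hq.ne_zero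
    obtain ⟨a₁, s₁, hs₁, rfl⟩ := WfDvdMonoid.max_power_factor hr0.1 hp.irreducible
    obtain ⟨a₂, s₂, hs₂, rfl⟩ := WfDvdMonoid.max_power_factor hr0.2 hp.irreducible
    have hs : ¬ p ∣ s₁ * s₂ := fun h => (hp.dvd_or_dvd h).elim hs₁ hs₂
    have heq : p ^ (a₁ + a₂) * (s₁ * s₂) = p ^ (k₁ + k₂) * q := by rw [← h12]; ring
    have ha : a₁ + a₂ = k₁ + k₂ := by
      rcases lt_trichotomy (a₁ + a₂) (k₁ + k₂) with h | h | h
      · exfalso
        rw [show p ^ (k₁ + k₂) = p ^ (a₁ + a₂) * p ^ (k₁ + k₂ - (a₁ + a₂)) by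
          rw [← pow_add, Nat.add_sub_of_le h.le], mul_assoc] at heq
        refine hs ((dvd_pow_self p (n := k₁ + k₂ - (a₁ + a₂)) (by omega)).trans ⟨q, ?_⟩)
        exact mul_left_cancel₀ (pow_ne_zero _ hp.ne_zero) heq
      · exact h
      · exfalso
        rw [show p ^ (a₁ + a₂) = p ^ (k₁ + k₂) * p ^ (a₁ + a₂ - (k₁ + k₂)) by
          rw [← pow_add, Nat.add_sub_of_le h.le], mul_assoc] at heq
        refine hpq ((dvd_pow_self p (n := a₁ + a₂ - (k₁ + k₂)) (by omega)).trans ⟨s₁ * s₂, ?_⟩)
        exact (mul_left_cancel₀ (pow_ne_zero _ hp.ne_zero) heq).symm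
    rw [ha] at heq
    have hsq : q = s₁ * s₂ := (mul_left_cancel₀ (pow_ne_zero _ hp.ne_zero) heq).symm
    have hu' : ∀ (a k : ℕ) (s : R) (l : L), f (p ^ a * s) = f p ^ k * l → IsUnit s → IsUnit l := by
      intro a k s l h hs'
      have : IsUnit (f p ^ k * l) := by
        rw [← h, map_mul, map_pow]; exact (hu.pow a).mul (hs'.map f)
      exact isUnit_of_mul_isUnit_right this
    exact (hq.isUnit_or_isUnit hsq).imp (hu' a₁ k₁ s₁ l₁ hr₁) (hu' a₂ k₂ s₂ l₂ hr₂)
  have hprime : Prime (f q) := UniqueFactorizationMonoid.irreducible_iff_prime.1 hirr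
  refine ⟨hq.ne_zero, hq.1, fun a b hab => ?_⟩
  have h : ∀ a : R, f q ∣ f a → q ∣ a := by
    rintro a ⟨l, hl⟩
    obtain ⟨k, r, hr⟩ := hloc l
    have h1 : q * r = p ^ k * a := by
      apply hf
      rw [map_mul, map_mul, map_pow, hr, hl]
      ring
    obtain ⟨r', rfl⟩ := hpow k r a h1
    rw [mul_left_comm] at h1
    exact ⟨r', (mul_left_cancel₀ (pow_ne_zero k hp.ne_zero) h1).symm⟩
  exact (hprime.dvd_or_dvd (by rw [← map_mul]; exact map_dvd f hab)).imp (h a) (h b)

theorem mem_span_mk_iff {S : Type u} [CommRing S] (J : Ideal S) (x f : S) :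
    Ideal.Quotient.mk J x ∣ Ideal.Quotient.mk J f ↔ f ∈ J ⊔ Ideal.span {x} := by
  rw [← Ideal.mem_span_singleton, ← Set.image_singleton, ← Ideal.map_span, ← Ideal.mem_comap,
    Ideal.comap_map_of_surjective' _ Ideal.Quotient.mk_surjective, Ideal.mk_ker, sup_comm]

theorem prime_mk_iff {S : Type u} [CommRing S] (J : Ideal S) [J.IsPrime] (x : S) (hx : x ∉ J) :
    Prime (Ideal.Quotient.mk J x) ↔ (J ⊔ Ideal.span {x}).IsPrime := by
  have h0 : Ideal.Quotient.mk J x ≠ 0 := fun h => hx (Ideal.Quotient.eq_zero_iff_mem.1 h)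
  rw [← Ideal.span_singleton_prime h0]
  have hc : Ideal.comap (Ideal.Quotient.mk J) (Ideal.span {Ideal.Quotient.mk J x}) =
      J ⊔ Ideal.span {x} := Ideal.ext fun f => by
    rw [Ideal.mem_comap, Ideal.mem_span_singleton, mem_span_mk_iff]
  rw [← hc]
  constructor
  · intro h; exact Ideal.IsPrime.comap _
  · intro h
    have := Ideal.map_isPrime_of_surjective (f := Ideal.Quotient.mk J) Ideal.Quotient.mk_surjective
      (I := Ideal.comap (Ideal.Quotient.mk J) (Ideal.span {Ideal.Quotient.mk J x}))
      (by rw [Ideal.mk_ker, hc]; exact le_sup_left)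
    rwa [Ideal.map_comap_of_surjective _ Ideal.Quotient.mk_surjective] at this

section cell

variable {d n : ℕ}

/-- the free entries of the normal form of a matrix in the open cell of `X(τ)` -/
abbrev Free (τ : Idx d n) : Type := {p : Fin n × Fin d // p.1 < τ.1 p.2 ∧ ∀ s, τ.1 s ≠ p.1}

variable (K : Type u) [Field K] [IsAlgClosed K] (τ : Idx d n)

/-- `u` and the free entries -/
abbrev CellA : Type u := MvPolynomial (Option (Free τ)) K

/-- the normal form: identity on the rows `τ`, free entries above -/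
def cellB : Matrix (Fin n) (Fin d) (CellA K τ) :=
  Matrix.of fun i t => if h : i < τ.1 t ∧ ∀ s, τ.1 s ≠ i then X (some ⟨(i, t), h⟩)
    else if τ.1 t = i then 1 else 0

theorem cellB_row (s : Fin d) (t : Fin d) :
    cellB K τ (τ.1 s) t = if s = t then 1 else 0 := by
  rw [cellB, Matrix.of_apply, dif_neg (fun h => h.2 s rfl)]
  by_cases h : s = t
  · simp [h]
  · rw [if_neg h, if_neg fun h' => h (τ.2.injective h').symm]

theorem cellB_zero {i : Fin n} {t : Fin d} (h : τ.1 t < i) : cellB K τ i t = 0 := by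
  rw [cellB, Matrix.of_apply, dif_neg (fun h' => absurd h'.1 h.not_gt), if_neg h.ne]

/-- the first column carries the factor `u` -/
def diagU (t : Fin d) : CellA K τ := if t.val = 0 then X none else 1

/-- the Plücker coordinates of `u` times the normal form -/
def Psi : PlRing K d n →ₐ[K] CellA K τ :=
  MvPolynomial.aeval fun θ : Idx d n =>
    ((cellB K τ * Matrix.diagonal (diagU K τ)).submatrix θ.1 id).det

theorem det_cellBu (hd : 0 < d) (a : Fin d → Fin n) :
    ((cellB K τ * Matrix.diagonal (diagU K τ)).submatrix a id).det =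
      X none * ((cellB K τ).submatrix a id).det := by
  classical
  have : (cellB K τ * Matrix.diagonal (diagU K τ)).submatrix a id =
      (cellB K τ).submatrix a id * Matrix.diagonal (diagU K τ) := by
    ext x y; simp [Matrix.mul_diagonal]
  rw [this, Matrix.det_mul, Matrix.det_diagonal, Finset.prod_eq_single (⟨0, hd⟩ : Fin d)]
  · rw [diagU, if_pos rfl, mul_comm]
  · intro b _ hb
    exact if_neg fun h => hb (Fin.ext h)
  · simp

theorem Psi_coord (hd : 0 < d) (a : Fin d → Fin n) :
    Psi K τ (coord K d n a) = X none * ((cellB K τ).submatrix a id).det := by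
  rw [Psi, Plucker.aeval_coord, det_cellBu K τ hd]

theorem Psi_X (hd : 0 < d) (θ : Idx d n) :
    Psi K τ (X θ) = X none * ((cellB K τ).submatrix θ.1 id).det := by
  rw [← Plucker.coord_idx, Psi_coord K τ hd]

theorem cellB_self : (cellB K τ).submatrix τ.1 id = 1 := by
  ext s t
  simp [cellB_row, Matrix.one_apply]

theorem Psi_X_self (hd : 0 < d) : Psi K τ (X τ) = X none := by
  rw [Psi_X K τ hd, cellB_self, Matrix.det_one, mul_one]

theorem plIdeal_le_ker_Psi (hd : 0 < d) : plIdeal K τ ≤ RingHom.ker (Psi K τ).toRingHom := by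
  rw [plIdeal, Ideal.span_le]
  rintro f (⟨i, j, r, -, rfl⟩ | ⟨φ, hφ, rfl⟩)
  · exact Shuffle.aeval_shuffleRel (cellB K τ * Matrix.diagonal (diagU K τ)) i j r
  · change Psi K τ (X φ) = 0
    rw [Psi_X K τ hd, Schubert.det_eq_zero_of_not_le _ (fun i t h => cellB_zero K τ h) hφ, mul_zero]

theorem ker_Psi (hd : 0 < d) :
    RingHom.ker (Psi K τ).toRingHom = schubertVanishing K d n τ := by
  classical
  refine le_antisymm ?_ ?_
  swap
  · rw [Schubert.schubertVanishing_eq_plIdeal K hd]; exact plIdeal_le_ker_Psi K τ hd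
  intro f hf
  rw [Basis.mem_schubertVanishing_iff K hd]
  let L := FractionRing (MatRing K d n)
  let ι : MatRing K d n →ₐ[K] L := IsScalarTower.toAlgHom K (MatRing K d n) L
  let E : Matrix (Fin n) (Fin d) L := (Schubert.genE K τ).map ι
  let E₀ : Matrix (Fin d) (Fin d) L := E.submatrix τ.1 id
  have hE : ∀ i t, τ.1 t < i → E i t = 0 := fun i t h => by
    simp [E, Schubert.genE, not_le.2 h]
  have hdet : E₀.det = ι (Schubert.phi K τ (X τ)) := by
    rw [Schubert.phi, MvPolynomial.aeval_X, AlgHom.map_det]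
    rfl
  have hdet0 : E₀.det ≠ 0 := by
    rw [hdet]
    intro h
    have h1 : Schubert.phi K τ (X τ) = 0 :=
      IsFractionRing.injective (MatRing K d n) L (by rw [map_zero]; exact h)
    exact Levels.X_notMem K hd τ ((Basis.mem_schubertVanishing_iff K hd _ _).2 h1)
  haveI : Invertible E₀ := E₀.invertibleOfIsUnitDet (isUnit_iff_ne_zero.2 hdet0)
  have htri : Matrix.BlockTriangular E₀⁻¹ (id : Fin d → Fin d) :=
    Matrix.blockTriangular_inv_of_blockTriangular fun s t h => hE _ _ (τ.2 h)
  let M : Matrix (Fin n) (Fin d) L := E * E₀⁻¹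
  have hM1 : ∀ s t, M (τ.1 s) t = if s = t then 1 else 0 := by
    intro s t
    have : (E₀ * E₀⁻¹) s t = M (τ.1 s) t := by simp [M, E₀, Matrix.mul_apply]
    rw [← this, Matrix.mul_nonsing_inv _ (isUnit_iff_ne_zero.2 hdet0), Matrix.one_apply]
  have hM0 : ∀ i t, τ.1 t < i → M i t = 0 := by
    intro i t h
    rw [show M i t = ∑ s, E i s * E₀⁻¹ s t from Matrix.mul_apply]
    refine Finset.sum_eq_zero fun s _ => ?_
    rcases le_or_gt s t with hst | hst
    · rw [hE i s (lt_of_le_of_lt (τ.2.monotone hst) h), zero_mul]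
    · rw [htri hst, mul_zero]
  let g : CellA K τ →ₐ[K] L := MvPolynomial.aeval fun o => o.elim E₀.det fun p => M p.1.1 p.1.2
  have hgB : (cellB K τ).map g = M := by
    ext i t
    rw [Matrix.map_apply, cellB, Matrix.of_apply]
    split
    · simp [g]
    · rename_i h
      by_cases hr : ∃ s, τ.1 s = i
      · obtain ⟨s, rfl⟩ := hr
        rw [hM1]
        by_cases hst : s = t
        · simp [hst]
        · rw [if_neg hst, if_neg fun h' => hst (τ.2.injective h').symm, map_zero]
      · push Not at hr
        have hlt : τ.1 t < i := lt_of_le_of_ne (not_lt.1 fun h' => h ⟨h', hr⟩) (hr t)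
        rw [if_neg (hr t), map_zero, hM0 i t hlt]
  have hcomp : g.comp (Psi K τ) = ι.comp (Schubert.phi K τ) := by
    refine MvPolynomial.algHom_ext fun θ => ?_
    rw [AlgHom.comp_apply, AlgHom.comp_apply, Psi_X K τ hd, map_mul, AlgHom.map_det,
      AlgHom.mapMatrix_apply, ← Matrix.submatrix_map, hgB]
    rw [show M.submatrix θ.1 id = E.submatrix θ.1 id * E₀⁻¹ from
      (Matrix.submatrix_mul E E₀⁻¹ θ.1 id id Function.bijective_id).trans (by simp),
      Matrix.det_mul, Matrix.det_nonsing_inv, Ring.inverse_eq_inv']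
    rw [show g (X none) = E₀.det by simp [g],
      show Schubert.phi K τ (X θ) = ((Schubert.genE K τ).submatrix θ.1 id).det from
        MvPolynomial.aeval_X _ _, AlgHom.map_det, AlgHom.mapMatrix_apply, ← Matrix.submatrix_map]
    change E₀.det * ((E.submatrix θ.1 id).det * E₀.det⁻¹) = (E.submatrix θ.1 id).det
    rw [mul_comm, mul_assoc, inv_mul_cancel₀ hdet0, mul_one]
  have h2 := congrArg (fun F : PlRing K d n →ₐ[K] L => F f) hcomp
  simp only [AlgHom.comp_apply] at h2
  rw [show Psi K τ f = 0 from hf, map_zero] at h2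
  exact IsFractionRing.injective (MatRing K d n) L (by rw [map_zero]; exact h2.symm)

theorem exists_Psi_eq (hd : 0 < d) (a : CellA K τ) :
    ∃ (k : ℕ) (f : PlRing K d n), Psi K τ f = X none ^ k * a := by
  classical
  induction a using MvPolynomial.induction_on with
  | C c => exact ⟨0, C c, by simp [Psi]⟩
  | add p q hp hq =>
    obtain ⟨k, f, hf⟩ := hp
    obtain ⟨l, g, hg⟩ := hq
    exact ⟨k + l, X τ ^ l * f + X τ ^ k * g, by
      simp only [map_add, map_mul, map_pow, Psi_X_self K τ hd, hf, hg, pow_add]; ring⟩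
  | mul_X p o hp =>
    obtain ⟨k, f, hf⟩ := hp
    cases o with
    | none => exact ⟨k, f * X τ, by rw [map_mul, Psi_X_self K τ hd, hf]; ring⟩
    | some x =>
      obtain ⟨⟨i, t⟩, hx⟩ := x
      refine ⟨k + 1, f * coord K d n (Function.update τ.1 t i), ?_⟩
      have hrow : (cellB K τ).submatrix (Function.update τ.1 t i) id =
          (1 : Matrix (Fin d) (Fin d) (CellA K τ)).updateRow t (cellB K τ i) := by
        rw [← cellB_self K τ]
        ext a b
        by_cases ha : a = t
        · subst ha; simp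
        · simp [Matrix.updateRow_ne ha, Function.update_of_ne ha]
      have hdet : ((cellB K τ).submatrix (Function.update τ.1 t i) id).det = X (some ⟨(i, t), hx⟩) := by
        rw [hrow, ← Matrix.cramer_transpose_apply, Matrix.transpose_one, Matrix.cramer_one]
        simp only [Module.End.one_apply]
        rw [cellB, Matrix.of_apply, dif_pos hx]
      rw [map_mul, Psi_coord K τ hd, hdet, hf, pow_succ]
      ring

variable (hd : 0 < d)

/-- `S/J(τ) → K[u, z]` -/
def iota : (PlRing K d n ⧸ schubertVanishing K d n τ) →+* CellA K τ :=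
  Ideal.Quotient.lift _ (Psi K τ).toRingHom fun f hf => by
    rw [← ker_Psi K τ hd] at hf; exact hf

theorem iota_mk (f : PlRing K d n) : iota K τ hd (Ideal.Quotient.mk _ f) = Psi K τ f := rfl

theorem iota_injective : Function.Injective (iota K τ hd) :=
  RingHom.lift_injective_of_ker_le_ideal _ _ (ker_Psi K τ hd).le

theorem exists_iota_eq (a : CellA K τ) : ∃ k r,
    iota K τ hd r = iota K τ hd (Ideal.Quotient.mk _ (X τ)) ^ k * a := by
  obtain ⟨k, f, hf⟩ := exists_Psi_eq K τ hd a
  exact ⟨k, Ideal.Quotient.mk _ f, by rw [iota_mk, iota_mk, Psi_X_self K τ hd, hf]⟩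

include hd in
theorem isDomain : IsDomain (PlRing K d n ⧸ schubertVanishing K d n τ) :=
  haveI := Schubert.schubertVanishing_isPrime K hd τ
  Ideal.Quotient.isDomain _

include hd in
theorem sup_span_eq_bot (h : ¬ ∃ φ : Idx d n, φ < τ) :
    schubertVanishing K d n τ ⊔ Ideal.span {X τ} =
      RingHom.ker (MvPolynomial.constantCoeff : PlRing K d n →+* K) := by
  classical
  apply le_antisymm
  · refine sup_le ?_ ((Ideal.span_singleton_le_iff_mem _).2 (by simp))
    intro f hf
    simp only [schubertVanishing, Ideal.mem_iInf] at hf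
    haveI : Nonempty (Fin d) := ⟨⟨0, hd⟩⟩
    have h0 : RingHom.ker (evalMinors K d n 0).toRingHom =
        RingHom.ker (MvPolynomial.constantCoeff : PlRing K d n →+* K) := by
      congr 1
      ext φ <;> simp [evalMinors, Matrix.det_zero]
    rw [← h0]
    exact hf 0 fun φ _ => by simp [Matrix.det_zero]
  · have key : ∀ f : PlRing K d n,
        f - C (constantCoeff f) ∈ schubertVanishing K d n τ ⊔ Ideal.span {X τ} := by
      intro f
      induction f using MvPolynomial.induction_on with
      | C c => simp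
      | add p q hp hq =>
        have := Ideal.add_mem _ hp hq
        convert this using 1
        simp only [map_add]; ring
      | mul_X p θ hp =>
        rw [map_mul, constantCoeff_X, mul_zero, map_zero, sub_zero]
        refine Ideal.mul_mem_left _ _ ?_
        by_cases hθ : θ = τ
        · subst hθ; exact Ideal.mem_sup_right (Ideal.mem_span_singleton_self _)
        · refine Ideal.mem_sup_left ?_
          rw [Basis.mem_schubertVanishing_iff K hd]
          exact Schubert.phi_X_eq_zero K fun hle => h ⟨θ, lt_of_le_of_ne hle hθ⟩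
    intro f hf
    have := key f
    rw [show constantCoeff f = 0 from hf, map_zero, sub_zero] at this
    exact this

include hd in
theorem isRadical_sup_span (hdn : d < n) :
    (schubertVanishing K d n τ ⊔ Ideal.span {X τ}).IsRadical := by
  by_cases h : ∃ φ : Idx d n, φ < τ
  · rw [Groth.Agent.S11254.result K d n hd hdn τ h]
    rintro f ⟨m, hm⟩
    refine Ideal.mem_iInf.2 fun φ => Ideal.mem_iInf.2 fun hφ => ?_
    exact (Schubert.schubertVanishing_isPrime K hd φ).mem_of_pow_mem m
      (Ideal.mem_iInf.1 (Ideal.mem_iInf.1 hm φ) hφ)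
  · rw [sup_span_eq_bot K τ hd h]
    exact (RingHom.ker_isPrime _).isRadical

include hd in
theorem isIntegrallyClosed (hdn : d < n) :
    IsIntegrallyClosed (PlRing K d n ⧸ schubertVanishing K d n τ) := by
  haveI := isDomain K τ hd
  refine isIntegrallyClosed_of_radical (iota K τ hd) (iota_injective K τ hd)
    (Ideal.Quotient.mk _ (X τ)) ?_ ?_ (exists_iota_eq K τ hd)
  · exact fun h => Levels.X_notMem K hd τ (Ideal.Quotient.eq_zero_iff_mem.1 h)
  · intro a m ha
    obtain ⟨f, rfl⟩ := Ideal.Quotient.mk_surjective a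
    rw [← map_pow, mem_span_mk_iff] at ha
    exact (mem_span_mk_iff _ _ _).2 (isRadical_sup_span K τ hd hdn ⟨m, ha⟩)

include hd in
theorem irreducible_X : Irreducible (Ideal.Quotient.mk (schubertVanishing K d n τ) (X τ)) := by
  have hX : Prime (X none : CellA K τ) := MvPolynomial.X_prime
  have hι : iota K τ hd (Ideal.Quotient.mk _ (X τ)) = X none := by
    rw [iota_mk, Psi_X_self K τ hd]
  refine ⟨fun h => hX.not_unit (hι ▸ h.map (iota K τ hd)), fun a b hab => ?_⟩
  have hun : ∀ x, IsUnit (iota K τ hd x) → IsUnit x := by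
    intro x hx
    obtain ⟨r, hr, hr'⟩ := MvPolynomial.isUnit_iff_eq_C_of_isReduced.1 hx
    have : x = Ideal.Quotient.mk _ (C r) := iota_injective K τ hd (by
      rw [hr', iota_mk]; simp [Psi])
    rw [this]
    exact (hr.map C).map _
  exact (hX.irreducible.isUnit_or_isUnit (show X none = _ by rw [← hι, hab, map_mul])).imp (hun a) (hun b)

include hd in
theorem ufd_of_prime_X (hp : Prime (Ideal.Quotient.mk (schubertVanishing K d n τ) (X τ))) :
    UniqueFactorizationMonoid (PlRing K d n ⧸ schubertVanishing K d n τ) := by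
  haveI := isDomain K τ hd
  let u : CellA K τ := X none
  have hu0 : u ≠ 0 := X_ne_zero none
  haveI : IsDomain (Localization.Away u) :=
    IsLocalization.isDomain_localization (powers_le_nonZeroDivisors_of_noZeroDivisors hu0)
  have hι : iota K τ hd (Ideal.Quotient.mk _ (X τ)) = u := by
    rw [iota_mk, Psi_X_self K τ hd]
  refine ufd_of_prime ((algebraMap (CellA K τ) (Localization.Away u)).comp (iota K τ hd))
    ((IsLocalization.injective (Localization.Away u)
      (powers_le_nonZeroDivisors_of_noZeroDivisors hu0)).comp (iota_injective K τ hd))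
    _ hp ?_ fun l => ?_
  · rw [RingHom.comp_apply, hι]
    exact IsLocalization.Away.algebraMap_isUnit u
  · obtain ⟨m, a, ha⟩ := IsLocalization.Away.surj u l
    obtain ⟨k, r, hr⟩ := exists_iota_eq K τ hd a
    refine ⟨k + m, r, ?_⟩
    rw [RingHom.comp_apply, RingHom.comp_apply, hr, hι, map_mul, map_pow, ← ha, pow_add]
    ring

include hd in
/-- divisors are at most one iff the reduced boundary is irreducible -/
theorem isPrime_sup_span_iff (hdn : d < n) :
    (schubertVanishing K d n τ ⊔ Ideal.span {X τ}).IsPrime ↔ (divisors τ).Subsingleton := by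
  classical
  by_cases h : ∃ φ : Idx d n, φ < τ
  swap
  · rw [sup_span_eq_bot K τ hd h]
    exact iff_of_true (RingHom.ker_isPrime _) fun φ hφ => absurd ⟨φ, hφ.1⟩ h
  rw [Groth.Agent.S11254.result K d n hd hdn τ h]
  constructor
  · intro hP φ hφ ψ hψ
    by_contra hne
    have hmem : ∀ a ∈ divisors τ, ∀ χ ∈ divisors τ, a ≠ χ →
        X a ∈ schubertVanishing K d n χ := by
      intro a ha χ hχ hne
      rw [Basis.mem_schubertVanishing_iff K hd]
      refine Schubert.phi_X_eq_zero K fun hle => hne ?_
      exact Straighten.eq_of_le_of_codeg hle (by have := ha.2; have := hχ.2; omega)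
    rcases hP.mem_or_mem (show X φ * X ψ ∈ _ from Ideal.mem_iInf.2 fun χ => Ideal.mem_iInf.2 fun hχ => by
        by_cases hc : φ = χ
        · exact Ideal.mul_mem_left _ _ (hmem ψ hψ χ hχ fun h' => hne (hc.trans h'.symm))
        · exact Ideal.mul_mem_right _ _ (hmem φ hφ χ hχ hc)) with h1 | h1
    · exact Levels.X_notMem K hd φ (Ideal.mem_iInf.1 (Ideal.mem_iInf.1 h1 φ) hφ)
    · exact Levels.X_notMem K hd ψ (Ideal.mem_iInf.1 (Ideal.mem_iInf.1 h1 ψ) hψ)
  · intro hsub
    obtain ⟨φ₀, hφ₀⟩ := h
    obtain ⟨φ, hφ, -⟩ := Groth.Agent.S11268.result d n φ₀ τ hφ₀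
    have : (⨅ ψ ∈ divisors τ, schubertVanishing K d n ψ) = schubertVanishing K d n φ :=
      le_antisymm (iInf₂_le φ hφ) (le_iInf₂ fun ψ hψ => by rw [hsub hψ hφ])
    rw [this]
    exact Schubert.schubertVanishing_isPrime K hd φ

end cell

end Groth.Agent.W4bk4.Cell
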