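import Groth.Agent.W4bk4.Basis

/-!
# Lower Schubert conditions and the row content of Plücker monomials
-/

set_option autoImplicit false

open W4bk4grassmannian MvPolynomial

noncomputable section

universe u v

namespace Groth.Agent.W4bk4.Richardson

variable {d n : ℕ} (K : Type u) [CommRing K]

/-- keep the entries weakly below the pivots of `β` -/
def lowP (β : Idx d n) (x : Fin n × Fin d) : Prop := β.1 x.2 ≤ x.1

instance (β : Idx d n) : DecidablePred (lowP β) := fun x =>
  inferInstanceAs (Decidable (β.1 x.2 ≤ x.1))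

theorem kill_phi_X_eq_zero {β θ : Idx d n} (τ : Idx d n) (h : ¬ β ≤ θ) :
    Basis.kill (lowP β) (Schubert.phi K τ (X θ)) = 0 := by
  classical
  obtain ⟨t₀, ht₀⟩ : ∃ t₀, θ.1 t₀ < β.1 t₀ := by
    by_contra hc
    push Not at hc
    exact h hc
  rw [Schubert.phi, aeval_X, AlgHom.map_det, Matrix.det_apply]
  refine Finset.sum_eq_zero fun π _ => ?_
  obtain ⟨t, ht, hπ⟩ : ∃ t, t₀ ≤ t ∧ π t ≤ t₀ := by
    by_contra hc
    push Not at hc
    have hsub : (Finset.Ici t₀).image π ⊆ Finset.Ioi t₀ := by
      intro x hx
      obtain ⟨t, ht, rfl⟩ := Finset.mem_image.1 hx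
      exact Finset.mem_Ioi.2 (hc t (Finset.mem_Ici.1 ht))
    have := Finset.card_le_card hsub
    rw [Finset.card_image_of_injective _ π.injective, Fin.card_Ici, Fin.card_Ioi] at this
    omega
  rw [Finset.prod_eq_zero (Finset.mem_univ t), smul_zero]
  have hlt : θ.1 (π t) < β.1 t :=
    lt_of_le_of_lt (θ.2.monotone hπ) (lt_of_lt_of_le ht₀ (β.2.monotone ht))
  simp only [AlgHom.mapMatrix_apply, Matrix.map_apply, Matrix.submatrix_apply, id_eq,
    Schubert.genE, Matrix.of_apply]
  split
  · simp only [Basis.kill, aeval_X]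
    rw [if_neg]
    exact not_le.2 hlt
  · exact map_zero _

theorem dg_lowP {β : Idx d n} {c : Basis.Chain d n} (h : ∀ k, β ≤ c.2.1 k) :
    ∀ x ∈ (Basis.dg c).support, lowP β x := by
  rintro ⟨i, t⟩ hx
  rw [Finsupp.mem_support_iff, Basis.dg, Schubert.chainDiag_apply] at hx
  obtain ⟨k, hk⟩ := Finset.card_pos.1 (Nat.pos_of_ne_zero hx)
  rw [Finset.mem_filter] at hk
  rw [lowP, ← hk.2]
  exact h k t

theorem kill_mon_eq_zero {β τ : Idx d n} {c : Basis.Chain d n} (h : ¬ ∀ k, β ≤ c.2.1 k) :
    Basis.kill (lowP β) (Schubert.phi K τ (Basis.mon K c)) = 0 := by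
  obtain ⟨k, hk⟩ := not_forall.1 h
  rw [Basis.mon, chainMon, map_prod, map_prod]
  exact Finset.prod_eq_zero (Finset.mem_univ k) (kill_phi_X_eq_zero K τ hk)

/-- row content -/
def rowWt (x : Fin n × Fin d) : Fin n →₀ ℕ := Finsupp.single x.1 1

/-- content of an index -/
def content (θ : Idx d n) : Fin n →₀ ℕ := ∑ s, Finsupp.single (θ.1 s) 1

theorem isWeightedHomogeneous_phi_X (τ θ : Idx d n) :
    IsWeightedHomogeneous (rowWt (d := d) (n := n)) (Schubert.phi K τ (X θ)) (content θ) := by
  classical
  rw [Schubert.phi, aeval_X, Matrix.det_apply]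
  refine IsWeightedHomogeneous.sum _ _ _ fun π _ => ?_
  have h : IsWeightedHomogeneous (rowWt (d := d) (n := n))
      (∏ t, ((Schubert.genE K τ).submatrix θ.1 id) (π t) t) (∑ t, Finsupp.single (θ.1 (π t)) 1) := by
    refine IsWeightedHomogeneous.prod _ _ _ fun t _ => ?_
    simp only [Matrix.submatrix_apply, id_eq, Schubert.genE, Matrix.of_apply]
    split
    · exact isWeightedHomogeneous_X K rowWt _
    · exact isWeightedHomogeneous_zero K _ _
  rw [Equiv.sum_comp π (fun s => Finsupp.single (θ.1 s) 1)] at h
  rw [Units.smul_def, zsmul_eq_mul]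
  have h1 : IsWeightedHomogeneous (rowWt (d := d) (n := n))
      (((Equiv.Perm.sign π : ℤ) : MatRing K d n)) 0 := by
    rw [← map_intCast (C : K →+* MatRing K d n)]
    exact isWeightedHomogeneous_C _ _
  simpa [content] using h1.mul h

theorem isWeightedHomogeneous_phi_mon (τ : Idx d n) (c : Basis.Chain d n) :
    IsWeightedHomogeneous (rowWt (d := d) (n := n)) (Schubert.phi K τ (Basis.mon K c))
      (∑ k, content (c.2.1 k)) := by
  rw [Basis.mon, chainMon, map_prod]
  exact IsWeightedHomogeneous.prod _ _ _ fun k _ => isWeightedHomogeneous_phi_X K τ _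

theorem content_injective {θ θ' : Idx d n} (h : content θ = content θ') : θ = θ' := by
  classical
  have hmem : ∀ (θ : Idx d n) (i : Fin n), i ∈ Set.range θ.1 ↔ content θ i ≠ 0 := by
    intro θ i
    simp only [content, Finsupp.coe_finset_sum, Finset.sum_apply, Finsupp.single_apply, ne_eq,
      Finset.sum_eq_zero_iff, Finset.mem_univ, true_implies, not_forall, Set.mem_range]
    simp
  refine Subtype.ext ((θ.2.range_inj θ'.2).1 (Set.ext fun i => ?_))
  rw [hmem, hmem, h]

theorem content_sup_add_inf (τ φ : Idx d n) :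
    content (W4bk4grassmannian.sup τ φ) + content (W4bk4grassmannian.inf τ φ) =
      content τ + content φ := by
  simp only [content, ← Finset.sum_add_distrib]
  refine Finset.sum_congr rfl fun t _ => ?_
  change Finsupp.single (max _ _) 1 + Finsupp.single (min _ _) 1 = _
  rcases le_total (τ.1 t) (φ.1 t) with h | h
  · rw [max_eq_right h, min_eq_left h, add_comm]
  · rw [max_eq_left h, min_eq_right h]

theorem diag_sup_add_inf (τ φ : Idx d n) :
    Schubert.diag (W4bk4grassmannian.sup τ φ) + Schubert.diag (W4bk4grassmannian.inf τ φ) =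
      Schubert.diag τ + Schubert.diag φ := by
  simp only [Schubert.diag, ← Finset.sum_add_distrib]
  refine Finset.sum_congr rfl fun t _ => ?_
  change Finsupp.single (max _ _, t) 1 + Finsupp.single (min _ _, t) 1 = _
  rcases le_total (τ.1 t) (φ.1 t) with h | h
  · rw [max_eq_right h, min_eq_left h, add_comm]
  · rw [max_eq_left h, min_eq_right h]

/-- the two-element chain `a ≥ b` -/
def pair (a b : Idx d n) (h : b ≤ a) : Basis.Chain d n :=
  ⟨2, ![a, b], fun x y hxy => by
    fin_cases x <;> fin_cases y <;> first | exact le_rfl | exact h | (exfalso; simp at hxy)⟩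

theorem mon_pair (a b : Idx d n) (h : b ≤ a) :
    Basis.mon K (pair a b h) = X a * X b := by
  change ∏ x : Fin 2, (X (![a, b] x) : PlRing K d n) = _
  rw [Fin.prod_univ_two]
  rfl

theorem pair_eta (c : Fin 2 → Idx d n) (hc : Antitone c) :
    (⟨2, c, hc⟩ : Basis.Chain d n) = pair (c 0) (c 1) (hc (by simp)) := by
  unfold pair
  congr
  funext k
  fin_cases k <;> rfl

/-- the quadratic straightening relation, with its coefficient pattern -/
theorem straightening_pattern {K : Type u} [Field K] [Infinite K] (hd : 0 < d) (hdn : d < n)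
    (τ φ : Idx d n) :
    ∃ l : Basis.Chain d n →₀ K,
      (X τ * X φ : PlRing K d n) - Finsupp.linearCombination K (Basis.mon K) l ∈ vanishing K d n ∧
      l (pair (W4bk4grassmannian.sup τ φ) (W4bk4grassmannian.inf τ φ)
        (fun t => min_le_max (a := τ.1 t) (b := φ.1 t))) = 1 ∧
      ∀ c ∈ l.support, ∃ α β : Idx d n, ∃ h : β ≤ α, c = pair α β h ∧
        (c = pair (W4bk4grassmannian.sup τ φ) (W4bk4grassmannian.inf τ φ)
            (fun t => min_le_max (a := τ.1 t) (b := φ.1 t)) ∨
          (W4bk4grassmannian.sup τ φ < α ∧ β < W4bk4grassmannian.inf τ φ)) := by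
  classical
  set top := Schubert.topIdx (d := d) hdn.le with htop
  have hbl : ∀ c : Basis.Chain d n, Basis.Below' top c := fun c k => Schubert.le_topIdx _ _
  have hhom : (X τ * X φ : PlRing K d n).IsHomogeneous 2 :=
    (isHomogeneous_X K τ).mul (isHomogeneous_X K φ)
  obtain ⟨g, hg, s, hs, hgs⟩ := Submodule.mem_sup.1 (Straighten.homogeneous_mem K _ hhom)
  have hs' : s ∈ Submodule.span K (Basis.mon K '' {c : Basis.Chain d n | c.1 = 2}) := by
    refine (Submodule.span_mono ?_) hs
    rintro f ⟨c, hc, rfl⟩
    exact ⟨⟨2, c, hc⟩, rfl, rfl⟩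
  obtain ⟨l, hl, rfl⟩ := Finsupp.mem_span_image_iff_linearCombination K |>.1 hs'
  have h2 : ∀ c ∈ l.support, c.1 = 2 := fun c hc => hl hc
  -- all chains in the support have the right content
  have hcont : ∀ c, l c ≠ 0 → ∑ k, content (c.2.1 k) = content τ + content φ := by
    intro c hc
    by_contra hne
    let C₀ := content τ + content φ
    let l' : Basis.Chain d n →₀ K := l.filter fun x => ∑ k, content (x.2.1 k) ≠ C₀
    let l'' : Basis.Chain d n →₀ K := l.filter fun x => ¬ ∑ k, content (x.2.1 k) ≠ C₀
    have hsplit : l = l' + l'' := (Finsupp.filter_pos_add_filter_neg l _).symm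
    have h0 : Schubert.phi K top (Finsupp.linearCombination K (Basis.mon K) l') = 0 := by
      have hhom' : IsWeightedHomogeneous (rowWt (d := d) (n := n))
          (Schubert.phi K top (Finsupp.linearCombination K (Basis.mon K) l')) C₀ := by
        have e : Schubert.phi K top (Finsupp.linearCombination K (Basis.mon K) l') =
            Schubert.phi K top (X τ) * Schubert.phi K top (X φ) -
              Schubert.phi K top (Finsupp.linearCombination K (Basis.mon K) l'') := by
          rw [← map_mul, ← hgs, map_add, Basis.phi_plIdealTop K hg, zero_add, hsplit, map_add,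
            map_add, add_sub_cancel_right]
        rw [e]
        refine Submodule.sub_mem (weightedHomogeneousSubmodule K rowWt C₀)
          ((isWeightedHomogeneous_phi_X K top τ).mul (isWeightedHomogeneous_phi_X K top φ)) ?_
        rw [Finsupp.linearCombination_apply, Finsupp.sum, map_sum]
        refine Submodule.sum_mem _ fun x hx => ?_
        rw [map_smul]
        refine Submodule.smul_mem _ _ ?_
        rw [Finsupp.support_filter, Finset.mem_filter, not_not] at hx
        rw [mem_weightedHomogeneousSubmodule, ← hx.2]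
        exact isWeightedHomogeneous_phi_mon K top x
      have hcomp := hhom'.weightedHomogeneousComponent_same
      rw [← hcomp, Finsupp.linearCombination_apply, Finsupp.sum, map_sum, map_sum]
      refine Finset.sum_eq_zero fun x hx => ?_
      rw [map_smul, map_smul]
      rw [Finsupp.support_filter, Finset.mem_filter] at hx
      rw [(isWeightedHomogeneous_phi_mon K top x).weightedHomogeneousComponent_ne C₀ hx.2.symm,
        smul_zero]
    have := Basis.phi_coeff_eq_zero K hd top l' h0 (hbl c)
    simp only [l'] at this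
    rw [Finsupp.filter_apply_pos (fun x : Basis.Chain d n => ∑ k, content (x.2.1 k) ≠ C₀) l hne] at this
    exact hc this
  -- bounds on the members of the support
  have hbound : ∀ (c : Fin 2 → Idx d n) (hc : Antitone c), l ⟨2, c, hc⟩ ≠ 0 →
      W4bk4grassmannian.sup τ φ ≤ c 0 ∧ c 1 ≤ W4bk4grassmannian.inf τ φ := by
    intro c hc hne
    constructor
    · have hnot : ¬ Schubert.phi K (c 0) (X τ * X φ) = 0 := by
        intro h
        refine hne (Basis.phi_coeff_eq_zero K hd (c 0) l ?_ (fun k => hc (Fin.zero_le k)))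
        rw [← hgs, map_add, Basis.phi_plIdealTop K hg, zero_add] at h
        exact h
      rw [map_mul] at hnot
      intro t
      refine max_le ?_ ?_
      · exact (show τ ≤ c 0 from by_contra fun h => hnot (by rw [Schubert.phi_X_eq_zero K h, zero_mul])) t
      · exact (show φ ≤ c 0 from by_contra fun h => hnot (by rw [Schubert.phi_X_eq_zero K h, mul_zero])) t
    · let β := c 1
      have hlow : ∀ k, β ≤ c k := fun k => hc (by fin_cases k <;> simp)
      have hnot : ¬ Basis.kill (lowP β) (Schubert.phi K top (X τ * X φ)) = 0 := by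
        intro h
        refine hne (Basis.coeff_eq_zero K hd (lowP β) top {x | ∀ k, β ≤ x.2.1 k}
          (fun x hx => ⟨hbl x, dg_lowP hx⟩) l (fun x hx => Or.inr (kill_mon_eq_zero K hx)) ?_ hlow)
        rw [← hgs, map_add, Basis.phi_plIdealTop K hg, zero_add] at h
        exact h
      rw [map_mul, map_mul] at hnot
      intro t
      refine le_min ?_ ?_
      · exact (show c 1 ≤ τ from by_contra fun h => hnot (by rw [kill_phi_X_eq_zero K top h, zero_mul])) t
      · exact (show c 1 ≤ φ from by_contra fun h => hnot (by rw [kill_phi_X_eq_zero K top h, mul_zero])) t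
  set S := W4bk4grassmannian.sup τ φ with hS
  set I := W4bk4grassmannian.inf τ φ with hI
  have hIS : I ≤ S := fun t => min_le_max (a := τ.1 t) (b := φ.1 t)
  have hclass : ∀ c ∈ l.support, ∃ α β : Idx d n, ∃ h : β ≤ α, c = pair α β h ∧
      (c = pair S I hIS ∨ (S < α ∧ β < I)) := by
    rintro ⟨m, c, hc⟩ hx
    obtain rfl : m = 2 := h2 _ hx
    have hne := Finsupp.mem_support_iff.1 hx
    obtain ⟨hS', hI'⟩ := hbound c hc hne
    have hC : content (c 0) + content (c 1) = content τ + content φ := by
      have := hcont _ hne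
      simpa [Fin.sum_univ_two] using this
    rw [← content_sup_add_inf τ φ] at hC
    refine ⟨c 0, c 1, hc (by simp), pair_eta c hc, ?_⟩
    by_cases h0 : c 0 = S
    · left
      rw [h0] at hC
      have h1 : c 1 = I := content_injective (add_left_cancel hC)
      rw [pair_eta c hc]
      simp [pair, h0, h1]
    · right
      refine ⟨lt_of_le_of_ne hS' (Ne.symm h0), lt_of_le_of_ne hI' fun h1 => h0 ?_⟩
      rw [h1] at hC
      exact content_injective (add_right_cancel hC)
  refine ⟨l, ?_, ?_, hclass⟩
  · rw [Schubert.vanishing_eq_schubert K hdn.le]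
    refine Basis.plIdealTop_le K hd _ ?_
    rw [← hgs, add_sub_cancel_right]
    exact hg
  · have hSτ : τ ≤ S := fun t => le_max_left _ _
    have hSφ : φ ≤ S := fun t => le_max_right _ _
    have hlead : (Schubert.phi K S (X τ * X φ)).coeff (Schubert.diag τ + Schubert.diag φ) = 1 := by
      rw [map_mul]
      exact ((Schubert.isLead_phi_X K hSτ).mul (Schubert.isLead_phi_X K hSφ)).1
    rw [← hgs, map_add, Basis.phi_plIdealTop K hg, zero_add, Finsupp.linearCombination_apply,
      Finsupp.sum, map_sum, coeff_sum, Finset.sum_eq_single (pair S I hIS)] at hlead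
    · rw [map_smul, coeff_smul, mon_pair, map_mul, ← diag_sup_add_inf,
        ((Schubert.isLead_phi_X K le_rfl).mul (Schubert.isLead_phi_X K hIS)).1] at hlead
      simpa using hlead
    · intro c hc hne
      obtain ⟨α, β, h, rfl, hor⟩ := hclass c hc
      rcases hor with h' | ⟨h', -⟩
      · exact absurd h' hne
      rw [map_smul, mon_pair, map_mul, Schubert.phi_X_eq_zero K (not_le_of_gt h'), zero_mul,
        smul_zero, coeff_zero]
    · intro h
      rw [Finsupp.notMem_support_iff.1 h]
      simp

end Groth.Agent.W4bk4.Richardson
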