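import Groth.Agent.W4bk4.Basis

/-!
# The bottom Plücker coordinate
-/

set_option autoImplicit false

open W4bk4grassmannian MvPolynomial

noncomputable section

universe u

namespace Groth.Agent.W4bk4.Bottom

variable {d n : ℕ}

/-- the index `(0, …, d-1)` -/
def botIdx (hdn : d ≤ n) : Idx d n :=
  ⟨fun t => ⟨t.val, lt_of_lt_of_le t.isLt hdn⟩, fun _ _ h => h⟩

theorem botIdx_le (hdn : d ≤ n) (θ : Idx d n) : botIdx hdn ≤ θ := fun t =>
  Fin.le_def.2 (Shuffle.val_le_apply θ.1 θ.2 t)

/-- the last column avoids the first `d` rows -/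
def lastP (x : Fin n × Fin d) : Prop := x.2.val + 1 = d → d ≤ x.1.val

instance : DecidablePred (lastP (d := d) (n := n)) := fun x =>
  inferInstanceAs (Decidable (x.2.val + 1 = d → d ≤ x.1.val))

theorem eq_bot_of_last {hdn : d ≤ n} {θ : Idx d n} (t₀ : Fin d) (ht₀ : t₀.val + 1 = d)
    (h : (θ.1 t₀).val < d) : θ = botIdx hdn := by
  refine Subtype.ext (funext fun t => Fin.ext ?_)
  have h1 := Shuffle.val_le_apply θ.1 θ.2 t
  suffices hs : ∀ j : ℕ, ∀ t : Fin d, t.val + j + 1 = d → (θ.1 t).val ≤ t.val by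
    have := hs (d - t.val - 1) t (by have := t.isLt; omega)
    change (θ.1 t).val = t.val
    omega
  intro j
  induction j with
  | zero =>
    intro t ht
    obtain rfl : t = t₀ := Fin.ext (by omega)
    omega
  | succ j ih =>
    intro t ht
    have h2 : (θ.1 t).val < (θ.1 ⟨t.val + 1, by omega⟩).val :=
      θ.2 (Fin.lt_def.2 (Nat.lt_succ_self _))
    have := ih ⟨t.val + 1, by omega⟩ (by simp; omega)
    simp only at this
    omega

variable (K : Type u) [CommRing K]

theorem kill_phi_bot (hd : 0 < d) (hdn : d ≤ n) (w : Idx d n) :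
    Basis.kill lastP (Schubert.phi K w (X (botIdx hdn))) = 0 := by
  classical
  rw [Schubert.phi, aeval_X, AlgHom.map_det]
  refine Matrix.det_eq_zero_of_column_eq_zero (⟨d - 1, by omega⟩ : Fin d) fun s => ?_
  simp only [AlgHom.mapMatrix_apply, Matrix.map_apply, Matrix.submatrix_apply, id_eq,
    Schubert.genE, Matrix.of_apply]
  split
  · simp only [Basis.kill, aeval_X]
    rw [if_neg]
    intro hp
    have := hp (by simp; omega)
    simp [botIdx] at this
    omega
  · exact map_zero _

theorem lastP_dg {hdn : d ≤ n} {c : Basis.Chain d n} (hc : ∀ k, c.2.1 k ≠ botIdx hdn) :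
    ∀ x ∈ (Basis.dg c).support, lastP x := by
  rintro ⟨i, t⟩ hx ht
  simp only at ht ⊢
  rw [Finsupp.mem_support_iff, Basis.dg, Schubert.chainDiag_apply] at hx
  obtain ⟨k, hk⟩ := Finset.card_pos.1 (Nat.pos_of_ne_zero hx)
  rw [Finset.mem_filter] at hk
  rw [← hk.2]
  by_contra hlt
  exact hc k (eq_bot_of_last t ht (Nat.lt_of_not_le hlt))

theorem mem_plIdeal_sup_of_kill (hd : 0 < d) (hdn : d ≤ n) (w : Idx d n) (f : PlRing K d n)
    (h : Basis.kill lastP (Schubert.phi K w f) = 0) :
    f ∈ plIdeal K w ⊔ Ideal.span {X (botIdx hdn)} := by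
  classical
  obtain ⟨l, g, hg, hfg⟩ := Basis.exists_repr K f
  rw [hfg, map_add, Basis.phi_plIdealTop K hg, zero_add] at h
  rw [hfg]
  refine add_mem (Ideal.mem_sup_left
    ((Ideal.span_mono Set.subset_union_left : plIdealTop K ≤ plIdeal K w) hg)) ?_
  rw [Finsupp.linearCombination_apply]
  refine sum_mem fun c hc => ?_
  simp only [smul_eq_C_mul]
  refine Ideal.mul_mem_left _ _ ?_
  by_cases h1 : Basis.Below' w c
  swap
  · exact Ideal.mem_sup_left (Basis.mem_plIdeal_of_not_below K h1)
  by_cases h2 : ∃ k, c.2.1 k = botIdx hdn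
  · obtain ⟨k, hk⟩ := h2
    refine Ideal.mem_sup_right (Ideal.mem_span_singleton.2 ?_)
    rw [Basis.mon, chainMon, ← hk]
    exact Finset.dvd_prod_of_mem _ (Finset.mem_univ k)
  exfalso
  apply Finsupp.mem_support_iff.1 hc
  refine Basis.coeff_eq_zero K hd lastP w
    {c | Basis.Below' w c ∧ ∀ k, c.2.1 k ≠ botIdx hdn}
    (fun x hx => ⟨hx.1, lastP_dg hx.2⟩) l (fun x hx => Or.inr ?_) h ⟨h1, not_exists.1 h2⟩
  by_cases hb : Basis.Below' w x
  · obtain ⟨k, hk⟩ : ∃ k, x.2.1 k = botIdx hdn := by
      by_contra hne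
      exact hx ⟨hb, not_exists.1 hne⟩
    rw [Basis.mon, chainMon, map_prod, map_prod]
    exact Finset.prod_eq_zero (Finset.mem_univ k) (by rw [hk]; exact kill_phi_bot K hd hdn w)
  · rw [Basis.phi_eq_zero K hb, map_zero]

/-- the entries kept by `phi` at the top index -/
def topP (hdn : d ≤ n) (x : Fin n × Fin d) : Prop := x.1 ≤ (Schubert.topIdx hdn).1 x.2

instance (hdn : d ≤ n) : DecidablePred (topP (d := d) hdn) := fun x =>
  inferInstanceAs (Decidable (x.1 ≤ (Schubert.topIdx hdn).1 x.2))

theorem kill_pluckerMap (hdn : d ≤ n) (g : PlRing K d n) :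
    Basis.kill (topP hdn) (pluckerMap K d n g) = Schubert.phi K (Schubert.topIdx hdn) g := by
  classical
  rw [← AlgHom.comp_apply]
  congr 1
  refine MvPolynomial.algHom_ext fun θ => ?_
  simp only [AlgHom.comp_apply, pluckerMap, Schubert.phi, aeval_X, minor]
  rw [AlgHom.map_det]
  congr 1
  ext s t
  simp only [AlgHom.mapMatrix_apply, Matrix.map_apply, Matrix.of_apply, Basis.kill, aeval_X,
    Schubert.genE, Matrix.submatrix_apply, id_eq]
  rfl

theorem eval_minor (v : Fin n × Fin d → K) (a : Fin d → Fin n) :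
    MvPolynomial.eval v (minor K d n a) =
      ((Matrix.of fun i t => v (i, t)).submatrix a id).det := by
  rw [minor, RingHom.map_det]
  congr 1
  ext s t
  simp

theorem eval_pluckerMap (v : Fin n × Fin d → K) (f : PlRing K d n) :
    MvPolynomial.eval v (pluckerMap K d n f) = evalMinors K d n (Matrix.of fun i t => v (i, t)) f := by
  rw [pluckerMap, map_aeval]
  exact eval₂Hom_congr (RingHom.ext fun a => by simp) (funext fun θ => eval_minor K v θ.1) rfl

theorem ker_pluckerMap {K : Type u} [Field K] [Infinite K] (f : PlRing K d n) :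
    pluckerMap K d n f = 0 ↔ f ∈ vanishing K d n := by
  simp only [vanishing, Ideal.mem_iInf, RingHom.mem_ker, AlgHom.toRingHom_eq_coe, RingHom.coe_coe]
  constructor
  · intro h A
    have h2 := eval_pluckerMap K (fun p => A p.1 p.2) f
    rw [h, map_zero] at h2
    exact h2.symm
  · intro h
    refine MvPolynomial.funext fun v => ?_
    rw [eval_pluckerMap, h, map_zero]

/-- if `p_bot ∣` a Plücker polynomial then the cofactor is a Plücker polynomial -/
theorem exists_div_bot {K : Type u} [Field K] [Infinite K] (hd : 0 < d) (hdn : d ≤ n)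
    (g : PlRing K d n) (h : MatRing K d n)
    (hg : pluckerMap K d n g = minor K d n (botIdx hdn).1 * h) :
    ∃ g', pluckerMap K d n g' = h := by
  have hb : pluckerMap K d n (X (botIdx hdn)) = minor K d n (botIdx hdn).1 := by simp [pluckerMap]
  have hkill : Basis.kill lastP (Schubert.phi K (Schubert.topIdx hdn) g) = 0 := by
    rw [← kill_pluckerMap, hg, ← hb, map_mul, map_mul, kill_pluckerMap, kill_phi_bot K hd hdn,
      zero_mul]
  obtain ⟨a, ha, b, hb', rfl⟩ := Submodule.mem_sup.1 (mem_plIdeal_sup_of_kill K hd hdn _ g hkill)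
  obtain ⟨g', rfl⟩ := Ideal.mem_span_singleton'.1 hb'
  refine ⟨g', ?_⟩
  have ha0 : pluckerMap K d n a = 0 := by
    rw [ker_pluckerMap, Schubert.vanishing_eq_schubert K hdn,
      Schubert.schubertVanishing_eq_plIdeal K hd]
    exact ha
  have hne : minor K d n (botIdx hdn).1 ≠ 0 := by
    intro h0
    have := congrArg (MvPolynomial.eval fun p : Fin n × Fin d => if p.1.val = p.2.val then (1 : K) else 0) h0
    rw [eval_minor, map_zero] at this
    have h1 : (Matrix.of fun (i : Fin n) (t : Fin d) => if i.val = t.val then (1 : K) else 0).submatrix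
        (botIdx hdn).1 id = 1 := by
      ext s t
      simp [botIdx, Matrix.one_apply, Fin.ext_iff]
    rw [h1, Matrix.det_one] at this
    exact one_ne_zero this
  rw [map_add, ha0, zero_add, map_mul, hb, mul_comm] at hg
  exact mul_left_cancel₀ hne hg

end Groth.Agent.W4bk4.Bottom
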