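import Groth.Agent.W4bk4.Det
import Mathlib.LinearAlgebra.LinearIndependent.Lemmas

/-!
# Bitableaux as standard monomials on the opposite cell
-/

set_option autoImplicit false

open W4bk4grassmannian MvPolynomial Matrix Groth.Agent.W4bk4.Det

noncomputable section

universe u

namespace Groth.Agent.W4bk4.Tableau


variable {m n : ℕ}

/-- the row tuple of a minor inside `[I_n ; Z]` -/
def row (M : MinorIdx m n) : Fin n → Fin (n + m) := cellRow (Fin.rev ∘ M.2.1.1) M.2.2.1

theorem row_injective (M : MinorIdx m n) : Function.Injective (row M) :=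
  cellRow_injective _ _ (Fin.rev_injective.comp M.2.1.2.injective) M.2.2.2.injective

/-- the Plücker index of a minor -/
def idx (M : MinorIdx m n) : Idx n (n + m) :=
  (Plucker.exists_idx_perm (row M) (row_injective M)).choose

theorem idx_spec (M : MinorIdx m n) : ∃ σ : Equiv.Perm (Fin n), row M = (idx M).1 ∘ σ :=
  (Plucker.exists_idx_perm (row M) (row_injective M)).choose_spec

theorem cnt_idx (M : MinorIdx m n) (z : ℕ) :
    cnt (idx M).1 z = (Finset.univ.filter fun i => (row M i).val < z).card := by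
  obtain ⟨σ, hσ⟩ := idx_spec M
  refine Finset.card_equiv σ.symm fun i => ?_
  simp [hσ]

theorem cnt_low' {s : ℕ} (A : Idx (s + 1) m) (B : Idx (s + 1) n) {z : ℕ} (hz : z ≤ n) :
    (Finset.univ.filter fun i => (cellRow (Fin.rev ∘ A.1) B.1 i : Fin (n + m)).val < z).card +
      cnt B.1 z = z := by
  classical
  have h1 : (Finset.univ.filter fun i => (cellRow (Fin.rev ∘ A.1) B.1 i : Fin (n + m)).val < z) =
      (Finset.univ.filter fun i : Fin n => i.val < z) \
        (Finset.univ.filter fun j => (B.1 j).val < z).image B.1 := by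
    ext i
    simp only [Finset.mem_filter, Finset.mem_univ, true_and, Finset.mem_sdiff, Finset.mem_image]
    by_cases hi : ∃ j, B.1 j = i
    · obtain ⟨j, rfl⟩ := hi
      rw [cellRow_apply _ _ B.2.injective]
      simp only [Fin.val_natAdd]
      constructor
      · intro h; omega
      · rintro ⟨h, h'⟩; exact absurd ⟨j, h, rfl⟩ h'
    · rw [cellRow_not _ _ hi]
      simp only [Fin.val_castAdd]
      exact ⟨fun h => ⟨h, fun ⟨j, _, hj⟩ => hi ⟨j, hj⟩⟩, And.left⟩
  have hsub : (Finset.univ.filter fun j => (B.1 j).val < z).image B.1 ⊆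
      Finset.univ.filter fun i : Fin n => i.val < z := by
    intro i hi
    obtain ⟨j, hj, rfl⟩ := Finset.mem_image.1 hi
    simpa using hj
  rw [h1, cnt]
  have h2 := Finset.card_sdiff_add_card_eq_card hsub
  rw [Finset.card_image_of_injective _ B.2.injective, Fin.card_filter_val_lt, Nat.min_eq_right hz] at h2
  exact h2

theorem cnt_high' {s : ℕ} (A : Idx (s + 1) m) (B : Idx (s + 1) n) (y : ℕ) :
    (Finset.univ.filter fun i => (cellRow (Fin.rev ∘ A.1) B.1 i : Fin (n + m)).val < n + y).card +
      cnt A.1 (m - y) = n := by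
  classical
  have h1 : (Finset.univ.filter fun i => ¬ (cellRow (Fin.rev ∘ A.1) B.1 i : Fin (n + m)).val < n + y) =
      (Finset.univ.filter fun j => (A.1 j).val < m - y).image B.1 := by
    ext i
    simp only [Finset.mem_filter, Finset.mem_univ, true_and, Finset.mem_image]
    by_cases hi : ∃ j, B.1 j = i
    · obtain ⟨j, rfl⟩ := hi
      rw [cellRow_apply _ _ B.2.injective]
      simp only [Fin.val_natAdd, Function.comp_apply, Fin.val_rev]
      constructor
      · intro h; exact ⟨j, by have := (A.1 j).isLt; omega, rfl⟩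
      · rintro ⟨j', h, hj⟩
        obtain rfl := B.2.injective hj
        have := (A.1 j').isLt
        omega
    · rw [cellRow_not _ _ hi]
      simp only [Fin.val_castAdd]
      constructor
      · intro h; have := i.isLt; omega
      · rintro ⟨j, -, hj⟩; exact absurd ⟨j, hj⟩ hi
  have h2 := Finset.card_filter_add_card_filter_not (s := (Finset.univ : Finset (Fin n)))
    (fun i => (cellRow (Fin.rev ∘ A.1) B.1 i : Fin (n + m)).val < n + y)
  rw [h1, Finset.card_image_of_injective _ B.2.injective, Finset.card_univ, Fintype.card_fin] at h2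
  exact h2

theorem cnt_low (M : MinorIdx m n) {z : ℕ} (hz : z ≤ n) :
    cnt (idx M).1 z + cnt M.2.2.1 z = z := by
  rw [cnt_idx]; exact cnt_low' M.2.1 M.2.2 hz

theorem cnt_high (M : MinorIdx m n) (y : ℕ) :
    cnt (idx M).1 (n + y) + cnt M.2.1.1 (m - y) = n := by
  rw [cnt_idx]; exact cnt_high' M.2.1 M.2.2 y

theorem minorGE_iff (M M' : MinorIdx m n) : MinorGE M M' ↔ idx M ≤ idx M' := by
  have hA := dominates_iff M.2.1.1 M'.2.1.1 M.2.1.2 M'.2.1.2
  have hB := dominates_iff M.2.2.1 M'.2.2.1 M.2.2.2 M'.2.2.2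
  rw [idx_le_iff]
  constructor
  · rintro ⟨hs, h⟩ z
    have hA' := hA.1 ⟨Nat.succ_le_succ hs, fun j j' hj => (h j j' hj).1⟩
    have hB' := hB.1 ⟨Nat.succ_le_succ hs, fun j j' hj => (h j j' hj).2⟩
    rcases le_or_gt z n with hz | hz
    · have := hB' z; have := cnt_low M hz; have := cnt_low M' hz; omega
    · obtain ⟨y, rfl⟩ : ∃ y, z = n + y := ⟨z - n, by omega⟩
      have := hA' (m - y); have := cnt_high M y; have := cnt_high M' y; omega
  · intro h
    have hA' : ∀ z, cnt M.2.1.1 z ≤ cnt M'.2.1.1 z := by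
      have key : ∀ z, z ≤ m → cnt M.2.1.1 z ≤ cnt M'.2.1.1 z := by
        intro z hz
        have := h (n + (m - z)); have h1 := cnt_high M (m - z); have h2 := cnt_high M' (m - z)
        rw [show m - (m - z) = z by omega] at h1 h2
        omega
      intro z
      rcases le_or_gt z m with hz | hz
      · exact key z hz
      · rw [cnt_top _ hz.le, cnt_top _ hz.le, ← cnt_top M.2.1.1 le_rfl, ← cnt_top M'.2.1.1 le_rfl]
        exact key m le_rfl
    have hB' : ∀ z, cnt M.2.2.1 z ≤ cnt M'.2.2.1 z := by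
      have key : ∀ z, z ≤ n → cnt M.2.2.1 z ≤ cnt M'.2.2.1 z := by
        intro z hz
        have := h z; have := cnt_low M hz; have := cnt_low M' hz
        omega
      intro z
      rcases le_or_gt z n with hz | hz
      · exact key z hz
      · rw [cnt_top _ hz.le, cnt_top _ hz.le, ← cnt_top M.2.2.1 le_rfl, ← cnt_top M'.2.2.1 le_rfl]
        exact key n le_rfl
    exact ⟨Nat.succ_le_succ_iff.1 (hA.2 hA').1,
      fun j j' hj => ⟨(hA.2 hA').2 j j' hj, (hB.2 hB').2 j j' hj⟩⟩

theorem idx_injective : Function.Injective (idx (m := m) (n := n)) := by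
  intro M M' h
  obtain ⟨h1, h2⟩ := (minorGE_iff M M').2 h.le
  obtain ⟨h1', h2'⟩ := (minorGE_iff M' M).2 h.ge
  obtain ⟨s, A, B⟩ := M
  obtain ⟨s', A', B'⟩ := M'
  obtain rfl : s = s' := le_antisymm h1 h1'
  have hA : A = A' := Subtype.ext (funext fun j => le_antisymm (h2' j j rfl).1 (h2 j j rfl).1)
  have hB : B = B' := Subtype.ext (funext fun j => le_antisymm (h2' j j rfl).2 (h2 j j rfl).2)
  rw [hA, hB]

theorem cnt_idx_n (M : MinorIdx m n) : cnt (idx M).1 n + (M.1 + 1) = n := by
  have := cnt_high M 0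
  rw [Nat.add_zero, Nat.sub_zero, cnt_top _ le_rfl] at this
  exact this

theorem idx_ne_bot (M : MinorIdx m n) : idx M ≠ Bottom.botIdx (Nat.le_add_right n m) := by
  intro h
  have h1 := cnt_idx_n M
  rw [h] at h1
  have : cnt (Bottom.botIdx (Nat.le_add_right n m)).1 n = n := by
    rw [cnt, Finset.filter_true_of_mem fun j _ => by simp [Bottom.botIdx], Finset.card_univ,
      Fintype.card_fin]
  omega

theorem exists_idx (θ : Idx n (n + m)) (hθ : θ ≠ Bottom.botIdx (Nat.le_add_right n m)) :
    ∃ M : MinorIdx m n, idx M = θ := by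
  classical
  let H : Finset (Fin n) := Finset.univ.filter fun i => n ≤ (θ.1 i).val
  have hH : H.Nonempty := by
    by_contra hc
    refine hθ ?_
    rcases Nat.eq_zero_or_pos n with h0 | h0
    · exact Subtype.ext (funext fun t => absurd t.isLt (by omega))
    refine Bottom.eq_bot_of_last (⟨n - 1, by omega⟩ : Fin n) (by simp; omega) ?_
    by_contra h
    exact hc ⟨⟨n - 1, by omega⟩, Finset.mem_filter.2 ⟨Finset.mem_univ _, not_lt.1 h⟩⟩
  obtain ⟨s, hs⟩ : ∃ s, H.card = s + 1 := ⟨H.card - 1, by have := hH.card_pos; omega⟩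
  let lo : {i : Fin n // i ∈ Hᶜ} → Fin n := fun i => ⟨(θ.1 i.1).val, by
    have := i.2; simp [H] at this; omega⟩
  have hlo : Function.Injective lo := fun a b hab => Subtype.ext (θ.2.injective (Fin.ext (congrArg Fin.val hab :)))
  let Bs : Finset (Fin n) := (Finset.univ.image lo)ᶜ
  have hBs : Bs.card = s + 1 := by
    rw [Finset.card_compl, Finset.card_image_of_injective _ hlo, Finset.card_univ, Fintype.card_coe,
      Finset.card_compl, Fintype.card_fin]
    have := H.card_le_univ
    simp only [Fintype.card_fin] at this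
    omega
  let hi : {i : Fin n // i ∈ H} → Fin m := fun i => Fin.rev ⟨(θ.1 i.1).val - n, by
    have h1 : n ≤ (θ.1 i.1).val := (Finset.mem_filter.1 i.2).2
    have := (θ.1 i.1).isLt; omega⟩
  have hhi : Function.Injective hi := by
    intro a b hab
    have h1 := congrArg Fin.val (Fin.rev_injective hab)
    have ha : n ≤ (θ.1 a.1).val := (Finset.mem_filter.1 a.2).2
    have hb : n ≤ (θ.1 b.1).val := (Finset.mem_filter.1 b.2).2
    exact Subtype.ext (θ.2.injective (Fin.ext (by simp at h1; omega)))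
  have hAs : (Finset.univ.image hi).card = s + 1 := by
    rw [Finset.card_image_of_injective _ hhi, Finset.card_univ, Fintype.card_coe, hs]
  let A : Idx (s + 1) m := ⟨_, ((Finset.univ.image hi).orderEmbOfFin hAs).strictMono⟩
  let B : Idx (s + 1) n := ⟨_, (Bs.orderEmbOfFin hBs).strictMono⟩
  refine ⟨⟨s, A, B⟩, ?_⟩
  have hmem : ∀ i, row ⟨s, A, B⟩ i ∈ Finset.univ.image θ.1 := by
    intro i
    simp only [row]
    by_cases hi' : ∃ j, B.1 j = i
    · obtain ⟨j, rfl⟩ := hi'
      rw [cellRow_apply _ _ B.2.injective]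
      have : A.1 j ∈ Finset.univ.image hi := Finset.orderEmbOfFin_mem _ hAs j
      obtain ⟨x, -, hx⟩ := Finset.mem_image.1 this
      refine Finset.mem_image.2 ⟨x.1, Finset.mem_univ _, Fin.ext ?_⟩
      have hx' : n ≤ (θ.1 x.1).val := (Finset.mem_filter.1 x.2).2
      simp only [Function.comp_apply, ← hx, hi, Fin.rev_rev, Fin.val_natAdd]
      omega
    · rw [cellRow_not _ _ hi']
      have : i ∈ Finset.univ.image lo := by
        by_contra h
        have hiB : i ∈ Bs := Finset.mem_compl.2 h
        obtain ⟨j, hj⟩ : i ∈ Set.range (Bs.orderEmbOfFin hBs) := by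
          rw [Finset.range_orderEmbOfFin]; exact hiB
        exact hi' ⟨j, hj⟩
      obtain ⟨x, -, hx⟩ := Finset.mem_image.1 this
      refine Finset.mem_image.2 ⟨x.1, Finset.mem_univ _, Fin.ext ?_⟩
      simp [← hx, lo]
  obtain ⟨σ, hσ⟩ := idx_spec ⟨s, A, B⟩
  have hc : (Finset.univ.image θ.1).card = n := by
    rw [Finset.card_image_of_injective _ θ.2.injective, Finset.card_univ, Fintype.card_fin]
  refine Subtype.ext ?_
  refine (Finset.orderEmbOfFin_unique hc (fun x => ?_) (idx ⟨s, A, B⟩).2).trans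
    (Finset.orderEmbOfFin_unique hc (fun x => Finset.mem_image_of_mem _ (Finset.mem_univ x)) θ.2).symm
  have := hmem (σ.symm x)
  rw [hσ] at this
  simpa using this

variable (K : Type u) [Field K]

theorem exists_unit_minor (M : MinorIdx m n) :
    ∃ c : Kˣ, minorOf K M = (c : K) • cmap n m K (X (idx M)) := by
  obtain ⟨σ, hσ⟩ := idx_spec M
  have h1 : cmap n m K (coord K n (n + m) (row M)) = minorOf K M := by
    rw [cmap_coord, row, det_cellRow K _ _ M.2.2.2.injective, AlgHom.map_det]
    refine congrArg Matrix.det (Matrix.ext fun i j => ?_)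
    simp [Det.flip, genMatrix]
  rw [hσ, Plucker.coord_comp_perm, map_mul, map_intCast] at h1
  refine ⟨Units.map (Int.castRingHom K).toMonoidHom (Equiv.Perm.sign σ), ?_⟩
  rw [← h1, Algebra.smul_def]
  simp

/-- the index set of bitableaux -/
abbrev Tab (m n t : ℕ) : Type := Σ k : ℕ, {c : Fin k → MinorIdx m n //
  (∀ i, (c i).1 + 1 ≤ t - 1) ∧ ∀ i j, i < j → MinorGE (c i) (c j)}

/-- the chain of a bitableau -/
def chain {t : ℕ} (c : Tab m n t) : Basis.Chain n (n + m) :=
  ⟨c.1, fun i => idx (c.2.1 i.rev), fun a b hab => by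
    rcases hab.eq_or_lt with rfl | h
    · exact le_rfl
    · exact (minorGE_iff _ _).1 (c.2.2.2 _ _ (Fin.rev_lt_rev.2 h))⟩

theorem idx_le_wIdx (t : ℕ) (hn : 0 < n) (ht : 1 ≤ t) (htr : t ≤ m + 1) (htd : t ≤ n + 1)
    (M : MinorIdx m n) : idx M ≤ wIdx t ht htr ↔ M.1 + 1 ≤ t - 1 := by
  rw [le_wIdx_iff]
  have := cnt_idx_n M
  constructor
  · intro h
    by_cases htn : t ≤ n
    · have := h htn; omega
    · omega
  · intro h htn
    omega

theorem chain_good {t : ℕ} (hn : 0 < n) (ht : 1 ≤ t) (htr : t ≤ m + 1) (htd : t ≤ n + 1)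
    (c : Tab m n t) : Opp.NoBot (Nat.le_add_right n m) (chain c) ∧
      Basis.Below' (wIdx t ht htr) (chain c) :=
  ⟨fun _ => idx_ne_bot _, fun _ => (idx_le_wIdx t hn ht htr htd _).2 (c.2.2.1 _)⟩

theorem chain_injective {t : ℕ} : Function.Injective (chain (m := m) (n := n) (t := t)) := by
  rintro ⟨k, c, hc⟩ ⟨k', c', hc'⟩ h
  simp only [chain, Sigma.mk.injEq] at h
  obtain ⟨rfl, h⟩ := h
  have h2 := congrArg Subtype.val (eq_of_heq h)
  obtain rfl : c = c' := funext fun i => idx_injective (by simpa using congrFun h2 i.rev)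
  rfl

theorem chain_surjective {t : ℕ} (hn : 0 < n) (ht : 1 ≤ t) (htr : t ≤ m + 1) (htd : t ≤ n + 1)
    (x : Basis.Chain n (n + m)) (h1 : Opp.NoBot (Nat.le_add_right n m) x)
    (h2 : Basis.Below' (wIdx t ht htr) x) : ∃ c : Tab m n t, chain c = x := by
  obtain ⟨k, f, hf⟩ := x
  choose M hM using fun i : Fin k => exists_idx (f i.rev) (h1 _)
  refine ⟨⟨k, M, fun i => (idx_le_wIdx t hn ht htr htd _).1 (by rw [hM]; exact h2 _),
    fun i j hij => (minorGE_iff _ _).2 ?_⟩, ?_⟩
  · rw [hM, hM]
    exact hf (Fin.rev_le_rev.2 hij.le)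
  · simp only [chain, Sigma.mk.injEq, true_and, heq_eq_eq]
    exact Subtype.ext (funext fun i => by simp [hM])

theorem basis [IsAlgClosed K] (hm : 0 < m) (hn : 0 < n) (t : ℕ) (ht : 1 ≤ t) (htr : t ≤ m + 1)
    (htd : t ≤ n + 1) :
    LinearIndependent K (fun c : Tab m n t =>
        Ideal.Quotient.mk (CAlgX.minorIdeal (genMatrix K m n) t)
          (Finset.univ.prod fun i => minorOf K (c.2.1 i))) ∧
      Submodule.span K (Set.range fun c : Tab m n t =>
        Ideal.Quotient.mk (CAlgX.minorIdeal (genMatrix K m n) t)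
          (Finset.univ.prod fun i => minorOf K (c.2.1 i))) = ⊤ := by
  classical
  set w : Idx n (n + m) := wIdx t ht htr with hw
  let e := (equiv K hn w).trans (Ideal.quotientEquivAlgOfEq K (cellIdeal_wIdx K t hn ht htr htd))
  choose u hu using exists_unit_minor (m := m) (n := n) K
  let U : Tab m n t → Kˣ := fun c => ∏ i, u (c.2.1 i)
  let v : Tab m n t → PlRing K n (n + m) ⧸ Opp.Q K (Nat.le_add_right n m) w := fun c =>
    Ideal.Quotient.mkₐ K _ (Basis.mon K (chain c))
  have hval : ∀ c : Tab m n t, Ideal.Quotient.mk (CAlgX.minorIdeal (genMatrix K m n) t)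
      (Finset.univ.prod fun i => minorOf K (c.2.1 i)) = U c • e (v c) := by
    intro c
    have h1 : (Finset.univ.prod fun i => minorOf K (c.2.1 i)) =
        ((U c : K)) • cmap n m K (Basis.mon K (chain c)) := by
      rw [Finset.prod_congr rfl fun i _ => hu (c.2.1 i), Finset.prod_smul]
      simp only [U, Units.coe_prod]
      congr 1
      rw [Basis.mon, chainMon, map_prod]
      exact (Equiv.prod_comp Fin.revPerm (fun i => cmap n m K (X (idx (c.2.1 i))))).symm
    rw [h1, Units.smul_def]
    exact map_smul (Ideal.Quotient.mkₐ K _) (U c : K) _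
  have hv : LinearIndependent K v := by
    rw [linearIndependent_iff]
    intro l hl
    have h0 := Opp.indep K hn (Nat.le_add_right n m) w (l.mapDomain chain) (fun x hx => ?_) ?_
    · exact Finsupp.mapDomain_injective chain_injective (by rw [h0, Finsupp.mapDomain_zero])
    · obtain ⟨c, -, rfl⟩ := Finset.mem_image.1
        (Finsupp.mapDomain_support (Finsupp.mem_support_iff.2 hx))
      exact chain_good hn ht htr htd c
    · rw [← Ideal.Quotient.eq_zero_iff_mem, Finsupp.linearCombination_mapDomain,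
        ← Ideal.Quotient.mkₐ_eq_mk K]
      have := Finsupp.apply_linearCombination K (Ideal.Quotient.mkₐ K (Opp.Q K (Nat.le_add_right n m) w)).toLinearMap
        (Basis.mon K ∘ chain (t := t)) l
      simp only [AlgHom.toLinearMap_apply] at this
      rw [this]
      exact hl
  have hspan : Submodule.span K (Set.range v) = ⊤ := by
    rw [← Opp.spanning K hn (Nat.le_add_right n m) w]
    congr 1
    ext z
    constructor
    · rintro ⟨c, rfl⟩
      exact ⟨⟨chain c, chain_good hn ht htr htd c⟩, rfl⟩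
    · rintro ⟨⟨x, h1, h2⟩, rfl⟩
      obtain ⟨c, rfl⟩ := chain_surjective hn ht htr htd x h1 h2
      exact ⟨c, rfl⟩
  have hfun : (fun c : Tab m n t => Ideal.Quotient.mk (CAlgX.minorIdeal (genMatrix K m n) t)
      (Finset.univ.prod fun i => minorOf K (c.2.1 i))) = U • (e ∘ v) := funext hval
  refine ⟨?_, ?_⟩
  · rw [hfun]
    exact (hv.map' e.toLinearMap (LinearMap.ker_eq_bot.2 e.injective)).units_smul U
  · rw [hfun]
    refine Module.Basis.units_smul_span_eq_top ?_
    rw [Set.range_comp]
    have := Submodule.map_span e.toLinearMap (Set.range v)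
    rw [hspan, Submodule.map_top, LinearMap.range_eq_top.2 e.surjective] at this
    exact this.symm

end Groth.Agent.W4bk4.Tableau
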