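import Groth.Agent.W4bk4.Tableau

/-!
# Points of opposite cells; radical hyperplane section
-/

set_option autoImplicit false

open W4bk4grassmannian MvPolynomial Matrix Groth.Agent.W4bk4.Det

noncomputable section

universe u

namespace Groth.Agent.W4bk4.Points

variable {d r : ℕ} (K : Type u) [Field K] [IsAlgClosed K]

/-- evaluation at a matrix -/
def ev (Z : Matrix (Fin r) (Fin d) K) : CellRing K d r →ₐ[K] K := aeval fun p => Z p.1 p.2

/-- the ideal of the cell is the ideal of all functions vanishing on its points -/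
theorem mem_cellIdeal (hd : 0 < d) (w : Idx d (d + r)) (f : CellRing K d r)
    (hf : ∀ Z : Matrix (Fin r) (Fin d) K,
      (∀ φ : Idx d (d + r), ¬ φ ≤ w → ev K Z (cmap d r K (X φ)) = 0) → ev K Z f = 0) :
    f ∈ cellIdeal K w := by
  classical
  haveI := Schubert.schubertVanishing_isPrime K hd w
  let b : Idx d (d + r) := Bottom.botIdx (Nat.le_add_right d r)
  have hbJ := Opp.bot_notMem K hd (Nat.le_add_right d r) w
  obtain ⟨P, rfl⟩ := cmap_surjective K f
  obtain ⟨G, hG, hPG, -⟩ := Dehom.exists_homogenize
    (schubertVanishing K d (d + r) w) (X b) (isHomogeneous_X K _) hbJ P P.totalDegree le_rfl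
  have hfG : cmap d r K G = cmap d r K P := by
    obtain ⟨c, hc⟩ := Ideal.mem_span_singleton'.1 hPG
    have := congrArg (cmap d r K) hc
    rw [map_mul, map_sub, map_sub, cmap_bot, map_one, sub_self, mul_zero] at this
    exact (sub_eq_zero.1 this.symm).symm
  rw [← hfG] at hf ⊢
  suffices hGJ : G ∈ schubertVanishing K d (d + r) w from
    (ker_cmap K hd w G).2 (Ideal.mem_sup_left hGJ)
  refine (Ideal.IsPrime.mem_or_mem (inferInstance : (schubertVanishing K d (d + r) w).IsPrime) ?_).resolve_left hbJ
  simp only [schubertVanishing, Ideal.mem_iInf]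
  intro A hA
  change evalMinors K d (d + r) A (X b * G) = 0
  have hX : ∀ φ : Idx d (d + r), evalMinors K d (d + r) A (X φ) = (A.submatrix φ.1 id).det := fun φ => by
    simp [evalMinors]
  rw [map_mul, hX]
  by_cases hδ : (A.submatrix b.1 id).det = 0
  · rw [hδ, zero_mul]
  refine mul_eq_zero_of_right _ ?_
  let A0 := A.submatrix b.1 id
  let A' := A * A0⁻¹
  have hA' : ∀ a : Fin d → Fin (d + r),
      (A.submatrix a id).det = (A'.submatrix a id).det * A0.det := by
    intro a
    rw [show A'.submatrix a id = A.submatrix a id * A0⁻¹ from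
      (Matrix.submatrix_mul A A0⁻¹ a id id Function.bijective_id).trans (by simp),
      Matrix.det_mul, Matrix.det_nonsing_inv, Ring.inverse_eq_inv', mul_assoc,
      inv_mul_cancel₀ hδ, mul_one]
  have h1 : A'.submatrix b.1 id = 1 := by
    rw [show A'.submatrix b.1 id = A0 * A0⁻¹ from
      (Matrix.submatrix_mul A A0⁻¹ b.1 id id Function.bijective_id).trans (by simp [A0]),
      Matrix.mul_nonsing_inv _ (isUnit_iff_ne_zero.2 hδ)]
  let Z : Matrix (Fin r) (Fin d) K := Matrix.of fun i j => A' (Fin.natAdd d i.rev) j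
  have hev : (ev K Z).comp (cmap d r K) = evalMinors K d (d + r) A' := by
    refine MvPolynomial.algHom_ext fun φ => ?_
    rw [AlgHom.comp_apply, cmap, aeval_X, AlgHom.map_det, evalMinors, aeval_X]
    refine congrArg Matrix.det (Matrix.ext fun s u => ?_)
    simp only [AlgHom.mapMatrix_apply, Matrix.map_apply, Matrix.submatrix_apply, id_eq]
    generalize φ.1 s = i
    induction i using Fin.addCases with
    | left s =>
      rw [cmat_top]
      have := congrFun (congrFun h1 s) u
      simp only [Matrix.submatrix_apply, id_eq] at this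
      rw [show Fin.castAdd r s = b.1 s from rfl, this, Matrix.one_apply]
      split <;> simp
    | right i =>
      rw [cmat_bot]
      simp [ev, Z]
  have h4 : evalMinors K d (d + r) A' G = 0 := by
    rw [← hev, AlgHom.comp_apply]
    refine hf Z fun φ hφ => ?_
    change ((ev K Z).comp (cmap d r K)) (X φ) = 0
    rw [hev, evalMinors, aeval_X]
    have h2 := hA' φ.1
    rw [hA φ hφ] at h2
    exact (mul_eq_zero.1 h2.symm).resolve_right hδ
  have h5 : evalMinors K d (d + r) A G = A0.det ^ P.totalDegree * evalMinors K d (d + r) A' G := by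
    rw [← G.support_sum_monomial_coeff, map_sum, map_sum, Finset.mul_sum]
    refine Finset.sum_congr rfl fun e he => ?_
    have hk : e.sum (fun _ a => a) = P.totalDegree := by
      rw [hG.degree_eq_sum_deg_support he]; rfl
    simp only [evalMinors, aeval_monomial, Finsupp.prod]
    rw [← hk, Finsupp.sum, ← Finset.prod_pow_eq_pow_sum, mul_left_comm (∏ x ∈ e.support, A0.det ^ e x),
      ← Finset.prod_mul_distrib]
    congr 1
    refine Finset.prod_congr rfl fun φ _ => ?_
    rw [hA' φ.1, mul_pow, mul_comm]
  rw [h5, h4, mul_zero]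

/-- a function vanishing on the cells of all divisors is a multiple of `p_w` on the cell of `X(w)` -/
theorem mem_of_mem_divisors (hd : 0 < d) (hr : 0 < r) (w : Idx d (d + r))
    (hw : w ≠ Bottom.botIdx (Nat.le_add_right d r)) (f : CellRing K d r)
    (hf : ∀ φ ∈ divisors w, f ∈ cellIdeal K φ) :
    f ∈ cellIdeal K w ⊔ Ideal.span {cmap d r K (X w)} := by
  classical
  haveI := Schubert.schubertVanishing_isPrime K hd w
  let b : Idx d (d + r) := Bottom.botIdx (Nat.le_add_right d r)
  obtain ⟨P, rfl⟩ := cmap_surjective K f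
  obtain ⟨G, hG, hPG, -⟩ := Dehom.exists_homogenize (schubertVanishing K d (d + r) w) (X b)
    (isHomogeneous_X K _) (Opp.bot_notMem K hd (Nat.le_add_right d r) w) P P.totalDegree le_rfl
  have hfG : cmap d r K G = cmap d r K P := by
    obtain ⟨c, hc⟩ := Ideal.mem_span_singleton'.1 hPG
    have := congrArg (cmap d r K) hc
    rw [map_mul, map_sub, map_sub, cmap_bot, map_one, sub_self, mul_zero] at this
    exact (sub_eq_zero.1 this.symm).symm
  have hGJ : G ∈ schubertVanishing K d (d + r) w ⊔ Ideal.span {X w} := by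
    rw [Groth.Agent.S11254.result K d (d + r) hd (Nat.lt_add_of_pos_right hr) w
      ⟨b, lt_of_le_of_ne (Bottom.botIdx_le _ w) hw.symm⟩]
    refine Ideal.mem_iInf.2 fun φ => Ideal.mem_iInf.2 fun hφ => ?_
    haveI := Schubert.schubertVanishing_isPrime K hd φ
    refine (Dehom.mem_iff_of_homog _ _ (isHomogeneous_X K _) (Opp.bot_notMem K hd (Nat.le_add_right d r) φ)
      (Levels.isHomog_schubert K hd φ) hG).1 ((ker_cmap K hd φ G).1 ?_)
    rw [hfG]; exact hf φ hφ
  obtain ⟨p, hp, c, hc, rfl⟩ := Submodule.mem_sup.1 hGJ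
  obtain ⟨e, rfl⟩ := Ideal.mem_span_singleton'.1 hc
  rw [← hfG, map_add, map_mul]
  exact Submodule.add_mem_sup ((ker_cmap K hd w p).2 (Ideal.mem_sup_left hp))
    (Ideal.mul_mem_left _ _ (Ideal.mem_span_singleton_self _))

end Groth.Agent.W4bk4.Points
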