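import Groth.Agent.W4bk4.Richardson
import Mathlib.Algebra.Polynomial.Roots
import Mathlib.Algebra.Polynomial.AlgebraMap
import Mathlib.LinearAlgebra.Dimension.Free

/-!
# Flat degenerations of Schubert cones attached to a weight
-/

set_option autoImplicit false

open W4bk4grassmannian MvPolynomial

noncomputable section

universe u v

namespace Groth.Agent.W4bk4.Degen

theorem tuple_span (R : Type u) [CommRing R] (ι : Type v) (f : MvPolynomial ι R) :
    f ∈ Submodule.span R (Set.range fun c : (Σ m : ℕ, Fin m → ι) => ∏ k, (X (c.2 k) : MvPolynomial ι R)) := by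
  induction f using MvPolynomial.induction_on with
  | C a =>
    have : (C a : MvPolynomial ι R) = a • ∏ k : Fin 0, X ((Fin.elim0 : Fin 0 → ι) k) := by
      simp [smul_eq_C_mul]
    rw [this]
    exact Submodule.smul_mem _ _ (Submodule.subset_span ⟨⟨0, Fin.elim0⟩, rfl⟩)
  | add p q hp hq => exact add_mem hp hq
  | mul_X p i hp =>
    refine Submodule.span_induction (fun x hx => ?_) (by simp) (fun a b _ _ ha hb => by
      rw [add_mul]; exact add_mem ha hb) (fun a b _ hb => by
      rw [smul_mul_assoc]; exact Submodule.smul_mem _ _ hb) hp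
    obtain ⟨⟨m, c⟩, rfl⟩ := hx
    refine Submodule.subset_span ⟨⟨m + 1, Fin.snoc c i⟩, ?_⟩
    dsimp only
    rw [Fin.prod_univ_castSucc]
    simp

variable {d n : ℕ}

/-- chains below `w` -/
abbrev Std (w : Idx d n) : Type := {c : Basis.Chain d n // Basis.Below' w c}

variable (K : Type u) [Field K] [IsAlgClosed K] (w : Idx d n) (om : Idx d n → ℕ)

/-- weight of a tuple -/
def wtT {m : ℕ} (c : Fin m → Idx d n) : ℕ := ∑ k, om (c k)

/-- weight of a standard monomial -/
def W (c : Std w) : ℕ := wtT om c.1.2.1

/-- the coordinate ring of the cone -/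
abbrev A : Type u := PlRing K d n ⧸ schubertVanishing K d n w

/-- the class map -/
abbrev mkA : PlRing K d n →ₐ[K] A K w := Ideal.Quotient.mkₐ K _

theorem smulA (a : K) (y : A K w) : a • y = algebraMap K (A K w) a * y := by
  obtain ⟨f, rfl⟩ := Ideal.Quotient.mk_surjective y
  exact congrArg (Ideal.Quotient.mk _) (Algebra.smul_def a f)

/-- standard monomials in the coordinate ring -/
def v (c : Std w) : A K w := mkA K w (Basis.mon K c.1)

/-- standard monomials of weight at most `s` -/
def F (s : ℕ) : Submodule K (A K w) := Submodule.span K (v K w '' {c | W w om c ≤ s})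

/-- standard monomials of weight less than `s` -/
def F' (s : ℕ) : Submodule K (A K w) := Submodule.span K (v K w '' {c | W w om c < s})

theorem v_linearIndependent (hd : 0 < d) : LinearIndependent K (v K w) := by
  classical
  rw [linearIndependent_iff]
  intro l hl
  have h1 : Finsupp.linearCombination K (Basis.mon K) (l.mapDomain Subtype.val) ∈
      schubertVanishing K d n w := by
    rw [← Ideal.Quotient.eq_zero_iff_mem, Finsupp.linearCombination_mapDomain,
      ← Ideal.Quotient.mkₐ_eq_mk K]
    have := Finsupp.apply_linearCombination K (mkA K w).toLinearMap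
      (Basis.mon K ∘ (Subtype.val : Std w → Basis.Chain d n)) l
    simp only [AlgHom.toLinearMap_apply] at this
    rw [this]
    exact hl
  have h2 := (Basis.schubert_iff_repr K hd w (zero_mem _) (zero_add _).symm).1 h1
  ext c
  have := h2 c.1 c.2
  rwa [Finsupp.mapDomain_apply Subtype.val_injective] at this

/-- `x_θ ↦ t^{om θ} p_θ` -/
def Phi : MvPolynomial (Below w) (Polynomial K) →+* Polynomial (A K w) :=
  MvPolynomial.eval₂Hom (Polynomial.mapRingHom (algebraMap K (A K w)))
    fun θ => Polynomial.C (mkA K w (X θ.1)) * Polynomial.X ^ om θ.1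

/-- the total space -/
abbrev R : Type u := (Phi K w om).range

/-- the parameter -/
def algT : Algebra (Polynomial K) (R K w om) :=
  ((Phi K w om).rangeRestrict.comp MvPolynomial.C).toAlgebra

/-- `t^{W c} v_c` -/
def gC (c : Std w) : Polynomial (A K w) := Polynomial.C (v K w c) * Polynomial.X ^ W w om c

theorem Phi_tuple {m : ℕ} (c : Fin m → Below w) :
    Phi K w om (∏ k, X (c k)) =
      Polynomial.C (mkA K w (chainMon K fun k => (c k).1)) * Polynomial.X ^ wtT om (fun k => (c k).1) := by
  simp only [chainMon, map_prod, wtT, Phi, MvPolynomial.eval₂Hom_X', Finset.prod_mul_distrib,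
    Finset.prod_pow_eq_pow_sum]

/-- the element of the total space attached to a standard monomial -/
def gR (c : Std w) : R K w om :=
  (Phi K w om).rangeRestrict (∏ k, X ⟨c.1.2.1 k, c.2 k⟩)

theorem gR_val (c : Std w) : (gR K w om c).1 = gC K w om c := by
  rw [gR]
  change Phi K w om _ = _
  rw [Phi_tuple]
  rfl

theorem smul_val (p : Polynomial K) (r : R K w om) :
    letI := algT K w om
    ((p • r : R K w om)).1 = p.map (algebraMap K (A K w)) * r.1 := by
  letI := algT K w om
  rw [Algebra.smul_def]
  change (Phi K w om (C p)) * r.1 = _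
  exact congrArg (· * r.1) (MvPolynomial.eval₂Hom_C _ _ p)

theorem gR_linearIndependent (hd : 0 < d) :
    letI := algT K w om
    LinearIndependent (Polynomial K) (gR K w om) := by
  classical
  letI := algT K w om
  rw [linearIndependent_iff']
  intro s p hp c hc
  have hp' := congrArg Subtype.val hp
  rw [AddSubmonoidClass.coe_finset_sum] at hp'
  simp only [smul_val, gR_val, gC] at hp'
  refine Polynomial.ext fun j => ?_
  have hj := congrArg (fun P => Polynomial.coeff P (j + W w om c)) hp'
  simp only [Polynomial.finset_sum_coeff, ← mul_assoc, Polynomial.coeff_mul_X_pow',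
    Polynomial.coeff_mul_C, Polynomial.coeff_map, ZeroMemClass.coe_zero, Polynomial.coeff_zero] at hj
  have h2 : ∑ x ∈ s, (if W w om x ≤ j + W w om c then (p x).coeff (j + W w om c - W w om x) else 0) •
      v K w x = 0 := by
    rw [← hj]
    refine Finset.sum_congr rfl fun x _ => ?_
    split <;> simp [smulA]
  have h3 := linearIndependent_iff'.1 (v_linearIndependent K w hd) s _ h2 c hc
  rw [if_pos (Nat.le_add_left _ _), Nat.add_sub_cancel] at h3
  simpa using h3

variable (hF : ∀ (m : ℕ) (c : Fin m → Idx d n), mkA K w (chainMon K c) ∈ F K w om (wtT om c))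

include hF in
theorem gR_span :
    letI := algT K w om
    ⊤ ≤ Submodule.span (Polynomial K) (Set.range (gR K w om)) := by
  classical
  letI := algT K w om
  rintro ⟨z, P, rfl⟩ -
  set S := Submodule.span (Polynomial K) (Set.range (gR K w om))
  change (Phi K w om).rangeRestrict P ∈ S
  refine Submodule.span_induction (p := fun Q _ => (Phi K w om).rangeRestrict Q ∈ S) ?_ ?_ ?_ ?_
    (tuple_span (Polynomial K) (Below w) P)
  · rintro _ ⟨⟨m, c⟩, rfl⟩
    set z := mkA K w (chainMon K fun k => (c k).1) with hz
    obtain ⟨l, hl, hsum⟩ := (Finsupp.mem_span_image_iff_linearCombination K).1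
      (hF m fun k => (c k).1)
    have e : (Phi K w om).rangeRestrict (∏ k, X (c k)) =
        ∑ x ∈ l.support, (Polynomial.C (l x) *
          Polynomial.X ^ (wtT om (fun k => (c k).1) - W w om x)) • gR K w om x := by
      apply Subtype.ext
      rw [AddSubmonoidClass.coe_finset_sum]
      change Phi K w om _ = _
      rw [Phi_tuple, ← hsum, Finsupp.linearCombination_apply, Finsupp.sum, map_sum, Finset.sum_mul]
      refine Finset.sum_congr rfl fun x hx => ?_
      have hle : W w om x ≤ wtT om fun k => (c k).1 := hl hx
      rw [smul_val, gR_val, gC, Polynomial.map_mul, Polynomial.map_C, Polynomial.map_pow,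
        Polynomial.map_X, smulA K w,
        map_mul]
      conv_lhs => rw [← Nat.sub_add_cancel hle, pow_add]
      ring
    dsimp only
    rw [e]
    exact sum_mem fun x _ => Submodule.smul_mem _ _ (Submodule.subset_span ⟨x, rfl⟩)
  · rw [map_zero]; exact zero_mem _
  · intro a b _ _ ha hb
    rw [map_add]; exact add_mem ha hb
  · intro p a _ ha
    rw [MvPolynomial.smul_eq_C_mul, map_mul]
    exact S.smul_mem p ha

/-- members of lower weight vanish in the special fibre -/
theorem mem_t {s : ℕ} {z : A K w} (hz : z ∈ F' K w om s) :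
    letI := algT K w om
    ∃ r : R K w om, (r.1 : Polynomial (A K w)) * Polynomial.X = Polynomial.C z * Polynomial.X ^ s := by
  classical
  letI := algT K w om
  obtain ⟨l, hl, rfl⟩ := (Finsupp.mem_span_image_iff_linearCombination K).1 hz
  refine ⟨∑ x ∈ l.support, (Polynomial.C (l x) * Polynomial.X ^ (s - W w om x - 1)) • gR K w om x, ?_⟩
  rw [AddSubmonoidClass.coe_finset_sum, Finsupp.linearCombination_apply, Finsupp.sum, map_sum,
    Finset.sum_mul, Finset.sum_mul]
  refine Finset.sum_congr rfl fun x hx => ?_
  have hlt : W w om x < s := hl hx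
  rw [smul_val, gR_val, gC, Polynomial.map_mul, Polynomial.map_C, Polynomial.map_pow,
    Polynomial.map_X, smulA K w,
        map_mul]
  conv_rhs => rw [show s = s - W w om x - 1 + 1 + W w om x by omega, pow_add, pow_succ]
  ring

/-- the family degenerates `S/J(w)` to `K[x]/I` -/
theorem main (hd : 0 < d) (I : Ideal (MvPolynomial (Below w) K))
    (hF : ∀ (m : ℕ) (c : Fin m → Idx d n), mkA K w (chainMon K c) ∈ F K w om (wtT om c))
    (hI : ∀ f ∈ I, ∀ (g : MvPolynomial (Below w) (Polynomial K)),
      g = MvPolynomial.map Polynomial.C f → ∃ r : R K w om, Phi K w om g = r.1 * Polynomial.X)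
    (hstd : ∀ (m : ℕ) (c : Fin m → Below w), (∏ k, X (c k) : MvPolynomial (Below w) K) ∈
      I.restrictScalars K ⊔ Submodule.span K
        (Set.range fun x : Std w => ∏ k, X (⟨x.1.2.1 k, x.2 k⟩ : Below w))) :
    ∃ (R : Type u) (_ : CommRing R) (_ : Algebra K R) (_ : Algebra (Polynomial K) R)
      (_ : IsScalarTower K (Polynomial K) R),
      Module.Free (Polynomial K) R ∧
      Nonempty ((R ⧸ Ideal.span {algebraMap (Polynomial K) R Polynomial.X}) ≃ₐ[K]
        (MvPolynomial (Below w) K ⧸ I)) ∧
      ∀ c : K, c ≠ 0 →
        Nonempty ((R ⧸ Ideal.span {algebraMap (Polynomial K) R (Polynomial.X - Polynomial.C c)}) ≃ₐ[K]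
          (PlRing K d n ⧸ schubertVanishing K d n w)) := by
  classical
  letI iT := algT K w om
  letI iK : Algebra K (R K w om) :=
    ((algebraMap (Polynomial K) (R K w om)).comp Polynomial.C).toAlgebra
  haveI iS : IsScalarTower K (Polynomial K) (R K w om) := IsScalarTower.of_algebraMap_eq fun x => rfl
  let bas : Module.Basis (Std w) (Polynomial K) (R K w om) :=
    Module.Basis.mk (gR_linearIndependent K w om hd) (gR_span K w om hF)
  have hbas : ∀ x, bas x = gR K w om x := Module.Basis.mk_apply _ _
  have hmap : ∀ p : Polynomial K, (algebraMap (Polynomial K) (R K w om) p).1 =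
      p.map (algebraMap K (A K w)) := by
    intro p
    exact MvPolynomial.eval₂Hom_C _ _ p
  refine ⟨R K w om, inferInstance, iK, iT, iS, Module.Free.of_basis bas, ?_, fun a ha => ?_⟩
  · let T := R K w om ⧸ Ideal.span {algebraMap (Polynomial K) (R K w om) Polynomial.X}
    let π : R K w om →ₐ[K] T := Ideal.Quotient.mkₐ K _
    let ψ : MvPolynomial (Below w) K →ₐ[K] T :=
      { π.toRingHom.comp ((Phi K w om).rangeRestrict.comp (MvPolynomial.map Polynomial.C)) with
        commutes' := fun x => by
          change π ((Phi K w om).rangeRestrict (MvPolynomial.map Polynomial.C (C x))) = _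
          rw [MvPolynomial.map_C]
          exact π.commutes x }
    have hψI : ∀ f ∈ I, ψ f = 0 := by
      intro f hf
      obtain ⟨r, hr⟩ := hI f hf _ rfl
      refine Ideal.Quotient.eq_zero_iff_mem.2 (Ideal.mem_span_singleton'.2 ⟨r, Subtype.ext ?_⟩)
      change r.1 * (algebraMap (Polynomial K) (R K w om) Polynomial.X).1 = Phi K w om _
      rw [hmap, Polynomial.map_X, hr]
    let ψ' : (MvPolynomial (Below w) K ⧸ I) →ₐ[K] T := Ideal.Quotient.liftₐ I ψ hψI
    let u : Std w → MvPolynomial (Below w) K := fun x => ∏ k, X ⟨x.1.2.1 k, x.2 k⟩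
    have hψu : ∀ x, ψ (u x) = π (gR K w om x) := by
      intro x
      change π ((Phi K w om).rangeRestrict (MvPolynomial.map Polynomial.C (u x))) = _
      simp only [u, gR, map_prod, MvPolynomial.map_X]
    have hmod : ∀ (p : Polynomial K) (r : R K w om), π (p • r) = p.coeff 0 • π r := by
      intro p r
      rw [← map_smul, Ideal.Quotient.mkₐ_eq_mk, Ideal.Quotient.eq]
      rw [show p • r - p.coeff 0 • r = algebraMap (Polynomial K) (R K w om) (p - Polynomial.C (p.coeff 0)) * r by
        rw [map_sub, sub_mul, ← Algebra.smul_def, Algebra.smul_def (p.coeff 0) r]; rfl]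
      refine Ideal.mul_mem_right _ _ ?_
      obtain ⟨q, hq⟩ := Polynomial.X_dvd_iff.2 (show (p - Polynomial.C (p.coeff 0)).coeff 0 = 0 by simp)
      rw [hq, map_mul]
      exact Ideal.mul_mem_right _ _ (Ideal.mem_span_singleton_self _)
    have hsurj : Function.Surjective ψ' := by
      intro y
      obtain ⟨r, rfl⟩ := Ideal.Quotient.mkₐ_surjective K _ y
      have : π r ∈ LinearMap.range ψ'.toLinearMap := by
        have hr : r ∈ Submodule.span (Polynomial K) (Set.range bas) := bas.mem_span r
        induction hr using Submodule.span_induction with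
        | mem z hz =>
          obtain ⟨x, rfl⟩ := hz
          exact ⟨Ideal.Quotient.mk I (u x), by rw [hbas, ← hψu]; rfl⟩
        | zero => rw [map_zero]; exact zero_mem _
        | add a b _ _ ha hb => rw [map_add]; exact add_mem ha hb
        | smul p a _ ha => rw [hmod]; exact Submodule.smul_mem _ _ ha
      exact this
    have hinj : Function.Injective ψ' := by
      rw [injective_iff_map_eq_zero]
      intro y hy
      obtain ⟨f, rfl⟩ := Ideal.Quotient.mk_surjective y
      have hf : f ∈ I.restrictScalars K ⊔ Submodule.span K (Set.range u) := by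
        have := tuple_span K (Below w) f
        refine Submodule.span_le.2 ?_ this
        rintro _ ⟨⟨m, c⟩, rfl⟩
        exact hstd m c
      obtain ⟨i, hi, s, hs, rfl⟩ := Submodule.mem_sup.1 hf
      obtain ⟨l, rfl⟩ := Finsupp.mem_span_range_iff_exists_finsupp.1 hs
      change ψ (i + l.sum fun x a => a • u x) = 0 at hy
      rw [map_add, hψI i hi, zero_add, Finsupp.sum, map_sum] at hy
      simp only [map_smul, hψu] at hy
      have hy' : π (∑ x ∈ l.support, Polynomial.C (l x) • gR K w om x) = 0 := by
        rw [map_sum, ← hy]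
        refine Finset.sum_congr rfl fun x _ => ?_
        rw [hmod, Polynomial.coeff_C_zero]
      have hy'' : (∑ x ∈ l.support, Polynomial.C (l x) • gR K w om x) ∈
          Ideal.span {algebraMap (Polynomial K) (R K w om) Polynomial.X} :=
        Ideal.Quotient.eq_zero_iff_mem.1 hy'
      obtain ⟨q, hq⟩ := Ideal.mem_span_singleton'.1 hy''
      have hl : l = 0 := by
        ext x
        have h1 := congrArg (fun z => bas.repr z x) hq
        simp only [mul_comm q, ← Algebra.smul_def, map_smul, map_sum, Finsupp.finset_sum_apply,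
          Finsupp.smul_apply, smul_eq_mul, ← hbas, Module.Basis.repr_self, Finsupp.single_apply,
          mul_ite, mul_one, mul_zero] at h1
        by_cases hx : x ∈ l.support
        · have h1' := h1.trans (Finset.sum_eq_single x (fun i _ hi => if_neg hi) (fun h => absurd hx h))
          rw [if_pos rfl] at h1'
          have h2 := congrArg (fun p => Polynomial.coeff p 0) h1'
          simp at h2
          simpa using h2.symm
        · simpa using hx
      rw [hl, Finsupp.sum_zero_index, add_zero]
      exact Ideal.Quotient.eq_zero_iff_mem.2 hi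
    exact ⟨(AlgEquiv.ofBijective ψ' ⟨hinj, hsurj⟩).symm⟩
  · let evA : Polynomial (A K w) →+* A K w := Polynomial.evalRingHom (algebraMap K (A K w) a)
    let ε : R K w om →ₐ[K] A K w :=
      { evA.comp (Phi K w om).range.subtype with
        commutes' := fun x => by
          change evA (algebraMap (Polynomial K) (R K w om) (Polynomial.C x)).1 = _
          rw [hmap]
          simp [evA] }
    have hεg : ∀ x, ε (gR K w om x) = a ^ W w om x • v K w x := by
      intro x
      change evA (gR K w om x).1 = _
      rw [gR_val, gC]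
      simp [evA, smulA, mul_comm]
    have hεp : ∀ (p : Polynomial K) (r : R K w om), ε (p • r) = p.eval a • ε r := by
      intro p r
      change evA (p • r).1 = p.eval a • evA r.1
      rw [smul_val]
      simp [evA, smulA, Polynomial.eval_map, Polynomial.eval₂_at_apply]
    have hker : RingHom.ker ε.toRingHom =
        Ideal.span {algebraMap (Polynomial K) (R K w om) (Polynomial.X - Polynomial.C a)} := by
      refine le_antisymm (fun r hr => ?_) ((Ideal.span_singleton_le_iff_mem _).2 ?_)
      · change ε r = 0 at hr
        rw [← bas.linearCombination_repr r, Finsupp.linearCombination_apply, Finsupp.sum] at hr ⊢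
        rw [map_sum] at hr
        simp only [hεp, hbas, hεg, smul_smul] at hr
        have h0 := linearIndependent_iff'.1 (v_linearIndependent K w hd) _ _ hr
        refine sum_mem fun x hx => ?_
        have hroot : (bas.repr r x).IsRoot a :=
          (mul_eq_zero.1 (h0 x hx)).resolve_right (pow_ne_zero _ ha)
        obtain ⟨q, hq⟩ := Polynomial.dvd_iff_isRoot.2 hroot
        rw [Algebra.smul_def, hq, map_mul, mul_assoc]
        exact Ideal.mul_mem_right _ _ (Ideal.mem_span_singleton_self _)
      · change evA (algebraMap (Polynomial K) (R K w om) (Polynomial.X - Polynomial.C a)).1 = 0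
        rw [hmap]
        simp [evA]
    have hsurj : Function.Surjective ε := by
      intro y
      have hy : y ∈ LinearMap.range ε.toLinearMap := by
        obtain ⟨f, rfl⟩ := Ideal.Quotient.mkₐ_surjective K (schubertVanishing K d n w) y
        have := tuple_span K (Idx d n) f
        induction this using Submodule.span_induction with
        | mem z hz =>
          obtain ⟨⟨m, c⟩, rfl⟩ := hz
          refine Submodule.span_le.2 ?_ (hF m c)
          rintro _ ⟨x, -, rfl⟩
          refine ⟨(a ^ W w om x)⁻¹ • gR K w om x, ?_⟩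
          change ε (_ • _) = _
          rw [map_smul, hεg, smul_smul, inv_mul_cancel₀ (pow_ne_zero _ ha), one_smul]
        | zero => rw [map_zero]; exact zero_mem _
        | add a b _ _ ha hb => rw [map_add]; exact add_mem ha hb
        | smul p a _ ha => rw [map_smul]; exact Submodule.smul_mem _ _ ha
      exact hy
    exact ⟨(Ideal.quotientEquivAlgOfEq K hker.symm).trans
      (Ideal.quotientKerAlgEquivOfSurjective hsurj)⟩

/-- it is enough to check generators -/
theorem main_gens (hd : 0 < d) (G : Set (MvPolynomial (Below w) K))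
    (hF : ∀ (m : ℕ) (c : Fin m → Idx d n), mkA K w (chainMon K c) ∈ F K w om (wtT om c))
    (hG : ∀ f ∈ G, ∃ (z : A K w) (s : ℕ), z ∈ F' K w om s ∧
      Phi K w om (MvPolynomial.map Polynomial.C f) = Polynomial.C z * Polynomial.X ^ s)
    (hstd : ∀ (m : ℕ) (c : Fin m → Below w), (∏ k, X (c k) : MvPolynomial (Below w) K) ∈
      (Ideal.span G).restrictScalars K ⊔ Submodule.span K
        (Set.range fun x : Std w => ∏ k, X (⟨x.1.2.1 k, x.2 k⟩ : Below w))) :
    ∃ (R : Type u) (_ : CommRing R) (_ : Algebra K R) (_ : Algebra (Polynomial K) R)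
      (_ : IsScalarTower K (Polynomial K) R),
      Module.Free (Polynomial K) R ∧
      Nonempty ((R ⧸ Ideal.span {algebraMap (Polynomial K) R Polynomial.X}) ≃ₐ[K]
        (MvPolynomial (Below w) K ⧸ Ideal.span G)) ∧
      ∀ c : K, c ≠ 0 →
        Nonempty ((R ⧸ Ideal.span {algebraMap (Polynomial K) R (Polynomial.X - Polynomial.C c)}) ≃ₐ[K]
          (PlRing K d n ⧸ schubertVanishing K d n w)) := by
  refine main K w om hd (Ideal.span G) hF (fun f hf g hg => ?_) hstd
  subst hg
  induction hf using Submodule.span_induction with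
  | mem x hx =>
    obtain ⟨z, s, hz, he⟩ := hG x hx
    obtain ⟨r, hr⟩ := mem_t K w om hz
    exact ⟨r, by rw [he, hr]⟩
  | zero => exact ⟨0, by simp⟩
  | add a b _ _ ha hb =>
    obtain ⟨r, hr⟩ := ha
    obtain ⟨r', hr'⟩ := hb
    exact ⟨r + r', by rw [map_add, map_add, hr, hr', Subring.coe_add, add_mul]⟩
  | smul p a _ ha =>
    obtain ⟨r, hr⟩ := ha
    exact ⟨(Phi K w om).rangeRestrict (MvPolynomial.map Polynomial.C p) * r, by
      rw [smul_eq_mul, map_mul, map_mul, hr, Subring.coe_mul, mul_assoc]; rfl⟩

end Groth.Agent.W4bk4.Degen
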