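import Groth.Agent.W4bk4.FreeGraded
import Mathlib.RingTheory.IntegralClosure.IntegrallyClosed
import Mathlib.RingTheory.Localization.FractionRing
import Mathlib.Algebra.BigOperators.Field

/-!
# Dehomogenisation of a graded domain at a linear form
-/

set_option autoImplicit false

open MvPolynomial

noncomputable section

universe u v

namespace Groth.Agent.W4bk4.Dehom

variable {σ : Type v} [Finite σ] {K : Type u} [Field K] (J : Ideal (MvPolynomial σ K)) [J.IsPrime]
  (b : MvPolynomial σ K)

/-- fraction field of the cone -/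
abbrev F : Type max u v := FractionRing (MvPolynomial σ K ⧸ J)

/-- to the fraction field -/
def toF : MvPolynomial σ K →ₐ[K] F J :=
  (IsScalarTower.toAlgHom K (MvPolynomial σ K ⧸ J) (F J)).comp (Ideal.Quotient.mkₐ K J)

theorem toF_eq_zero (f : MvPolynomial σ K) : toF J f = 0 ↔ f ∈ J := by
  rw [← Ideal.Quotient.eq_zero_iff_mem]
  exact map_eq_zero_iff _ (IsFractionRing.injective (MvPolynomial σ K ⧸ J) (F J))

/-- `X i ↦ X i / b` -/
def dehom : MvPolynomial σ K →ₐ[K] F J := MvPolynomial.aeval fun i => toF J (X i) / toF J b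

variable (hb : b.IsHomogeneous 1) (hbJ : b ∉ J) (hJ : FreeGraded.IsHomog K J)

include hbJ in
theorem toF_b_ne : toF J b ≠ 0 := fun h => hbJ ((toF_eq_zero J b).1 h)

include hbJ in
theorem dehom_homog {f : MvPolynomial σ K} {k : ℕ} (hf : f.IsHomogeneous k) :
    dehom J b f = toF J f / toF J b ^ k := by
  classical
  rw [eq_div_iff (pow_ne_zero k (toF_b_ne J b hbJ)), ← f.support_sum_monomial_coeff, map_sum, map_sum,
    Finset.sum_mul]
  refine Finset.sum_congr rfl fun e he => ?_
  have hk : e.sum (fun _ a => a) = k := by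
    rw [hf.degree_eq_sum_deg_support he]; rfl
  have hmon : monomial e (f.coeff e) = C (f.coeff e) * e.prod fun i a => X i ^ a := monomial_eq
  have htoF : toF J (monomial e (f.coeff e)) =
      algebraMap K (F J) (f.coeff e) * e.prod fun i a => toF J (X i) ^ a := by
    rw [hmon, map_mul, Finsupp.prod, map_prod]
    simp only [map_pow]
    rw [show toF J (C (f.coeff e)) = algebraMap K (F J) (f.coeff e) from (toF J).commutes _]
    rfl
  rw [htoF, dehom, aeval_monomial, mul_assoc]
  congr 1
  rw [← hk, Finsupp.sum, ← Finset.prod_pow_eq_pow_sum, Finsupp.prod, Finsupp.prod,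
    ← Finset.prod_mul_distrib]
  refine Finset.prod_congr rfl fun i _ => ?_
  rw [div_pow, div_mul_cancel₀ _ (pow_ne_zero _ (toF_b_ne J b hbJ))]

include hb hbJ in
theorem dehom_b : dehom J b b = 1 := by
  rw [dehom_homog J b hbJ hb, pow_one, div_self (toF_b_ne J b hbJ)]

include hb hbJ in
/-- the homogenisation of a polynomial -/
theorem exists_homogenize (f : MvPolynomial σ K) (N : ℕ) (hN : f.totalDegree ≤ N) :
    ∃ G : MvPolynomial σ K, G.IsHomogeneous N ∧ f - G ∈ Ideal.span {b - 1} ∧
      dehom J b f = toF J G / toF J b ^ N := by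
  classical
  have hspan : ∀ m : ℕ, b ^ m - 1 ∈ Ideal.span {b - 1} := fun m =>
    Ideal.mem_span_singleton.2 (sub_one_dvd_pow_sub_one b m)
  refine ⟨∑ k ∈ Finset.range (f.totalDegree + 1), homogeneousComponent k f * b ^ (N - k), ?_, ?_, ?_⟩
  · refine IsHomogeneous.sum _ _ _ fun k hk => ?_
    have := Finset.mem_range.1 hk
    convert (homogeneousComponent_isHomogeneous k f).mul (hb.pow (N - k)) using 1
    omega
  · suffices h : (∑ k ∈ Finset.range (f.totalDegree + 1), homogeneousComponent k f) -
        ∑ k ∈ Finset.range (f.totalDegree + 1), homogeneousComponent k f * b ^ (N - k) ∈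
        Ideal.span {b - 1} by
      rwa [f.sum_homogeneousComponent] at h
    rw [← Finset.sum_sub_distrib]
    refine sum_mem fun k _ => ?_
    have := Ideal.mul_mem_left _ (-homogeneousComponent k f) (hspan (N - k))
    convert this using 1
    ring
  · conv_lhs => rw [← f.sum_homogeneousComponent]
    rw [map_sum, map_sum, Finset.sum_div]
    refine Finset.sum_congr rfl fun k hk => ?_
    have := Finset.mem_range.1 hk
    rw [dehom_homog J b hbJ (homogeneousComponent_isHomogeneous k f), map_mul, map_pow]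
    rw [div_eq_div_iff (pow_ne_zero _ (toF_b_ne J b hbJ)) (pow_ne_zero _ (toF_b_ne J b hbJ))]
    rw [mul_assoc, ← pow_add, Nat.sub_add_cancel (by omega)]

include hb hbJ hJ in
theorem ker_dehom : RingHom.ker (dehom J b).toRingHom = J ⊔ Ideal.span {b - 1} := by
  classical
  apply le_antisymm
  · intro f hf
    obtain ⟨G, -, h1, h2⟩ := exists_homogenize J b hb hbJ f f.totalDegree le_rfl
    rw [show dehom J b f = 0 from hf, eq_comm, div_eq_zero_iff, toF_eq_zero] at h2
    have h3 : G ∈ J := h2.resolve_right (pow_ne_zero _ (toF_b_ne J b hbJ))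
    have := add_mem (Ideal.mem_sup_right h1 : f - G ∈ J ⊔ Ideal.span {b - 1}) (Ideal.mem_sup_left h3)
    simpa using this
  · refine sup_le (fun f hf => ?_) ((Ideal.span_singleton_le_iff_mem _).2 ?_)
    · change dehom J b f = 0
      rw [← f.sum_homogeneousComponent, map_sum]
      refine Finset.sum_eq_zero fun k _ => ?_
      rw [dehom_homog J b hbJ (homogeneousComponent_isHomogeneous k f),
        (toF_eq_zero J _).2 (hJ f hf k), zero_div]
    · change dehom J b (b - 1) = 0
      rw [map_sub, dehom_b J b hb hbJ, map_one, sub_self]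

include hb hbJ hJ in
theorem isPrime : (J ⊔ Ideal.span {b - 1}).IsPrime := by
  rw [← ker_dehom J b hb hbJ hJ]
  exact RingHom.ker_isPrime _

include hb hbJ hJ in
theorem mem_iff_of_homog {f : MvPolynomial σ K} {k : ℕ} (hf : f.IsHomogeneous k) :
    f ∈ J ⊔ Ideal.span {b - 1} ↔ f ∈ J := by
  rw [← ker_dehom J b hb hbJ hJ]
  change dehom J b f = 0 ↔ _
  rw [dehom_homog J b hbJ hf, div_eq_zero_iff, toF_eq_zero,
    or_iff_left (pow_ne_zero _ (toF_b_ne J b hbJ))]

theorem homogeneousComponent_mul_homog {G : MvPolynomial σ K} {k : ℕ} (hG : G.IsHomogeneous k)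
    (r : MvPolynomial σ K) (M : ℕ) :
    homogeneousComponent (M + k) (r * G) = homogeneousComponent M r * G := by
  classical
  conv_lhs => rw [← r.sum_homogeneousComponent, Finset.sum_mul, map_sum]
  rw [Finset.sum_congr rfl fun i _ =>
    homogeneousComponent_of_mem ((homogeneousComponent_isHomogeneous i r).mul hG)]
  rw [Finset.sum_eq_single M]
  · rw [if_pos rfl]
  · intro i _ hi
    rw [if_neg (by omega)]
  · intro hk
    rw [if_pos rfl, homogeneousComponent_eq_zero, zero_mul]
    simpa using hk

include hb hbJ hJ in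
theorem isIntegrallyClosed [IsIntegrallyClosed (MvPolynomial σ K ⧸ J)] :
    IsIntegrallyClosed (MvPolynomial σ K ⧸ (J ⊔ Ideal.span {b - 1})) := by
  classical
  haveI := isPrime J b hb hbJ hJ
  let Q := MvPolynomial σ K ⧸ (J ⊔ Ideal.span {b - 1})
  let R := MvPolynomial σ K ⧸ J
  let ε : Q →+* F J := Ideal.Quotient.lift _ (dehom J b).toRingHom fun f hf => by
    rw [← ker_dehom J b hb hbJ hJ] at hf; exact hf
  have hε : Function.Injective ε :=
    RingHom.lift_injective_of_ker_le_ideal _ _ (ker_dehom J b hb hbJ hJ).le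
  have hεmk : ∀ f, ε (Ideal.Quotient.mk _ f) = dehom J b f := fun f => rfl
  rw [isIntegrallyClosed_iff (FractionRing Q)]
  intro x hx
  let g : FractionRing Q →+* F J := IsFractionRing.lift hε
  have hg : ∀ q, g (algebraMap Q (FractionRing Q) q) = ε q := fun q => IsFractionRing.lift_algebraMap _ q
  obtain ⟨p, q, hq, hpq⟩ := IsFractionRing.div_surjective Q x
  obtain ⟨fp, rfl⟩ := Ideal.Quotient.mk_surjective p
  obtain ⟨fq, rfl⟩ := Ideal.Quotient.mk_surjective q
  obtain ⟨P0, hP0, -, hP0'⟩ := exists_homogenize J b hb hbJ fp (max fp.totalDegree fq.totalDegree) (le_max_left _ _)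
  obtain ⟨G, hG, -, hG'⟩ := exists_homogenize J b hb hbJ fq (max fp.totalDegree fq.totalDegree) (le_max_right _ _)
  set k := max fp.totalDegree fq.totalDegree with hk
  have hq0 : dehom J b fq ≠ 0 := fun h => nonZeroDivisors.ne_zero hq (hε (by rw [map_zero, hεmk]; exact h))
  have hG0 : toF J G ≠ 0 := fun h => hq0 (by rw [hG', h, zero_div])
  have hgx : g x = toF J P0 / toF J G := by
    rw [← hpq, map_div₀, hg, hg, hεmk, hεmk, hP0', hG', div_div_div_cancel_right₀]
    exact pow_ne_zero _ (toF_b_ne J b hbJ)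
  obtain ⟨P, hP, hPx⟩ := hx
  set n := P.natDegree with hn
  choose fc hfc using fun i : Fin n => Ideal.Quotient.mk_surjective (P.coeff i)
  let M := Finset.univ.sup fun i : Fin n => (fc i).totalDegree
  choose Gc hGc _ hGc' using fun i : Fin n => exists_homogenize J b hb hbJ (fc i) M
    (Finset.le_sup (f := fun i : Fin n => (fc i).totalDegree) (Finset.mem_univ i))
  -- the scaled element is integral over the cone
  let β := toF J b
  have hy : IsIntegral R (g x * β ^ M) := by
    let c : Fin n → R := fun i => Ideal.Quotient.mk J (Gc i * b ^ (M * (n - i.val) - M))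
    refine ⟨Polynomial.X ^ n + ∑ i : Fin n, Polynomial.C (c i) * Polynomial.X ^ i.val,
      Polynomial.monic_X_pow_add (Polynomial.degree_sum_fin_lt c), ?_⟩
    have hc : ∀ i : Fin n, algebraMap R (F J) (c i) = dehom J b (fc i) * β ^ (M * (n - i.val)) := by
      intro i
      have h1 : 1 ≤ n - i.val := by have := i.isLt; omega
      have h2 : M ≤ M * (n - i.val) := Nat.le_mul_of_pos_right _ h1
      change toF J (Gc i * b ^ (M * (n - i.val) - M)) = _
      rw [map_mul, map_pow, hGc', div_mul_eq_mul_div, eq_div_iff (pow_ne_zero _ (toF_b_ne J b hbJ)),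
        mul_assoc, ← pow_add, Nat.sub_add_cancel h2]
    have h0 := congrArg g hPx
    rw [map_zero, Polynomial.hom_eval₂, Polynomial.eval₂_eq_sum_range, ← hn, Finset.sum_range_succ,
      hn, hP.coeff_natDegree, ← hn, map_one, one_mul] at h0
    rw [Polynomial.eval₂_add, Polynomial.eval₂_X_pow, Polynomial.eval₂_finset_sum]
    have h1 := congrArg (fun z => z * β ^ (M * n)) h0
    simp only [zero_mul, add_mul, Finset.sum_mul] at h1
    refine Eq.trans ?_ h1
    rw [add_comm, Finset.sum_range, mul_pow, ← pow_mul]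
    congr 1
    refine Finset.sum_congr rfl fun i _ => ?_
    rw [Polynomial.eval₂_mul, Polynomial.eval₂_C, Polynomial.eval₂_X_pow, hc, RingHom.comp_apply, hg,
      ← hfc, hεmk]
    rw [show M * n = M * (n - i.val) + M * i.val by rw [← mul_add, Nat.sub_add_cancel i.isLt.le],
      pow_add, mul_pow, ← pow_mul]
    ring
  obtain ⟨r, hr⟩ := IsIntegrallyClosed.isIntegral_iff.1 hy
  obtain ⟨r, rfl⟩ := Ideal.Quotient.mk_surjective r
  change toF J r = _ at hr
  rw [hgx] at hr
  have hmem : r * G - P0 * b ^ M ∈ J := by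
    rw [← toF_eq_zero, map_sub, map_mul, map_mul, map_pow, hr]
    field_simp
    ring
  have hcomp := hJ _ hmem (M + k)
  have hPb : (P0 * b ^ M).IsHomogeneous (M + k) := by
    convert hP0.mul (hb.pow M) using 1; omega
  rw [map_sub, homogeneousComponent_mul_homog hG, homogeneousComponent_of_mem hPb, if_pos rfl,
    ← toF_eq_zero, map_sub, map_mul, map_mul, map_pow, sub_eq_zero] at hcomp
  refine ⟨Ideal.Quotient.mk _ (homogeneousComponent M r), g.injective ?_⟩
  rw [hg, hεmk, hgx, dehom_homog J b hbJ (homogeneousComponent_isHomogeneous M r),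
    div_eq_div_iff (pow_ne_zero _ (toF_b_ne J b hbJ)) hG0, hcomp]

end Groth.Agent.W4bk4.Dehom
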