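import Mathlib.Algebra.MvPolynomial.CommRing
import Mathlib.LinearAlgebra.Matrix.Determinant.Basic
import Mathlib.LinearAlgebra.LinearIndependent.Defs
import Mathlib.RingTheory.MvPolynomial.WeightedHomogeneous

/-!
# Leading monomials with respect to a weight
-/

set_option autoImplicit false

open MvPolynomial

universe u v

namespace Groth.Agent.W4bk4.Lead

variable {σ : Type v} {K : Type u} [CommRing K] (w : σ → ℕ)

/-- `f` has leading monomial `e` with coefficient `1`: every other monomial has smaller weight -/
def IsLead (f : MvPolynomial σ K) (e : σ →₀ ℕ) : Prop :=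
  f.coeff e = 1 ∧ ∀ x ∈ f.support, x = e ∨ Finsupp.weight w x < Finsupp.weight w e

variable {w}

theorem IsLead.weight_le {f : MvPolynomial σ K} {e : σ →₀ ℕ} (h : IsLead w f e) {x : σ →₀ ℕ}
    (hx : x ∈ f.support) : Finsupp.weight w x ≤ Finsupp.weight w e := by
  rcases h.2 x hx with rfl | h' <;> [exact le_rfl; exact h'.le]

theorem isLead_one : IsLead w (1 : MvPolynomial σ K) 0 := by
  classical
  refine ⟨by simp, fun x hx => Or.inl ?_⟩
  by_contra hne
  rw [mem_support_iff, coeff_one, if_neg (Ne.symm hne)] at hx
  exact hx rfl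

theorem IsLead.mul {f g : MvPolynomial σ K} {e e' : σ →₀ ℕ} (hf : IsLead w f e) (hg : IsLead w g e') :
    IsLead w (f * g) (e + e') := by
  classical
  constructor
  · rw [coeff_mul, Finset.sum_eq_single (e, e')]
    · simp [hf.1, hg.1]
    · rintro ⟨a, b⟩ hab hne
      rw [Finset.mem_antidiagonal] at hab
      simp only at hab
      by_contra hz
      have ha : a ∈ f.support := mem_support_iff.2 (left_ne_zero_of_mul hz)
      have hb : b ∈ g.support := mem_support_iff.2 (right_ne_zero_of_mul hz)
      have hw := congrArg (Finsupp.weight w) hab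
      rw [map_add, map_add] at hw
      rcases hf.2 a ha with rfl | h1
      · exact hne (Prod.ext rfl (add_left_cancel hab))
      · have := hg.weight_le hb
        omega
    · simp
  · intro x hx
    obtain ⟨a, ha, b, hb, rfl⟩ := Finset.mem_add.1 (support_mul f g hx)
    have h1 := hf.weight_le ha
    have h2 := hg.weight_le hb
    rcases hf.2 a ha with rfl | ha' <;> rcases hg.2 b hb with rfl | hb'
    · exact Or.inl rfl
    all_goals right; simp only [map_add]; omega

theorem isLead_prod {ι : Type*} (s : Finset ι) (f : ι → MvPolynomial σ K) (e : ι → σ →₀ ℕ)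
    (h : ∀ i ∈ s, IsLead w (f i) (e i)) : IsLead w (∏ i ∈ s, f i) (∑ i ∈ s, e i) := by
  classical
  induction s using Finset.induction_on with
  | empty => simpa using isLead_one
  | insert a s ha ih =>
    rw [Finset.prod_insert ha, Finset.sum_insert ha]
    exact (h a (Finset.mem_insert_self a s)).mul (ih fun i hi => h i (Finset.mem_insert_of_mem hi))

/-- polynomials with distinct leading monomials are linearly independent -/
theorem linearIndependent_of_isLead {ι : Type*} (f : ι → MvPolynomial σ K) (e : ι → σ →₀ ℕ)
    (h : ∀ i, IsLead w (f i) (e i)) (he : Function.Injective e) : LinearIndependent K f := by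
  classical
  rw [linearIndependent_iff']
  intro s a hsum i hi
  by_contra hne
  have hT : (s.filter fun j => a j ≠ 0).Nonempty := ⟨i, by simp [hi, hne]⟩
  obtain ⟨j, hj, hmax⟩ := Finset.exists_max_image _ (fun j => Finsupp.weight w (e j)) hT
  rw [Finset.mem_filter] at hj
  apply hj.2
  have hc := congrArg (coeff (e j)) hsum
  rw [coeff_sum, coeff_zero, Finset.sum_eq_single j] at hc
  · simpa [(h j).1] using hc
  · intro k hk hkj
    rw [coeff_smul]
    by_cases hak : a k = 0
    · simp [hak]
    · by_contra hz
      have hck : (f k).coeff (e j) ≠ 0 := fun h0 => hz (by simp [h0])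
      rcases (h k).2 _ (mem_support_iff.2 hck) with heq | hlt
      · exact hkj (he heq.symm)
      · have := hmax k (Finset.mem_filter.2 ⟨hk, hak⟩)
        omega
  · intro hj'; exact absurd hj.1 hj'

/-- leading monomial of a determinant of distinct variables (some entries zero) -/
theorem isLead_det {m : ℕ} (M : Matrix (Fin m) (Fin m) (MvPolynomial σ K))
    (var : Fin m → Fin m → σ) (p : Fin m → Fin m → Prop) [∀ s t, Decidable (p s t)]
    (hM : ∀ s t, M s t = if p s t then X (var s t) else 0) (hp : ∀ t, p t t)
    (hlt : ∀ π : Equiv.Perm (Fin m), π ≠ 1 → (∀ t, p (π t) t) →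
      ∑ t, w (var (π t) t) < ∑ t, w (var t t)) :
    IsLead w M.det (∑ t, Finsupp.single (var t t) 1) := by
  classical
  have hwt : ∀ π : Equiv.Perm (Fin m),
      Finsupp.weight w (∑ t, Finsupp.single (var (π t) t) 1) = ∑ t, w (var (π t) t) := by
    intro π
    simp [map_sum, Finsupp.weight_single]
  have hterm : ∀ π : Equiv.Perm (Fin m), (∏ t, M (π t) t) =
      if (∀ t, p (π t) t) then monomial (∑ t, Finsupp.single (var (π t) t) 1) (1 : K) else 0 := by
    intro π
    split
    · rename_i h
      rw [monomial_sum_one]
      exact Finset.prod_congr rfl fun t _ => by rw [hM, if_pos (h t)]; rfl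
    · rename_i h
      push Not at h
      obtain ⟨t, ht⟩ := h
      exact Finset.prod_eq_zero (Finset.mem_univ t) (by rw [hM, if_neg ht])
  have hcoeff : ∀ x, M.det.coeff x = ∑ π : Equiv.Perm (Fin m),
      (Equiv.Perm.sign π : ℤ) • coeff x (if (∀ t, p (π t) t) then
        monomial (∑ t, Finsupp.single (var (π t) t) 1) (1 : K) else 0) := by
    intro x
    rw [Matrix.det_apply, coeff_sum]
    refine Finset.sum_congr rfl fun π _ => ?_
    rw [hterm, Units.smul_def]
    exact map_zsmul (coeffAddMonoidHom x) _ _
  constructor
  · rw [hcoeff, Finset.sum_eq_single 1]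
    · simp [hp]
    · intro π _ hπ
      by_cases h : ∀ t, p (π t) t
      · rw [if_pos h, coeff_monomial, if_neg, smul_zero]
        intro he
        have := congrArg (Finsupp.weight w) he
        rw [hwt, show (∑ t, Finsupp.single (var t t) 1) =
          ∑ t, Finsupp.single (var ((1 : Equiv.Perm (Fin m)) t) t) 1 from rfl, hwt] at this
        exact (hlt π hπ h).ne this
      · rw [if_neg h, coeff_zero, smul_zero]
    · simp
  · intro x hx
    rw [mem_support_iff, hcoeff] at hx
    obtain ⟨π, -, hπ⟩ := Finset.exists_ne_zero_of_sum_ne_zero hx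
    by_cases h : ∀ t, p (π t) t
    swap
    · rw [if_neg h, coeff_zero, smul_zero] at hπ; exact absurd rfl hπ
    rw [if_pos h, coeff_monomial] at hπ
    by_cases hx' : ∑ t, Finsupp.single (var (π t) t) 1 = x
    swap
    · rw [if_neg hx', smul_zero] at hπ; exact absurd rfl hπ
    subst hx'
    by_cases h1 : π = 1
    · left; subst h1; rfl
    · right
      rw [hwt, show (∑ t, Finsupp.single (var t t) 1) =
        ∑ t, Finsupp.single (var ((1 : Equiv.Perm (Fin m)) t) t) 1 from rfl, hwt]
      exact hlt π h1 h

end Groth.Agent.W4bk4.Lead
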