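import Groth.Agent.W4bk4.Dehom
import Groth.Agent.W4bk4.Levels
import Groth.Agent.W4bk4.Bottom
import Groth.Agent.W4bk4.Cell

/-!
# The opposite big cell of a Schubert variety
-/

set_option autoImplicit false

open W4bk4grassmannian MvPolynomial Matrix

noncomputable section

universe u v

namespace Groth.Agent.W4bk4.Opp

variable {d n : ℕ} (K : Type u) [Field K] [IsAlgClosed K]

/-- the ideal of the opposite cell of `X(w)` in Plücker coordinates -/
def Q (hdn : d ≤ n) (w : Idx d n) : Ideal (PlRing K d n) :=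
  schubertVanishing K d n w ⊔ Ideal.span {X (Bottom.botIdx hdn) - 1}

theorem bot_notMem (hd : 0 < d) (hdn : d ≤ n) (w : Idx d n) :
    X (Bottom.botIdx hdn) ∉ schubertVanishing K d n w := by
  intro h
  rw [Basis.mem_schubertVanishing_iff K hd] at h
  have := (Schubert.isLead_phi_X K (Bottom.botIdx_le hdn w)).1
  rw [h, coeff_zero] at this
  exact zero_ne_one this

theorem Q_isPrime (hd : 0 < d) (hdn : d ≤ n) (w : Idx d n) : (Q K hdn w).IsPrime := by
  haveI := Schubert.schubertVanishing_isPrime K hd w
  exact Dehom.isPrime _ _ (isHomogeneous_X K _) (bot_notMem K hd hdn w) (Levels.isHomog_schubert K hd w)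

theorem Q_isDomain (hd : 0 < d) (hdn : d ≤ n) (w : Idx d n) : IsDomain (PlRing K d n ⧸ Q K hdn w) :=
  haveI := Q_isPrime K hd hdn w
  Ideal.Quotient.isDomain _

theorem Q_isIntegrallyClosed (hd : 0 < d) (hdn : d < n) (w : Idx d n) :
    IsIntegrallyClosed (PlRing K d n ⧸ Q K hdn.le w) := by
  haveI := Schubert.schubertVanishing_isPrime K hd w
  haveI := Cell.isIntegrallyClosed K w hd hdn
  exact Dehom.isIntegrallyClosed _ _ (isHomogeneous_X K _) (bot_notMem K hd hdn.le w)
    (Levels.isHomog_schubert K hd w)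

/-- a chain avoiding the bottom element -/
def NoBot (hdn : d ≤ n) (c : Basis.Chain d n) : Prop := ∀ k, c.2.1 k ≠ Bottom.botIdx hdn

/-- append one bottom element -/
def app (hdn : d ≤ n) (c : Basis.Chain d n) : Basis.Chain d n :=
  ⟨c.1 + 1, Fin.snoc c.2.1 (Bottom.botIdx hdn), by
    intro a b hab
    induction b using Fin.lastCases with
    | last => rw [Fin.snoc_last]; exact Bottom.botIdx_le hdn _
    | cast b =>
      induction a using Fin.lastCases with
      | last => exact absurd hab (not_le.2 (Fin.castSucc_lt_last b))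
      | cast a =>
        simp only [Fin.snoc_castSucc]
        exact c.2.2 (Fin.castSucc_le_castSucc_iff.1 hab)⟩

theorem mon_app (hdn : d ≤ n) (c : Basis.Chain d n) :
    Basis.mon K (app hdn c) = Basis.mon K c * X (Bottom.botIdx hdn) := by
  obtain ⟨m, f, hf⟩ := c
  have h := Fin.prod_univ_castSucc
    (fun k : Fin (m + 1) => (X ((Fin.snoc f (Bottom.botIdx hdn) : Fin (m + 1) → Idx d n) k) : PlRing K d n))
  simp only [Fin.snoc_castSucc, Fin.snoc_last] at h
  exact h

theorem app_below (hdn : d ≤ n) {w : Idx d n} {c : Basis.Chain d n} (h : Basis.Below' w c) :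
    Basis.Below' w (app hdn c) := by
  obtain ⟨m, f, hf⟩ := c
  change ∀ k : Fin (m + 1), (Fin.snoc f (Bottom.botIdx hdn) : Fin (m + 1) → Idx d n) k ≤ w
  intro k
  induction k using Fin.lastCases with
  | last => rw [Fin.snoc_last]; exact Bottom.botIdx_le hdn w
  | cast k => rw [Fin.snoc_castSucc]; exact h k

theorem not_noBot_app (hdn : d ≤ n) (c : Basis.Chain d n) : ¬ NoBot hdn (app hdn c) := by
  obtain ⟨m, f, hf⟩ := c
  intro h
  exact h (Fin.last m) (Fin.snoc_last (α := fun _ => Idx d n) _ _)

theorem app_injective (hdn : d ≤ n) : Function.Injective (app (d := d) (n := n) hdn) := by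
  rintro ⟨m, f, hf⟩ ⟨m', f', hf'⟩ hxy
  simp only [app, Sigma.mk.injEq, Nat.add_right_cancel_iff] at hxy
  obtain ⟨rfl, h⟩ := hxy
  have h2 := congrArg Subtype.val (eq_of_heq h)
  obtain ⟨rfl, -⟩ := Fin.snoc_injective2 (α := fun _ => Idx d n) h2
  rfl

/-- append bottom elements -/
def pad (hdn : d ≤ n) (j : ℕ) (c : Basis.Chain d n) : Basis.Chain d n := (app hdn)^[j] c

theorem mon_pad (hdn : d ≤ n) (j : ℕ) (c : Basis.Chain d n) :
    Basis.mon K (pad hdn j c) = Basis.mon K c * X (Bottom.botIdx hdn) ^ j := by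
  induction j with
  | zero => simp [pad]
  | succ j ih =>
    rw [pad, Function.iterate_succ_apply', mon_app, ← pad, ih, pow_succ, mul_assoc]

theorem pad_below (hdn : d ≤ n) (j : ℕ) {w : Idx d n} {c : Basis.Chain d n} (h : Basis.Below' w c) :
    Basis.Below' w (pad hdn j c) := by
  induction j with
  | zero => exact h
  | succ j ih => rw [pad, Function.iterate_succ_apply']; exact app_below hdn ih

theorem pad_inj (hdn : d ≤ n) : ∀ (j j' : ℕ) (c c' : Basis.Chain d n), NoBot hdn c → NoBot hdn c' →
    pad hdn j c = pad hdn j' c' → c = c' := by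
  intro j
  induction j with
  | zero =>
    intro j' c c' hc _ h
    cases j' with
    | zero => exact h
    | succ j' =>
      rw [pad, pad, Function.iterate_zero_apply, Function.iterate_succ_apply'] at h
      exact absurd (h ▸ hc) (not_noBot_app hdn _)
  | succ j ih =>
    intro j' c c' hc hc' h
    cases j' with
    | zero =>
      rw [pad, pad, Function.iterate_zero_apply, Function.iterate_succ_apply'] at h
      exact absurd (h.symm ▸ hc') (not_noBot_app hdn _)
    | succ j' =>
      rw [pad, pad, Function.iterate_succ_apply', Function.iterate_succ_apply'] at h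
      exact ih j' c c' hc hc' (app_injective hdn h)

theorem indep (hd : 0 < d) (hdn : d ≤ n) (w : Idx d n) (l : Basis.Chain d n →₀ K)
    (hl : ∀ c, l c ≠ 0 → NoBot hdn c ∧ Basis.Below' w c)
    (h : Finsupp.linearCombination K (Basis.mon K) l ∈ Q K hdn w) : l = 0 := by
  classical
  haveI := Schubert.schubertVanishing_isPrime K hd w
  set b : PlRing K d n := X (Bottom.botIdx hdn) with hb
  let M := l.support.sup fun c => c.1
  have hM : ∀ c ∈ l.support, c.1 ≤ M := fun c hc => Finset.le_sup (f := fun c => c.1) hc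
  let P : Basis.Chain d n → Basis.Chain d n := fun c => pad hdn (M - c.1) c
  let L : Basis.Chain d n →₀ K := Finsupp.mapDomain P l
  have hF : (Finsupp.linearCombination K (Basis.mon K) L).IsHomogeneous M := by
    rw [Finsupp.linearCombination_mapDomain, Finsupp.linearCombination_apply]
    refine IsHomogeneous.sum _ _ _ fun c hc => ?_
    simp only [Function.comp_apply, P, smul_eq_C_mul]
    refine IsHomogeneous.C_mul ?_ _
    rw [mon_pad]
    have h1 : (Basis.mon K c).IsHomogeneous (∑ _k : Fin c.1, 1) :=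
      IsHomogeneous.prod _ _ _ fun k _ => isHomogeneous_X K _
    convert IsHomogeneous.mul h1 ((isHomogeneous_X K (Bottom.botIdx hdn)).pow (M - c.1)) using 1
    have := hM c hc
    simp
    omega
  have hQ : Finsupp.linearCombination K (Basis.mon K) L ∈ Q K hdn w := by
    have h2 : Finsupp.linearCombination K (Basis.mon K) L -
        Finsupp.linearCombination K (Basis.mon K) l ∈ Q K hdn w := by
      rw [Finsupp.linearCombination_mapDomain, Finsupp.linearCombination_apply,
        Finsupp.linearCombination_apply, Finsupp.sum, Finsupp.sum, ← Finset.sum_sub_distrib]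
      refine sum_mem fun c _ => ?_
      simp only [Function.comp_apply, P]
      rw [mon_pad, ← smul_sub, smul_eq_C_mul]
      refine Ideal.mul_mem_left _ _ (Ideal.mem_sup_right ?_)
      rw [Ideal.mem_span_singleton]
      refine dvd_trans (sub_one_dvd_pow_sub_one b (M - c.1)) ⟨Basis.mon K c, ?_⟩
      ring
    simpa using add_mem h2 h
  have hFJ : Finsupp.linearCombination K (Basis.mon K) L ∈ schubertVanishing K d n w :=
    (Dehom.mem_iff_of_homog _ _ (isHomogeneous_X K _) (bot_notMem K hd hdn w)
      (Levels.isHomog_schubert K hd w) hF).1 hQ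
  have h0 := (Basis.schubert_iff_repr K hd w (zero_mem _) (zero_add _).symm).1 hFJ
  ext c
  by_contra hc
  obtain ⟨h1, h2⟩ := hl c hc
  have h3 := h0 (P c) (pad_below hdn _ h2)
  have h4 : L (P c) = l c := by
    simp only [L, Finsupp.mapDomain]
    rw [Finsupp.sum_apply, Finsupp.sum, Finset.sum_eq_single c]
    · exact Finsupp.single_eq_same
    · intro c' hc' hne
      refine Finsupp.single_eq_of_ne fun he => hne (pad_inj hdn _ _ _ _ (hl c' ?_).1 h1 he.symm)
      exact Finsupp.mem_support_iff.1 hc'
    · intro h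
      simp at h
      simp [h]
  exact hc (h4 ▸ h3)

theorem mon_mem_span (hdn : d ≤ n) (w : Idx d n) (hd : 0 < d) :
    ∀ (m : ℕ) (c : Fin m → Idx d n) (hc : Antitone c),
      Ideal.Quotient.mkₐ K (Q K hdn w) (Basis.mon K ⟨m, c, hc⟩) ∈
        Submodule.span K (Set.range fun x : {x : Basis.Chain d n // NoBot hdn x ∧ Basis.Below' w x} =>
          Ideal.Quotient.mkₐ K (Q K hdn w) (Basis.mon K x.1)) := by
  intro m
  induction m with
  | zero => intro c hc; exact Submodule.subset_span ⟨⟨⟨0, c, hc⟩, fun k => k.elim0, fun k => k.elim0⟩, rfl⟩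
  | succ m ih =>
    intro c hc
    by_cases hw : Basis.Below' w ⟨m + 1, c, hc⟩
    swap
    · have : Ideal.Quotient.mkₐ K (Q K hdn w) (Basis.mon K ⟨m + 1, c, hc⟩) = 0 :=
        Ideal.Quotient.eq_zero_iff_mem.2 (Ideal.mem_sup_left (Basis.mon_mem_of_not_below K hd hw))
      rw [this]; exact zero_mem _
    by_cases hbot : c (Fin.last m) = Bottom.botIdx hdn
    · have h : Ideal.Quotient.mkₐ K (Q K hdn w) (Basis.mon K ⟨m + 1, c, hc⟩) =
          Ideal.Quotient.mkₐ K (Q K hdn w) (Basis.mon K ⟨m, c ∘ Fin.castSucc,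
            hc.comp_monotone Fin.strictMono_castSucc.monotone⟩) := by
        simp only [Basis.mon, chainMon, Function.comp_apply]
        rw [Fin.prod_univ_castSucc, hbot, map_mul]
        have : Ideal.Quotient.mkₐ K (Q K hdn w) (X (Bottom.botIdx hdn)) = 1 := by
          rw [← map_one (Ideal.Quotient.mkₐ K (Q K hdn w)), Ideal.Quotient.mkₐ_eq_mk, Ideal.Quotient.eq]
          exact Ideal.mem_sup_right (Ideal.mem_span_singleton_self _)
        rw [this, mul_one]
      rw [h]
      exact ih _ _
    · refine Submodule.subset_span ⟨⟨⟨m + 1, c, hc⟩, fun k hk => hbot ?_, hw⟩, rfl⟩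
      exact le_antisymm ((hc (Fin.le_last k)).trans_eq hk) (Bottom.botIdx_le hdn _)

theorem spanning (hd : 0 < d) (hdn : d ≤ n) (w : Idx d n) :
    Submodule.span K (Set.range fun x : {x : Basis.Chain d n // NoBot hdn x ∧ Basis.Below' w x} =>
      Ideal.Quotient.mkₐ K (Q K hdn w) (Basis.mon K x.1)) = ⊤ := by
  classical
  refine eq_top_iff.2 fun z _ => ?_
  obtain ⟨f, rfl⟩ := Ideal.Quotient.mkₐ_surjective K (Q K hdn w) z
  obtain ⟨l, g, hg, rfl⟩ := Basis.exists_repr K f
  rw [map_add, show Ideal.Quotient.mkₐ K (Q K hdn w) g = 0 from Ideal.Quotient.eq_zero_iff_mem.2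
    (Ideal.mem_sup_left (Basis.plIdealTop_le K hd w hg)), zero_add,
    Finsupp.linearCombination_apply, map_finsuppSum]
  refine sum_mem fun c _ => ?_
  simp only [map_smul]
  exact Submodule.smul_mem _ _ (mon_mem_span K hdn w hd c.1 c.2.1 c.2.2)

/-- Cohen-Macaulayness and dimension of a ring isomorphic to the opposite cell -/
theorem cm_dim (hd : 0 < d) (hdn : d < n) (w : Idx d n) {B : Type u} [CommRing B]
    (e : (PlRing K d n ⧸ Q K hdn.le w) ≃+* B) :
    LocCoh.IsCohenMacaulayRing B ∧ ringKrullDim B = ((codeg w : ℕ) : WithBot ℕ∞) := by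
  classical
  set N := codeg w with hN
  set J := schubertVanishing K d n w with hJ
  haveI := Schubert.schubertVanishing_isPrime K hd w
  haveI := Q_isPrime K hd hdn.le w
  have hhigh : ∀ k, N < k → Levels.lev K d n k ∈ J := fun k hk => Levels.lev_mem_of_lt K hd hk
  have hwreg : WReg.WReg (A := PlRing K d n) (Levels.levList K d n N) J :=
    (Levels.wreg_levList K hd hdn w).1
  have hrad : ∀ φ, (X φ : PlRing K d n) ∈
      (J ⊔ Ideal.span (Set.range (Levels.levTuple K d n N))).radical :=
    fun φ => Levels.X_mem_radical ((Basis.plIdealTop_le K hd w).trans le_sup_left) (fun k => by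
      by_cases hk : N < k
      · exact Ideal.mem_sup_left (hhigh k hk)
      · refine Ideal.mem_sup_right (Ideal.subset_span ⟨⟨N - k, by omega⟩, ?_⟩)
        change Levels.lev K d n (N - (N - k)) = Levels.lev K d n k
        rw [Nat.sub_sub_self (not_lt.1 hk)]) φ
  obtain ⟨hfree, hfin⟩ := FreeGraded.free_finite K (Levels.levTuple K d n N) J
    (fun i => Levels.lev_isHomogeneous K _) (Levels.isHomog_schubert K hd w)
    (by rw [Levels.ofFn_levTuple]; exact hwreg) hrad
  letI := FreeGraded.algQ K (Levels.levTuple K d n N) J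
  let A := MvPolynomial (Fin (N + 1)) K
  let A' := MvPolynomial (Fin N) K
  let ι : A' →ₐ[K] A := rename Fin.castSucc
  let ρ : A →ₐ[K] A' := aeval (Fin.lastCases (1 : A') fun i => X i)
  have hρlast : ρ (X (Fin.last N)) = 1 := by
    change aeval _ (X (Fin.last N)) = _
    rw [aeval_X, Fin.lastCases_last]
  have hρcast : ∀ i : Fin N, ρ (X i.castSucc) = X i := by
    intro i
    change aeval _ (X i.castSucc) = _
    rw [aeval_X, Fin.lastCases_castSucc]
  have hρι : ∀ a, ρ (ι a) = a := by
    intro a
    refine AlgHom.congr_fun (φ₁ := ρ.comp ι) (φ₂ := AlgHom.id K A') ?_ a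
    refine MvPolynomial.algHom_ext fun i => ?_
    change ρ (ι (X i)) = X i
    rw [show ι (X i) = X i.castSucc from rename_X _ _, hρcast]
  have hlev : Levels.levTuple K d n N (Fin.last N) = X (Bottom.botIdx hdn.le) := by
    rw [Levels.levTuple, Fin.val_last, Nat.sub_self, Levels.lev]
    rw [Finset.sum_eq_single (Bottom.botIdx hdn.le)]
    · intro φ hφ hne
      exfalso
      refine hne (Straighten.eq_of_le_of_codeg (Bottom.botIdx_le hdn.le φ) ?_).symm
      rw [(Finset.mem_filter.1 hφ).2]; exact Nat.zero_le _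
    · intro h
      exfalso
      refine h (Finset.mem_filter.2 ⟨Finset.mem_univ _, Finset.sum_eq_zero fun t _ => ?_⟩)
      simp [Bottom.botIdx]
  let π : (PlRing K d n ⧸ J) →+* (PlRing K d n ⧸ Q K hdn.le w) :=
    Ideal.Quotient.factor le_sup_left
  have hπmk : ∀ x, π (Ideal.Quotient.mk J x) = Ideal.Quotient.mk _ x := fun x => rfl
  have hπb : π (algebraMap A _ (X (Fin.last N))) = 1 := by
    change π (Ideal.Quotient.mk J (aeval (Levels.levTuple K d n N) (X (Fin.last N)))) = 1
    rw [aeval_X, hlev, hπmk, ← map_one (Ideal.Quotient.mk _), Ideal.Quotient.eq]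
    exact Ideal.mem_sup_right (Ideal.mem_span_singleton_self _)
  have hπ : ∀ a : A, π (algebraMap A _ a) = π (algebraMap A _ (ι (ρ a))) := by
    intro a
    refine RingHom.congr_fun (f := π.comp (algebraMap A _))
      (g := (π.comp (algebraMap A _)).comp ((ι.comp ρ).toRingHom)) ?_ a
    refine MvPolynomial.ringHom_ext (fun c => by simp [ρ, ι]) fun i => ?_
    induction i using Fin.lastCases with
    | last =>
      change π (algebraMap A _ (X (Fin.last N))) = π (algebraMap A _ (ι (ρ (X (Fin.last N)))))
      rw [hρlast, map_one, map_one, map_one, hπb]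
    | cast i =>
      change π (algebraMap A _ (X i.castSucc)) = π (algebraMap A _ (ι (ρ (X i.castSucc))))
      rw [hρcast, show ι (X i) = X i.castSucc from rename_X _ _]
  let α : A' →+* B := (e.toRingHom.comp π).comp ((algebraMap A _).comp ι.toRingHom)
  letI : Algebra A' B := α.toAlgebra
  obtain ⟨κ, bas⟩ := hfree.exists_basis
  haveI := hfin
  haveI : Fintype κ := @Fintype.ofFinite _ (Module.Finite.finite_basis bas)
  let v : κ → B := fun k => e (π (bas k))
  have hsmul : ∀ (a : A') (x : PlRing K d n ⧸ J), a • e (π x) = e (π (ι a • x)) := by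
    intro a x
    rw [Algebra.smul_def, Algebra.smul_def, map_mul, map_mul]
    rfl
  have hspan : ⊤ ≤ Submodule.span A' (Set.range v) := by
    intro y _
    obtain ⟨z, rfl⟩ := e.surjective y
    obtain ⟨x, rfl⟩ := Ideal.Quotient.factor_surjective le_sup_left z
    rw [← bas.sum_repr x, map_sum, map_sum]
    refine sum_mem fun k _ => ?_
    have : e (π (bas.repr x k • bas k)) = ρ (bas.repr x k) • v k := by
      rw [hsmul, Algebra.smul_def, Algebra.smul_def, map_mul, map_mul, hπ]
      simp only [map_mul]
    rw [this]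
    exact Submodule.smul_mem _ _ (Submodule.subset_span ⟨k, rfl⟩)
  have hli : LinearIndependent A' v := by
    rw [Fintype.linearIndependent_iff]
    intro g hg k
    simp only [v, hsmul, ← map_sum] at hg
    rw [map_eq_zero_iff e e.injective] at hg
    obtain ⟨x, hx⟩ := Ideal.Quotient.mk_surjective (∑ k, ι (g k) • bas k)
    rw [← hx, hπmk, Ideal.Quotient.eq_zero_iff_mem] at hg
    obtain ⟨p, hp, q, hq, rfl⟩ := Submodule.mem_sup.1 hg
    obtain ⟨y, rfl⟩ := Ideal.mem_span_singleton'.1 hq
    have hx2 : (∑ k, ι (g k) • bas k) = (X (Fin.last N) - 1 : A) • Ideal.Quotient.mk J y := by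
      rw [← hx, map_add, Ideal.Quotient.eq_zero_iff_mem.2 hp, zero_add, Algebra.smul_def, map_sub,
        map_one]
      change _ = (Ideal.Quotient.mk J (aeval (Levels.levTuple K d n N) (X (Fin.last N))) - 1) * _
      rw [aeval_X, hlev, map_mul, map_sub, map_one, mul_comm]
    have h2 := congrArg (fun z => ρ (bas.repr z k)) hx2
    simp only [bas.repr_sum_self, map_smul, Finsupp.smul_apply, smul_eq_mul, map_mul, map_sub,
      map_one, hρι] at h2
    rw [hρlast, sub_self, zero_mul] at h2
    exact h2
  let bB : Module.Basis κ A' B := Module.Basis.mk hli hspan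
  haveI : Module.Free A' B := Module.Free.of_basis bB
  haveI : Module.Finite A' B := Module.Finite.of_basis bB
  haveI : IsRegularRing A' := inferInstance
  haveI : IsNoetherianRing B := isNoetherianRing_of_surjective _ B e.toRingHom e.surjective
  haveI : Nontrivial B := e.injective.nontrivial
  refine ⟨FiniteFreeCM.isCohenMacaulayRing A' B, ?_⟩
  rw [FiniteFreeCM.ringKrullDim_eq A' B, MvPolynomial.ringKrullDim_of_isNoetherianRing,
    ringKrullDim_eq_zero_of_field]
  simp

end Groth.Agent.W4bk4.Opp
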