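import Groth.Agent.W4bk4.Straighten
import Groth.Agent.W4bk4.Lead
import Mathlib.Algebra.Order.Rearrangement
import Mathlib.Algebra.MvPolynomial.Funext

/-!
# The echelon parametrisation of Schubert varieties; standard monomial bases
-/

set_option autoImplicit false

open W4bk4grassmannian MvPolynomial Matrix

noncomputable section

universe u v

namespace Groth.Agent.W4bk4.Schubert

variable {d n : ℕ}

/-- the top index `(n-d, …, n-1)` -/
def topIdx (hdn : d ≤ n) : Idx d n :=
  ⟨fun t => ⟨n - d + t.val, by have := t.isLt; omega⟩, fun a b h => by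
    have : a.val < b.val := h
    exact Fin.mk_lt_mk.2 (by omega)⟩

theorem le_topIdx (hdn : d ≤ n) (θ : Idx d n) : θ ≤ topIdx hdn := by
  intro t
  change (θ.1 t).val ≤ n - d + t.val
  suffices h : ∀ k : ℕ, ∀ t : Fin d, t.val + k + 1 = d → (θ.1 t).val + k + 1 ≤ n by
    have := h (d - t.val - 1) t (by have := t.isLt; omega)
    have := t.isLt
    omega
  intro k
  induction k with
  | zero => intro t _; have := (θ.1 t).isLt; omega
  | succ k ih =>
    intro t ht
    have h1 : (θ.1 t).val < (θ.1 ⟨t.val + 1, by omega⟩).val := θ.2 (Fin.lt_def.2 (Nat.lt_succ_self _))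
    have := ih ⟨t.val + 1, by omega⟩ (by simp; omega)
    omega

variable (K : Type u) [CommRing K]

/-- the generic matrix in echelon position for `τ`: column `t` lives in the rows `≤ τ t` -/
def genE (τ : Idx d n) : Matrix (Fin n) (Fin d) (MatRing K d n) :=
  Matrix.of fun i t => if i ≤ τ.1 t then X (i, t) else 0

/-- Plücker coordinates of the echelon matrix -/
def phi (τ : Idx d n) : PlRing K d n →ₐ[K] MatRing K d n :=
  MvPolynomial.aeval fun θ : Idx d n => ((genE K τ).submatrix θ.1 id).det

theorem det_eq_zero_of_not_le {S : Type v} [CommRing S] {τ θ : Idx d n}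
    (M : Matrix (Fin n) (Fin d) S) (hM : ∀ i t, τ.1 t < i → M i t = 0) (h : ¬ θ ≤ τ) :
    (M.submatrix θ.1 id).det = 0 := by
  classical
  obtain ⟨t₀, ht₀⟩ : ∃ t₀, τ.1 t₀ < θ.1 t₀ := by
    by_contra hc
    push Not at hc
    exact h hc
  rw [Matrix.det_apply]
  refine Finset.sum_eq_zero fun π _ => ?_
  obtain ⟨t, ht, hπ⟩ : ∃ t, t ≤ t₀ ∧ t₀ ≤ π t := by
    by_contra hc
    push Not at hc
    have hsub : (Finset.Iic t₀).image π ⊆ Finset.Iio t₀ := by
      intro x hx
      obtain ⟨t, ht, rfl⟩ := Finset.mem_image.1 hx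
      exact Finset.mem_Iio.2 (hc t (Finset.mem_Iic.1 ht))
    have := Finset.card_le_card hsub
    rw [Finset.card_image_of_injective _ π.injective, Fin.card_Iic, Fin.card_Iio] at this
    omega
  rw [Finset.prod_eq_zero (Finset.mem_univ t), smul_zero]
  exact hM _ _ (lt_of_le_of_lt (τ.2.monotone ht) (lt_of_lt_of_le ht₀ (θ.2.monotone hπ)))

theorem phi_X_eq_zero {τ θ : Idx d n} (h : ¬ θ ≤ τ) : phi K τ (X θ) = 0 := by
  rw [phi, aeval_X]
  exact det_eq_zero_of_not_le (genE K τ) (fun i t hlt => by simp [genE, not_le.2 hlt]) h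

theorem plIdeal_le_ker (τ : Idx d n) : plIdeal K τ ≤ RingHom.ker (phi K τ).toRingHom := by
  rw [plIdeal, Ideal.span_le]
  rintro f (⟨i, j, r, -, rfl⟩ | ⟨φ, hφ, rfl⟩)
  · exact Shuffle.aeval_shuffleRel (genE K τ) i j r
  · exact phi_X_eq_zero K hφ

/-- weight on the entries of a matrix: `(i, t) ↦ i * t` -/
def wt (p : Fin n × Fin d) : ℕ := p.1.val * p.2.val

/-- exponent of the diagonal term of the minor `θ` -/
def diag (θ : Idx d n) : (Fin n × Fin d) →₀ ℕ := ∑ t, Finsupp.single (θ.1 t, t) 1

theorem diag_weight_lt (θ : Idx d n) (π : Equiv.Perm (Fin d)) (hπ : π ≠ 1) :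
    ∑ t, (θ.1 (π t)).val * t.val < ∑ t, (θ.1 t).val * t.val := by
  have hmv : Monovary (fun t : Fin d => (θ.1 t).val) (fun t : Fin d => t.val) := by
    intro i j hij
    exact Fin.le_def.1 (θ.2.monotone (Fin.le_def.2 hij.le))
  have := (hmv.sum_comp_perm_smul_lt_sum_smul_iff (σ := π)).2 ?_
  · simpa [smul_eq_mul] using this
  · intro hmv'
    apply hπ
    have hm : Monotone π := by
      intro a b hab
      rcases eq_or_lt_of_le hab with rfl | hlt
      · exact le_rfl
      · have := hmv' (show (fun t : Fin d => t.val) a < (fun t : Fin d => t.val) b from hlt)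
        exact θ.2.le_iff_le.1 (Fin.le_def.2 this)
    have hs : StrictMono π := hm.strictMono_of_injective π.injective
    refine Equiv.ext fun x => congrFun ((hs.range_inj strictMono_id).1 ?_) x
    rw [Set.range_id]
    exact π.surjective.range_eq

theorem isLead_phi_X {τ θ : Idx d n} (h : θ ≤ τ) :
    Lead.IsLead (wt (n := n) (d := d)) (phi K τ (X θ)) (diag θ) := by
  rw [phi, aeval_X]
  refine Lead.isLead_det _ (fun s t => (θ.1 s, t)) (fun s t => θ.1 s ≤ τ.1 t) ?_ (fun t => h t) ?_
  · intro s t; simp [genE]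
  · intro π hπ _
    exact diag_weight_lt θ π hπ

/-- exponent of the diagonal term of a monomial -/
def chainDiag {m : ℕ} (c : Fin m → Idx d n) : (Fin n × Fin d) →₀ ℕ := ∑ k, diag (c k)

theorem isLead_phi_chain {τ : Idx d n} {m : ℕ} (c : Fin m → Idx d n) (h : ∀ k, c k ≤ τ) :
    Lead.IsLead (wt (n := n) (d := d)) (phi K τ (chainMon K c)) (chainDiag c) := by
  rw [chainMon, map_prod]
  exact Lead.isLead_prod _ _ _ fun k _ => isLead_phi_X K (h k)

theorem phi_chain_eq_zero {τ : Idx d n} {m : ℕ} (c : Fin m → Idx d n) (k : Fin m) (h : ¬ c k ≤ τ) :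
    phi K τ (chainMon K c) = 0 := by
  rw [chainMon, map_prod]
  exact Finset.prod_eq_zero (Finset.mem_univ k) (phi_X_eq_zero K h)

theorem chainDiag_apply {m : ℕ} (c : Fin m → Idx d n) (i : Fin n) (t : Fin d) :
    chainDiag c (i, t) = (Finset.univ.filter fun k => (c k).1 t = i).card := by
  classical
  simp only [chainDiag, diag, Finsupp.coe_finset_sum, Finset.sum_apply, Finset.card_filter]
  refine Finset.sum_congr rfl fun k _ => ?_
  rw [Finset.sum_eq_single t]
  · simp [Finsupp.single_apply]
  · intro s _ hs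
    simp [Finsupp.single_apply, hs]
  · simp

theorem antitone_ext {N m : ℕ} (f g : Fin m → Fin N) (hf : Antitone f) (hg : Antitone g)
    (h : ∀ i, (Finset.univ.filter fun k => f k = i).card = (Finset.univ.filter fun k => g k = i).card) :
    f = g := by
  classical
  have key : ∀ (f : Fin m → Fin N), Antitone f → ∀ (k : Fin m) (i : Fin N),
      i ≤ f k ↔ k.val < (Finset.univ.filter fun x => i ≤ f x).card := by
    intro f hf k i
    constructor
    · intro hik
      have : Finset.Iic k ⊆ Finset.univ.filter fun x => i ≤ f x := fun x hx =>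
        Finset.mem_filter.2 ⟨Finset.mem_univ x, hik.trans (hf (Finset.mem_Iic.1 hx))⟩
      have := Finset.card_le_card this
      rw [Fin.card_Iic] at this
      omega
    · intro hlt
      by_contra hik
      have : (Finset.univ.filter fun x => i ≤ f x) ⊆ Finset.Iio k := fun x hx => by
        rw [Finset.mem_Iio]
        by_contra hkx
        exact hik ((Finset.mem_filter.1 hx).2.trans (hf (le_of_not_gt hkx)))
      have := Finset.card_le_card this
      rw [Fin.card_Iio] at this
      omega
  have hge : ∀ i, (Finset.univ.filter fun x => i ≤ f x).card =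
      (Finset.univ.filter fun x => i ≤ g x).card := by
    intro i
    have : ∀ (f : Fin m → Fin N), (Finset.univ.filter fun x => i ≤ f x).card =
        ∑ j ∈ Finset.Ici i, (Finset.univ.filter fun x => f x = j).card := by
      intro f
      rw [Finset.card_eq_sum_card_fiberwise (f := f) (t := Finset.Ici i)]
      · refine Finset.sum_congr rfl fun j hj => congrArg Finset.card ?_
        ext x
        simp only [Finset.mem_filter, Finset.mem_univ, true_and]
        exact ⟨fun h => h.2, fun h => ⟨h ▸ Finset.mem_Ici.1 hj, h⟩⟩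
      · intro x hx
        simpa using hx
    rw [this f, this g]
    exact Finset.sum_congr rfl fun j _ => h j
  funext k
  apply le_antisymm
  · rw [key g hg, ← hge, ← key f hf]
  · rw [key f hf, hge, ← key g hg]

theorem chainDiag_injective (hd : 0 < d) :
    Function.Injective fun c : (Σ m : ℕ, {c : Fin m → Idx d n // Antitone c}) => chainDiag c.2.1 := by
  classical
  rintro ⟨m, c, hc⟩ ⟨m', c', hc'⟩ h
  simp only at h
  have hcard : ∀ {m : ℕ} (c : Fin m → Idx d n), ∑ i, chainDiag c (i, (⟨0, hd⟩ : Fin d)) = m := by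
    intro m c
    simp only [chainDiag_apply]
    rw [← Finset.card_eq_sum_card_fiberwise (f := fun k => (c k).1 ⟨0, hd⟩) (t := Finset.univ)
      (fun _ _ => Finset.mem_univ _), Finset.card_univ, Fintype.card_fin]
  obtain rfl : m = m' := by rw [← hcard c, h, hcard c']
  have : c = c' := by
    funext k
    refine Subtype.ext (funext fun t => ?_)
    refine congrFun (antitone_ext (fun k => (c k).1 t) (fun k => (c' k).1 t)
      (fun a b hab => hc hab t) (fun a b hab => hc' hab t) fun i => ?_) k
    rw [← chainDiag_apply, ← chainDiag_apply, h]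
  subst this
  rfl

/-- standard monomials on `X(τ)` -/
abbrev ChainBelow (τ : Idx d n) : Type :=
  Σ m : ℕ, {c : Fin m → Idx d n // Antitone c ∧ ∀ k, c k ≤ τ}

theorem linearIndependent_phi (hd : 0 < d) (τ : Idx d n) :
    LinearIndependent K fun c : ChainBelow τ => phi K τ (chainMon K c.2.1) := by
  refine Lead.linearIndependent_of_isLead (w := wt (n := n) (d := d)) _
    (fun c : ChainBelow τ => chainDiag c.2.1) (fun c => isLead_phi_chain K _ c.2.2.2) ?_
  rintro ⟨m, c, hc, hct⟩ ⟨m', c', hc', hct'⟩ h
  have := chainDiag_injective hd (a₁ := ⟨m, c, hc⟩) (a₂ := ⟨m', c', hc'⟩) h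
  cases this
  rfl

theorem mem_plIdeal_sup_span (τ : Idx d n) (f : PlRing K d n) :
    f ∈ (plIdeal K τ).restrictScalars K ⊔
      Submodule.span K (Set.range fun c : ChainBelow τ => chainMon K c.2.1) := by
  obtain ⟨g, hg, h, hh, rfl⟩ := Submodule.mem_sup.1 (Straighten.mem_span_all K f)
  refine add_mem (Submodule.mem_sup_left ?_) ?_
  · exact (Ideal.span_mono Set.subset_union_left : plIdealTop K ≤ plIdeal K τ) hg
  · refine (Submodule.span_le.2 ?_) hh
    rintro _ ⟨⟨m, c, hc⟩, rfl⟩
    by_cases hall : ∀ k, c k ≤ τ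
    · exact Submodule.mem_sup_right (Submodule.subset_span ⟨⟨m, c, hc, hall⟩, rfl⟩)
    · push Not at hall
      obtain ⟨k, hk⟩ := hall
      refine Submodule.mem_sup_left ?_
      change chainMon K c ∈ plIdeal K τ
      rw [chainMon, ← Finset.mul_prod_erase _ _ (Finset.mem_univ k)]
      exact Ideal.mul_mem_right _ _ (Ideal.subset_span (Or.inr ⟨c k, hk, rfl⟩))

theorem ker_phi (hd : 0 < d) (τ : Idx d n) : RingHom.ker (phi K τ).toRingHom = plIdeal K τ := by
  refine le_antisymm (fun f hf => ?_) (plIdeal_le_ker K τ)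
  obtain ⟨g, hg, h, hh, rfl⟩ := Submodule.mem_sup.1 (mem_plIdeal_sup_span K τ f)
  obtain ⟨l, rfl⟩ := Finsupp.mem_span_range_iff_exists_finsupp.1 hh
  have hg0 : phi K τ g = 0 := plIdeal_le_ker K τ hg
  have hf' : phi K τ (g + l.sum fun c a => a • chainMon K c.2.1) = 0 := hf
  rw [map_add, hg0, zero_add, map_finsuppSum] at hf'
  have hl : l = 0 := (linearIndependent_iff.1 (linearIndependent_phi K hd τ)) l (by
    rw [Finsupp.linearCombination_apply]
    simpa [map_smul] using hf')
  subst hl
  simpa using hg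

section field

variable (K : Type u) [Field K]

theorem exists_echelon (hd : 0 < d) (τ : Idx d n) (A : Matrix (Fin n) (Fin d) K)
    (hA : ∀ φ : Idx d n, ¬ φ ≤ τ → (A.submatrix φ.1 id).det = 0) :
    ∃ E : Matrix (Fin n) (Fin d) K, (∀ i t, τ.1 t < i → E i t = 0) ∧
      ∀ φ : Idx d n, (E.submatrix φ.1 id).det = (A.submatrix φ.1 id).det := by
  classical
  by_cases hz : ∀ φ : Idx d n, (A.submatrix φ.1 id).det = 0
  · refine ⟨0, fun _ _ _ => rfl, fun φ => ?_⟩
    rw [hz φ, Matrix.submatrix_zero]
    haveI : Nonempty (Fin d) := ⟨⟨0, hd⟩⟩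
    exact Matrix.det_zero
  push Not at hz
  obtain ⟨θ, hθ, hmax⟩ := Finset.exists_max_image
    (Finset.univ.filter fun φ : Idx d n => (A.submatrix φ.1 id).det ≠ 0) (fun φ => codeg φ)
    (by obtain ⟨φ, hφ⟩ := hz; exact ⟨φ, by simp [hφ]⟩)
  rw [Finset.mem_filter] at hθ
  have hθτ : θ ≤ τ := by_contra fun h => hθ.2 (hA θ h)
  let Aθ : Matrix (Fin d) (Fin d) K := A.submatrix θ.1 id
  have hu : IsUnit Aθ.det := isUnit_iff_ne_zero.2 hθ.2
  let B : Matrix (Fin n) (Fin d) K := A * Aθ⁻¹
  let w : Fin d → K := fun c => if c = ⟨0, hd⟩ then Aθ.det else 1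
  have hB : ∀ φ : Fin d → Fin n, (B.submatrix φ id).det = (A.submatrix φ id).det * Aθ.det⁻¹ := by
    intro φ
    rw [show B.submatrix φ id = A.submatrix φ id * Aθ⁻¹ from
      (Matrix.submatrix_mul A Aθ⁻¹ φ id id Function.bijective_id).trans (by simp),
      Matrix.det_mul, Matrix.det_nonsing_inv, Ring.inverse_eq_inv']
  have hB1 : B.submatrix θ.1 id = 1 := by
    rw [show B.submatrix θ.1 id = Aθ * Aθ⁻¹ from
      (Matrix.submatrix_mul A Aθ⁻¹ θ.1 id id Function.bijective_id).trans (by simp [Aθ]),
      Matrix.mul_nonsing_inv _ hu]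
  refine ⟨B * Matrix.diagonal w, fun i t hit => ?_, fun φ => ?_⟩
  · rw [Matrix.mul_diagonal]
    have hit' : θ.1 t < i := lt_of_le_of_lt (hθτ t) hit
    suffices B i t = 0 by rw [this, zero_mul]
    have hdet : (B.submatrix (Function.update θ.1 t i) id).det = B i t := by
      have : B.submatrix (Function.update θ.1 t i) id =
          (1 : Matrix (Fin d) (Fin d) K).updateRow t (B i) := by
        rw [← hB1]; ext a b
        by_cases ha : a = t
        · subst ha; simp
        · simp [Matrix.updateRow_ne ha, Function.update_of_ne ha]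
      rw [this, ← Matrix.cramer_transpose_apply, Matrix.transpose_one, Matrix.cramer_one]
      rfl
    rw [← hdet, hB]
    suffices (A.submatrix (Function.update θ.1 t i) id).det = 0 by rw [this, zero_mul]
    by_cases hinj : Function.Injective (Function.update θ.1 t i)
    swap
    · exact Plucker.det_submatrix_eq_zero A _ hinj
    obtain ⟨ψ, σ, hσ⟩ := Plucker.exists_idx_perm _ hinj
    rw [hσ, Plucker.det_submatrix_perm]
    suffices (A.submatrix ψ.1 id).det = 0 by rw [this, mul_zero]
    by_contra hψ
    have hle := hmax ψ (Finset.mem_filter.2 ⟨Finset.mem_univ _, hψ⟩)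
    have hlt : codeg θ < codeg ψ := by
      have h1 := Shuffle.codeg_add θ
      have h2 := Shuffle.codeg_add ψ
      have h3 : ∑ s, (ψ.1 s).val = ∑ s, ((Function.update θ.1 t i) s).val := by
        rw [hσ]; exact (Equiv.sum_comp σ (fun s => (ψ.1 s).val)).symm
      have h4 : ∑ s, (θ.1 s).val < ∑ s, ((Function.update θ.1 t i) s).val := by
        refine Finset.sum_lt_sum (fun s _ => ?_) ⟨t, Finset.mem_univ _, by simpa using hit'⟩
        by_cases hs : s = t
        · subst hs; simpa using Fin.le_def.1 hit'.le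
        · simp [Function.update_of_ne hs]
      omega
    omega
  · have : (B * Matrix.diagonal w).submatrix φ.1 id = B.submatrix φ.1 id * Matrix.diagonal w := by
      ext x y; simp [Matrix.mul_diagonal]
    rw [this, Matrix.det_mul, hB, Matrix.det_diagonal]
    simp only [w, Finset.prod_ite_eq', Finset.mem_univ, if_true]
    rw [mul_assoc, inv_mul_cancel₀ hθ.2, mul_one]

theorem eval_phi (τ : Idx d n) (v : Fin n × Fin d → K) (f : PlRing K d n) :
    MvPolynomial.eval v (phi K τ f) = evalMinors K d n
      (Matrix.of fun i t => if i ≤ τ.1 t then v (i, t) else 0) f := by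
  rw [phi, map_aeval]
  refine eval₂Hom_congr (RingHom.ext fun a => by simp) (funext fun θ => ?_) rfl
  rw [RingHom.map_det]
  congr 1
  ext s t
  simp only [RingHom.mapMatrix_apply, Matrix.map_apply, Matrix.submatrix_apply, id_eq, genE,
    Matrix.of_apply]
  split <;> simp

theorem schubertVanishing_eq_ker [Infinite K] (hd : 0 < d) (τ : Idx d n) :
    schubertVanishing K d n τ = RingHom.ker (phi K τ).toRingHom := by
  classical
  ext f
  simp only [schubertVanishing, Ideal.mem_iInf, RingHom.mem_ker, AlgHom.toRingHom_eq_coe,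
    RingHom.coe_coe]
  constructor
  · intro h
    refine MvPolynomial.funext fun v => ?_
    rw [eval_phi, map_zero]
    exact h _ fun φ hφ => det_eq_zero_of_not_le _ (fun i t hlt => by simp [not_le.2 hlt]) hφ
  · intro h A hA
    obtain ⟨E, hE0, hE⟩ := exists_echelon K hd τ A hA
    have h1 : evalMinors K d n A = evalMinors K d n E := by
      refine MvPolynomial.algHom_ext fun φ => ?_
      simp [evalMinors, hE]
    rw [h1]
    have h2 := eval_phi K τ (fun p => E p.1 p.2) f
    rw [h, map_zero] at h2
    convert h2.symm using 3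
    ext i t
    simp only [Matrix.of_apply]
    split
    · rfl
    · rename_i hit; exact hE0 i t (lt_of_not_ge hit)

theorem schubertVanishing_eq_plIdeal [Infinite K] (hd : 0 < d) (τ : Idx d n) :
    schubertVanishing K d n τ = plIdeal K τ :=
  (schubertVanishing_eq_ker K hd τ).trans (ker_phi K hd τ)

theorem vanishing_eq_schubert (hdn : d ≤ n) :
    vanishing K d n = schubertVanishing K d n (topIdx hdn) := by
  simp [vanishing, schubertVanishing, le_topIdx hdn]

theorem schubertVanishing_isPrime [Infinite K] (hd : 0 < d) (τ : Idx d n) :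
    (schubertVanishing K d n τ).IsPrime := by
  rw [schubertVanishing_eq_ker K hd τ]
  exact RingHom.ker_isPrime _

end field

end Groth.Agent.W4bk4.Schubert
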