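import Groth.Agent.W4bk4.Plucker
import Mathlib.LinearAlgebra.Alternating.Basic
import Mathlib.LinearAlgebra.StdBasis

/-!
# The quadratic shuffle relations: they hold for minors, and they straighten
-/

set_option autoImplicit false

open W4bk4grassmannian Matrix MvPolynomial

universe u v

namespace Groth.Agent.W4bk4.Shuffle

variable {d n : ℕ}

theorem val_le_apply {c m : ℕ} (f : Fin c → Fin m) (hf : StrictMono f) (t : Fin c) :
    t.val ≤ (f t).val := by
  obtain ⟨t, ht⟩ := t
  induction t with
  | zero => exact Nat.zero_le _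
  | succ k ih =>
    have h1 : (f ⟨k, by omega⟩).val < (f ⟨k + 1, ht⟩).val := hf (Fin.mk_lt_mk.2 (Nat.lt_succ_self k))
    have := ih (by omega)
    simp only at this ⊢
    omega

theorem triangle_le_sum {m c : ℕ} (A : Finset (Fin m)) (hA : A.card = c) :
    c * (c - 1) / 2 ≤ A.sum fun a => a.val := by
  have hmap : A = Finset.univ.map (A.orderEmbOfFin hA).toEmbedding := by
    rw [Finset.map_orderEmbOfFin_univ]
  calc c * (c - 1) / 2 = ∑ t : Fin c, t.val := by
        rw [Fin.sum_univ_eq_sum_range (fun i => i) c, Finset.sum_range_id]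
    _ ≤ ∑ t : Fin c, (A.orderEmbOfFin hA t).val :=
        Finset.sum_le_sum fun t _ => val_le_apply _ (A.orderEmbOfFin hA).strictMono t
    _ = A.sum fun a => a.val := by
        conv_rhs => rw [hmap, Finset.sum_map]
        rfl

section relation

variable {S : Type v} [CommRing S]

/-- first block of rows -/
def firstRows (a : Fin d → Fin d → S) (r : Fin d) (v : Fin (d + 1) → Fin d → S)
    (A : Finset (Fin (d + 1))) (hA : A.card = r.val + 1) : Matrix (Fin d) (Fin d) S :=
  Matrix.of fun t => if h : t.val ≤ r.val then v (A.orderEmbOfFin hA ⟨t.val, by omega⟩) else a t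

theorem card_compl_eq (r : Fin d) (A : Finset (Fin (d + 1))) (hA : A.card = r.val + 1) :
    Aᶜ.card = d - r.val := by
  rw [Finset.card_compl, hA, Fintype.card_fin]; omega

/-- second block of rows -/
def secondRows (b : Fin d → Fin d → S) (r : Fin d) (v : Fin (d + 1) → Fin d → S)
    (A : Finset (Fin (d + 1))) (hA : A.card = r.val + 1) : Matrix (Fin d) (Fin d) S :=
  Matrix.of fun t => if h : t.val < r.val then b t
    else v (Aᶜ.orderEmbOfFin (card_compl_eq r A hA)
      ⟨t.val - r.val, by have := t.isLt; omega⟩)

/-- one shuffle term, as a function of the moving vectors -/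
def sTerm (a b : Fin d → Fin d → S) (r : Fin d) (v : Fin (d + 1) → Fin d → S)
    (A : Finset (Fin (d + 1))) : S :=
  if hA : A.card = r.val + 1 then
    (-1 : S) ^ shuffleSign r A * (firstRows a r v A hA).det * (secondRows b r v A hA).det
  else 0

/-- the linear form `x ↦ det` with row `t` replaced by `x` -/
def rowLin (N : Matrix (Fin d) (Fin d) S) (t : Fin d) : (Fin d → S) →ₗ[S] S where
  toFun x := (N.updateRow t x).det
  map_add' x y := Matrix.det_updateRow_add N t x y
  map_smul' c x := Matrix.det_updateRow_smul N t c x

theorem exists_linear (a b : Fin d → Fin d → S) (r : Fin d) (v : Fin (d + 1) → Fin d → S)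
    (A : Finset (Fin (d + 1))) (k : Fin (d + 1)) :
    ∃ L : (Fin d → S) →ₗ[S] S, ∀ x, sTerm a b r (Function.update v k x) A = L x := by
  classical
  by_cases hA : A.card = r.val + 1
  swap
  · exact ⟨0, fun x => by simp [sTerm, hA]⟩
  have hC := card_compl_eq r A hA
  by_cases hk : k ∈ A
  · obtain ⟨t, ht⟩ : ∃ t, A.orderEmbOfFin hA t = k := by
      have : k ∈ Set.range (A.orderEmbOfFin hA) := by rw [Finset.range_orderEmbOfFin]; exact hk
      exact this
    refine ⟨((-1 : S) ^ shuffleSign r A * (secondRows b r v A hA).det) •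
      rowLin (firstRows a r v A hA) ⟨t.val, by omega⟩, fun x => ?_⟩
    have h2 : secondRows b r (Function.update v k x) A hA = secondRows b r v A hA := by
      refine Matrix.ext fun s c => ?_
      simp only [secondRows, Matrix.of_apply]
      split
      · rfl
      · rw [Function.update_of_ne]
        intro h
        exact Finset.mem_compl.1 (Aᶜ.orderEmbOfFin_mem hC _) (h ▸ hk)
    have h1 : firstRows a r (Function.update v k x) A hA =
        (firstRows a r v A hA).updateRow ⟨t.val, by omega⟩ x := by
      refine Matrix.ext fun s c => ?_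
      by_cases hs : s = ⟨t.val, by omega⟩
      · subst hs
        rw [Matrix.updateRow_self]
        simp only [firstRows, Matrix.of_apply]
        rw [dif_pos (by omega : t.val ≤ r.val)]
        simp [ht]
      · rw [Matrix.updateRow_ne hs]
        simp only [firstRows, Matrix.of_apply]
        split
        · rw [Function.update_of_ne]
          intro h
          apply hs
          have := (A.orderEmbOfFin hA).injective (h.trans ht.symm)
          exact Fin.ext (congrArg (fun z : Fin (r.val + 1) => z.val) this)
        · rfl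
    rw [sTerm, dif_pos hA, h1, h2]
    simp only [LinearMap.smul_apply, smul_eq_mul, rowLin, LinearMap.coe_mk, AddHom.coe_mk]
    ring
  · obtain ⟨t, ht⟩ : ∃ t, Aᶜ.orderEmbOfFin hC t = k := by
      have : k ∈ Set.range (Aᶜ.orderEmbOfFin hC) := by
        rw [Finset.range_orderEmbOfFin]; exact Finset.mem_compl.2 hk
      exact this
    have htd : r.val + t.val < d := by have := t.isLt; omega
    refine ⟨((-1 : S) ^ shuffleSign r A * (firstRows a r v A hA).det) •
      rowLin (secondRows b r v A hA) ⟨r.val + t.val, htd⟩, fun x => ?_⟩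
    have h1 : firstRows a r (Function.update v k x) A hA = firstRows a r v A hA := by
      refine Matrix.ext fun s c => ?_
      simp only [firstRows, Matrix.of_apply]
      split
      · rw [Function.update_of_ne]
        intro h
        exact hk (h ▸ A.orderEmbOfFin_mem hA _)
      · rfl
    have h2 : secondRows b r (Function.update v k x) A hA =
        (secondRows b r v A hA).updateRow ⟨r.val + t.val, htd⟩ x := by
      refine Matrix.ext fun s c => ?_
      by_cases hs : s = ⟨r.val + t.val, htd⟩
      · subst hs
        rw [Matrix.updateRow_self]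
        simp only [secondRows, Matrix.of_apply]
        rw [dif_neg (by omega : ¬ (r.val + t.val < r.val))]
        simp [ht]
      · rw [Matrix.updateRow_ne hs]
        simp only [secondRows, Matrix.of_apply]
        split
        · rfl
        · rename_i hlt
          rw [Function.update_of_ne]
          intro h
          apply hs
          have := (Aᶜ.orderEmbOfFin hC).injective (h.trans ht.symm)
          have := congrArg (fun z : Fin (d - r.val) => z.val) this
          apply Fin.ext
          simp only at this ⊢
          omega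
    rw [sTerm, dif_pos hA, h1, h2]
    simp only [LinearMap.smul_apply, smul_eq_mul, rowLin, LinearMap.coe_mk, AddHom.coe_mk]

/-- the full shuffle sum, as a function of the moving vectors -/
def sSum (a b : Fin d → Fin d → S) (r : Fin d) (v : Fin (d + 1) → Fin d → S) : S :=
  ∑ A : Finset (Fin (d + 1)), sTerm a b r v A

variable (a b : Fin d → Fin d → S) (r : Fin d)

theorem sSum_update_add (v : Fin (d + 1) → Fin d → S) (k : Fin (d + 1)) (x y : Fin d → S) :
    sSum a b r (Function.update v k (x + y)) =
      sSum a b r (Function.update v k x) + sSum a b r (Function.update v k y) := by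
  simp only [sSum, ← Finset.sum_add_distrib]
  refine Finset.sum_congr rfl fun A _ => ?_
  obtain ⟨L, hL⟩ := exists_linear a b r v A k
  rw [hL, hL, hL, map_add]

theorem sSum_update_smul (v : Fin (d + 1) → Fin d → S) (k : Fin (d + 1)) (c : S) (x : Fin d → S) :
    sSum a b r (Function.update v k (c • x)) = c • sSum a b r (Function.update v k x) := by
  simp only [sSum, Finset.smul_sum]
  refine Finset.sum_congr rfl fun A _ => ?_
  obtain ⟨L, hL⟩ := exists_linear a b r v A k
  rw [hL, hL, map_smul]

theorem orderEmb_swap {m c : ℕ} (B : Finset (Fin m)) (hB : B.card = c) (k l : Fin m)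
    (hkl : k.val + 1 = l.val) (hone : ¬ (k ∈ B ∧ l ∈ B))
    (hB' : (B.map (Equiv.swap k l).toEmbedding).card = c) (t : Fin c) :
    (B.map (Equiv.swap k l).toEmbedding).orderEmbOfFin hB' t =
      Equiv.swap k l (B.orderEmbOfFin hB t) := by
  have hmono : StrictMono fun t : Fin c => Equiv.swap k l (B.orderEmbOfFin hB t) := by
    intro x y hxy
    have hxy' : (B.orderEmbOfFin hB x).val < (B.orderEmbOfFin hB y).val :=
      (B.orderEmbOfFin hB).strictMono hxy
    have hnot : ¬ ((B.orderEmbOfFin hB x) = k ∧ (B.orderEmbOfFin hB y) = l) := fun h =>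
      hone ⟨h.1 ▸ B.orderEmbOfFin_mem hB x, h.2 ▸ B.orderEmbOfFin_mem hB y⟩
    change (Equiv.swap k l _).val < (Equiv.swap k l _).val
    generalize B.orderEmbOfFin hB x = p at *
    generalize B.orderEmbOfFin hB y = q at *
    rw [Equiv.swap_apply_def, Equiv.swap_apply_def]
    simp only [Fin.ext_iff] at hnot ⊢
    split_ifs <;> omega
  exact (congrFun (Finset.orderEmbOfFin_unique hB' (fun t => Finset.mem_map.2
    ⟨_, B.orderEmbOfFin_mem hB t, rfl⟩) hmono) t).symm

theorem sum_map_swap {m : ℕ} (B : Finset (Fin m)) (k l : Fin m) (hkl : k.val + 1 = l.val)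
    (hk : k ∈ B) (hl : l ∉ B) :
    ((B.map (Equiv.swap k l).toEmbedding).sum fun a => a.val) = (B.sum fun a => a.val) + 1 := by
  rw [Finset.sum_map, ← Finset.add_sum_erase _ _ hk, ← Finset.add_sum_erase (f := fun a : Fin m => a.val) _ hk]
  rw [Finset.sum_congr (s₁ := B.erase k) rfl (g := fun x : Fin m => x.val) fun x hx => by
    rw [Equiv.coe_toEmbedding, Equiv.swap_apply_of_ne_of_ne (Finset.ne_of_mem_erase hx)
      (show x ≠ l by rintro rfl; exact hl (Finset.mem_of_mem_erase hx))]]
  simp
  omega

theorem sSum_eq_zero_of_adjacent (v : Fin (d + 1) → Fin d → S) (k l : Fin (d + 1))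
    (hkl : k.val + 1 = l.val) (hv : v k = v l) : sSum a b r v = 0 := by
  classical
  have hne : k ≠ l := fun h => by simp [h] at hkl
  let g : Finset (Fin (d + 1)) → Finset (Fin (d + 1)) := fun A => A.map (Equiv.swap k l).toEmbedding
  have hgg : ∀ A, g (g A) = A := fun A => by
    ext x; simp [g, Finset.mem_map_equiv]
  have hvs : ∀ x, v (Equiv.swap k l x) = v x := by
    intro x
    rw [Equiv.swap_apply_def]
    split_ifs with h1 h2
    · rw [h1, hv]
    · rw [h2, hv]
    · rfl
  have hboth : ∀ A, (k ∈ A ↔ l ∈ A) → sTerm a b r v A = 0 := by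
    intro A hiff
    unfold sTerm
    split
    · rename_i hA
      by_cases hk : k ∈ A
      · have hl := hiff.1 hk
        obtain ⟨t, ht⟩ : ∃ t, A.orderEmbOfFin hA t = k := by
          have : k ∈ Set.range (A.orderEmbOfFin hA) := by rw [Finset.range_orderEmbOfFin]; exact hk
          exact this
        obtain ⟨s, hs⟩ : ∃ s, A.orderEmbOfFin hA s = l := by
          have : l ∈ Set.range (A.orderEmbOfFin hA) := by rw [Finset.range_orderEmbOfFin]; exact hl
          exact this
        have : (firstRows a r v A hA).det = 0 := by
          refine Matrix.det_zero_of_row_eq (i := ⟨t.val, by omega⟩) (j := ⟨s.val, by omega⟩) ?_ ?_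
          · intro h
            exact hne (by rw [← ht, ← hs, show t = s from Fin.ext (congrArg (fun z : Fin d => z.val) h)])
          · funext c
            simp only [firstRows, Matrix.of_apply]
            rw [dif_pos (by omega : t.val ≤ r.val), dif_pos (by omega : s.val ≤ r.val)]
            simp [ht, hs, hv]
        rw [this]; ring
      · have hl : l ∉ A := fun h => hk (hiff.2 h)
        have hC := card_compl_eq r A hA
        obtain ⟨t, ht⟩ : ∃ t, Aᶜ.orderEmbOfFin hC t = k := by
          have : k ∈ Set.range (Aᶜ.orderEmbOfFin hC) := by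
            rw [Finset.range_orderEmbOfFin]; exact Finset.mem_compl.2 hk
          exact this
        obtain ⟨s, hs⟩ : ∃ s, Aᶜ.orderEmbOfFin hC s = l := by
          have : l ∈ Set.range (Aᶜ.orderEmbOfFin hC) := by
            rw [Finset.range_orderEmbOfFin]; exact Finset.mem_compl.2 hl
          exact this
        have : (secondRows b r v A hA).det = 0 := by
          refine Matrix.det_zero_of_row_eq (i := ⟨r.val + t.val, by omega⟩)
            (j := ⟨r.val + s.val, by omega⟩) ?_ ?_
          · intro h
            have := congrArg (fun z : Fin d => z.val) h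
            simp only at this
            exact hne (by rw [← ht, ← hs, show t = s from Fin.ext (Nat.add_left_cancel this)])
          · funext c
            simp only [secondRows, Matrix.of_apply]
            rw [dif_neg (by omega : ¬ (r.val + t.val < r.val)), dif_neg (by omega : ¬ (r.val + s.val < r.val))]
            simp [ht, hs, hv]
        rw [this]; ring
    · rfl
  have key : ∀ A, k ∈ A → l ∉ A → sTerm a b r v (g A) = - sTerm a b r v A := by
    intro A hk hl
    by_cases hA : A.card = r.val + 1
    swap
    · have : (g A).card ≠ r.val + 1 := by simpa [g] using hA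
      simp [sTerm, hA, this]
    have hA' : (g A).card = r.val + 1 := by simpa [g] using hA
    have h1 : firstRows a r v (g A) hA' = firstRows a r v A hA := by
      refine Matrix.ext fun s c => ?_
      simp only [firstRows, Matrix.of_apply]
      split
      · simp only [g]
        rw [orderEmb_swap A hA k l hkl (fun h => hl h.2), hvs]
      · rfl
    have hcompl : (g A)ᶜ = Aᶜ.map (Equiv.swap k l).toEmbedding := by
      ext x; simp [g, Finset.mem_map_equiv]
    have h2 : secondRows b r v (g A) hA' = secondRows b r v A hA := by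
      refine Matrix.ext fun s c => ?_
      simp only [secondRows, Matrix.of_apply]
      split
      · rfl
      · simp only [hcompl]
        rw [orderEmb_swap Aᶜ (card_compl_eq r A hA) k l hkl
          (fun h => Finset.mem_compl.1 h.1 hk), hvs]
    rw [sTerm, dif_pos hA', sTerm, dif_pos hA, h1, h2]
    have hs : shuffleSign r (g A) = shuffleSign r A + 1 := by
      have h3 := triangle_le_sum A hA
      rw [Nat.add_sub_cancel, Nat.mul_comm] at h3
      simp only [shuffleSign, g, sum_map_swap A k l hkl hk hl]
      omega
    rw [hs, pow_succ]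
    ring
  unfold sSum
  refine Finset.sum_involution (fun A _ => g A) ?_ ?_ (fun _ _ => Finset.mem_univ _) (fun A _ => hgg A)
  · intro A _
    by_cases hk : k ∈ A <;> by_cases hl : l ∈ A
    · rw [hboth A (by simp [hk, hl]), hboth (g A) (by simp [g, Finset.mem_map_equiv, hk, hl]), add_zero]
    · rw [key A hk hl]; ring
    · have := key (g A) (by simp [g, Finset.mem_map_equiv, hl]) (by simp [g, Finset.mem_map_equiv, hk])
      rw [hgg] at this
      rw [this]; ring
    · rw [hboth A (by simp [hk, hl]), hboth (g A) (by simp [g, Finset.mem_map_equiv, hk, hl]), add_zero]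
  · intro A _ hne0 heq
    apply hne0
    apply hboth
    constructor
    · intro hk
      rw [← heq]
      simp [g, Finset.mem_map_equiv, hk]
    · intro hl
      rw [← heq]
      simp [g, Finset.mem_map_equiv, hl]

theorem sSum_swap_adjacent (v : Fin (d + 1) → Fin d → S) (k l : Fin (d + 1))
    (hkl : k.val + 1 = l.val) : sSum a b r (v ∘ Equiv.swap k l) = - sSum a b r v := by
  classical
  have hne : k ≠ l := fun h => by simp [h] at hkl
  let G : (Fin d → S) → (Fin d → S) → S := fun x y =>
    sSum a b r (Function.update (Function.update v k x) l y)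
  have hadd1 : ∀ x x' y, G (x + x') y = G x y + G x' y := by
    intro x x' y
    simp only [G, Function.update_comm hne]
    exact sSum_update_add a b r _ k x x'
  have hadd2 : ∀ x y y', G x (y + y') = G x y + G x y' := fun x y y' =>
    sSum_update_add a b r _ l y y'
  have hdiag : ∀ x, G x x = 0 := fun x =>
    sSum_eq_zero_of_adjacent a b r _ k l hkl (by simp [hne])
  have h0 := hdiag (v k + v l)
  rw [hadd1, hadd2, hadd2, hdiag, hdiag, zero_add, add_zero] at h0
  have h1 : G (v k) (v l) = sSum a b r v := by simp [G]
  have h2 : G (v l) (v k) = sSum a b r (v ∘ Equiv.swap k l) := by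
    simp only [G]
    congr 1
    funext x
    by_cases hxl : x = l
    · subst hxl; simp
    · by_cases hxk : x = k
      · subst hxk; simp [hne]
      · simp [hxl, hxk, Equiv.swap_apply_of_ne_of_ne]
  rw [h1, h2] at h0
  exact eq_neg_of_add_eq_zero_right h0

theorem sSum_eq_zero_of_eq (v : Fin (d + 1) → Fin d → S) (k l : Fin (d + 1)) (hlt : k < l)
    (hv : v k = v l) : sSum a b r v = 0 := by
  obtain ⟨m, hm⟩ : ∃ m, k.val + 1 + m = l.val :=
    ⟨l.val - k.val - 1, by have : k.val < l.val := hlt; omega⟩
  induction m generalizing l v with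
  | zero => exact sSum_eq_zero_of_adjacent a b r v k l (by omega) hv
  | succ m ih =>
    let l' : Fin (d + 1) := ⟨l.val - 1, by omega⟩
    have h := sSum_swap_adjacent a b r v l' l (by simp [l']; omega)
    have hkl' : k < l' := by simp [l', Fin.lt_def]; omega
    have := ih (v ∘ Equiv.swap l' l) l' hkl' ?_ (by simp [l']; omega)
    · rw [this] at h
      exact neg_eq_zero.1 h.symm
    · simp only [Function.comp_apply, Equiv.swap_apply_left]
      rw [Equiv.swap_apply_of_ne_of_ne hkl'.ne hlt.ne, hv]

theorem sSum_eq_zero (v : Fin (d + 1) → Fin d → S) : sSum a b r v = 0 := by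
  classical
  let F : (Fin d → S) [⋀^Fin (d + 1)]→ₗ[S] S :=
    { toFun := sSum a b r
      map_update_add' := fun v k x y => by convert sSum_update_add a b r v k x y
      map_update_smul' := fun v k c x => by convert sSum_update_smul a b r v k c x
      map_eq_zero_of_eq' := fun v k l hv hkl => by
        rcases lt_or_gt_of_ne hkl with h | h
        · exact sSum_eq_zero_of_eq a b r v k l h hv
        · exact sSum_eq_zero_of_eq a b r v l k h hv.symm }
  have hF : F = 0 := by
    refine Module.Basis.ext_alternating (Pi.basisFun S (Fin d)) fun f hf => ?_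
    exact absurd (Fintype.card_le_of_injective f hf) (by simp)
  exact congrArg (fun G : (Fin d → S) [⋀^Fin (d + 1)]→ₗ[S] S => G v) hF

variable {K : Type u} [CommRing K] [Algebra K S]

theorem aeval_shuffleRel (M : Matrix (Fin n) (Fin d) S) (i j : Idx d n) (r : Fin d) :
    MvPolynomial.aeval (fun θ : Idx d n => (M.submatrix θ.1 id).det) (shuffleRel K i j r) = 0 := by
  classical
  rw [shuffleRel, map_sum, ← sSum_eq_zero (fun t => M (i.1 t)) (fun t => M (j.1 t)) r
    (fun k => M (movingRows i j r k)), sSum]
  refine Finset.sum_congr rfl fun A _ => ?_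
  unfold shuffleTerm sTerm
  split
  · rename_i hA
    rw [map_mul, map_mul, map_pow, map_neg, map_one, Plucker.aeval_coord, Plucker.aeval_coord]
    have e1 : M.submatrix (shuffleI i j r A hA) id =
        firstRows (fun t => M (i.1 t)) r (fun k => M (movingRows i j r k)) A hA := by
      refine Matrix.ext fun t c => ?_
      simp only [firstRows, Matrix.of_apply, Matrix.submatrix_apply, id_eq, shuffleI]
      split <;> rfl
    have e2 : M.submatrix (shuffleJ i j r A hA) id =
        secondRows (fun t => M (j.1 t)) r (fun k => M (movingRows i j r k)) A hA := by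
      refine Matrix.ext fun t c => ?_
      simp only [secondRows, Matrix.of_apply, Matrix.submatrix_apply, id_eq, shuffleJ]
      split <;> rfl
    rw [e1, e2]
  · simp

end relation

section straighten

theorem codeg_add (w : Idx d n) :
    codeg w + ∑ t : Fin d, t.val = ∑ t, (w.1 t).val := by
  rw [codeg, ← Finset.sum_add_distrib]
  refine Finset.sum_congr rfl fun t _ => ?_
  have := val_le_apply _ w.2 t
  omega

theorem sum_split_le (r : Fin d) (f : Fin d → ℕ) :
    ∑ t, f t = (∑ s : Fin (r.val + 1), f ⟨s.val, by omega⟩) +
      ∑ t ∈ Finset.univ.filter (fun t : Fin d => ¬ t.val ≤ r.val), f t := by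
  rw [← Finset.sum_filter_add_sum_filter_not Finset.univ (fun t : Fin d => t.val ≤ r.val) f]
  congr 1
  refine Finset.sum_bij' (fun t ht => ⟨t.val, by simp at ht; omega⟩) (fun s _ => ⟨s.val, by omega⟩)
    ?_ ?_ ?_ ?_ ?_
  · simp
  · intro s _; simp only [Finset.mem_filter, Finset.mem_univ, true_and]; omega
  · simp
  · simp
  · simp

theorem sum_split_lt (r : Fin d) (f : Fin d → ℕ) :
    ∑ t, f t = (∑ t ∈ Finset.univ.filter (fun t : Fin d => t.val < r.val), f t) +
      ∑ s : Fin (d - r.val), f ⟨r.val + s.val, by omega⟩ := by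
  rw [← Finset.sum_filter_add_sum_filter_not Finset.univ (fun t : Fin d => t.val < r.val) f]
  congr 1
  refine Finset.sum_bij' (fun t ht => ⟨t.val - r.val, by simp at ht; omega⟩)
    (fun s _ => ⟨r.val + s.val, by omega⟩) ?_ ?_ ?_ ?_ ?_
  · simp
  · intro s _; simp only [Finset.mem_filter, Finset.mem_univ, true_and]; omega
  · intro t ht; simp only [Finset.mem_filter, Finset.mem_univ, true_and] at ht; exact Fin.ext (by simp only; omega)
  · intro s _; exact Fin.ext (by simp)
  · intro t ht; simp at ht; congr 1; exact Fin.ext (by simp; omega)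

theorem movingRows_strictMono (i j : Idx d n) (r : Fin d) (hr : i.1 r < j.1 r) :
    StrictMono (movingRows i j r) := by
  intro x y hxy
  have hxy' : x.val < y.val := hxy
  unfold movingRows
  split_ifs with h1 h2 h2
  · exact i.2 (Fin.mk_lt_mk.2 hxy')
  · calc i.1 ⟨x.val, _⟩ ≤ i.1 r := i.2.monotone (Fin.mk_le_mk.2 h1)
      _ < j.1 r := hr
      _ ≤ j.1 ⟨y.val - 1, _⟩ := j.2.monotone (Fin.mk_le_mk.2 (by omega))
  · omega
  · exact j.2 (Fin.mk_lt_mk.2 (by omega))

/-- the initial set of positions -/
def initSet (r : Fin d) : Finset (Fin (d + 1)) :=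
  Finset.univ.filter fun k => k.val ≤ r.val

theorem card_initSet (r : Fin d) : (initSet r).card = r.val + 1 := by
  rw [initSet, ← Fintype.card_fin (r.val + 1), ← Finset.card_univ]
  refine Finset.card_bij' (fun k hk => ⟨k.val, by simp at hk; omega⟩)
    (fun s _ => ⟨s.val, by omega⟩) ?_ ?_ ?_ ?_
  · simp
  · intro s _; simp [Fin.le_def, initSet]; omega
  · simp
  · simp

theorem orderEmb_initSet (r : Fin d) (s : Fin (r.val + 1)) :
    (initSet r).orderEmbOfFin (card_initSet r) s = ⟨s.val, by omega⟩ :=
  (congrFun (Finset.orderEmbOfFin_unique (card_initSet r)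
    (f := fun s : Fin (r.val + 1) => (⟨s.val, by omega⟩ : Fin (d + 1)))
    (fun s => by simp [initSet]; omega) (fun x y h => h)) s).symm

theorem orderEmb_initSet_compl (r : Fin d) (hC : (initSet r)ᶜ.card = d - r.val)
    (s : Fin (d - r.val)) :
    (initSet r)ᶜ.orderEmbOfFin hC s = ⟨r.val + 1 + s.val, by omega⟩ :=
  (congrFun (Finset.orderEmbOfFin_unique hC
    (f := fun s : Fin (d - r.val) => (⟨r.val + 1 + s.val, by omega⟩ : Fin (d + 1)))
    (fun s => by simp only [initSet, Finset.mem_compl, Finset.mem_filter, Finset.mem_univ, true_and]; omega)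
    (fun x y h => Fin.mk_lt_mk.2 (by have : x.val < y.val := h; omega))) s).symm

variable {K : Type u} [CommRing K]

theorem shuffleTerm_initSet (i j : Idx d n) (r : Fin d) :
    shuffleTerm K i j r (initSet r) = X i * X j := by
  rw [shuffleTerm, dif_pos (card_initSet r)]
  have e1 : shuffleI i j r (initSet r) (card_initSet r) = i.1 := by
    funext t
    unfold shuffleI
    split
    · rename_i h
      rw [orderEmb_initSet]
      simp [movingRows, h]
    · rfl
  have e2 : shuffleJ i j r (initSet r) (card_initSet r) = j.1 := by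
    funext t
    simp only [shuffleJ]
    split
    · rfl
    · rename_i h
      rw [orderEmb_initSet_compl]
      rw [movingRows, dif_neg (by simp; omega)]
      exact congrArg j.1 (Fin.ext (by simp; omega))
  have e3 : shuffleSign r (initSet r) = 0 := by
    have : (initSet r).sum (fun a => a.val) = ∑ s : Fin (r.val + 1), s.val := by
      refine Finset.sum_bij' (fun k hk => ⟨k.val, by simp [initSet] at hk; omega⟩)
        (fun s _ => ⟨s.val, by omega⟩) ?_ ?_ ?_ ?_ ?_
      · simp
      · intro s _; simp [initSet]; omega
      · simp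
      · simp
      · simp
    rw [shuffleSign, this, Fin.sum_univ_eq_sum_range (fun i => i), Finset.sum_range_id,
      Nat.add_sub_cancel, Nat.mul_comm, Nat.sub_self]
  rw [e1, e2, e3, Plucker.coord_idx, Plucker.coord_idx, pow_zero, one_mul]

/-- a shuffle term other than the identity one is `± X α X β` with `α` higher than `i`, or zero -/
theorem shuffleTerm_of_ne (i j : Idx d n) (r : Fin d) (hr : i.1 r < j.1 r)
    (A : Finset (Fin (d + 1))) (hA0 : A ≠ initSet r) :
    shuffleTerm K i j r A = 0 ∨ ∃ (c : K) (α β : Idx d n), codeg i < codeg α ∧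
      codeg α + codeg β = codeg i + codeg j ∧ shuffleTerm K i j r A = c • (X α * X β) := by
  classical
  unfold shuffleTerm
  split
  swap
  · exact Or.inl rfl
  rename_i hA
  by_cases hI : Function.Injective (shuffleI i j r A hA)
  swap
  · left; rw [Plucker.coord_eq_zero _ hI, mul_zero, zero_mul]
  by_cases hJ : Function.Injective (shuffleJ i j r A hA)
  swap
  · left; rw [Plucker.coord_eq_zero _ hJ, mul_zero]
  obtain ⟨α, σ, hσ⟩ := Plucker.exists_idx_perm _ hI
  obtain ⟨β, τ, hτ⟩ := Plucker.exists_idx_perm _ hJ
  have hC := card_compl_eq r A hA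
  have hmono := movingRows_strictMono i j r hr
  have sI : ∑ t, (α.1 t).val =
      ∑ s : Fin (r.val + 1), (movingRows i j r (A.orderEmbOfFin hA s)).val +
      ∑ t ∈ Finset.univ.filter (fun t : Fin d => ¬ t.val ≤ r.val), (i.1 t).val := by
    rw [← Equiv.sum_comp σ (fun t => (α.1 t).val), sum_split_le r]
    congr 1
    · refine Finset.sum_congr rfl fun s _ => ?_
      change ((α.1 ∘ σ) _).val = _
      rw [← hσ, shuffleI, dif_pos (by simp; omega)]
    · refine Finset.sum_congr rfl fun t ht => ?_
      change ((α.1 ∘ σ) _).val = _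
      rw [← hσ, shuffleI, dif_neg (Finset.mem_filter.1 ht).2]
  have si : ∑ t, (i.1 t).val =
      ∑ s : Fin (r.val + 1), (movingRows i j r ⟨s.val, by omega⟩).val +
      ∑ t ∈ Finset.univ.filter (fun t : Fin d => ¬ t.val ≤ r.val), (i.1 t).val := by
    rw [sum_split_le r]
    congr 1
    refine Finset.sum_congr rfl fun s _ => ?_
    rw [movingRows, dif_pos (by simp; omega)]
  refine Or.inr ⟨(-1) ^ shuffleSign r A * ((Equiv.Perm.sign σ : ℤ) : K) *
    ((Equiv.Perm.sign τ : ℤ) : K), α, β, ?_, ?_, ?_⟩
  · obtain ⟨s₀, hs₀⟩ : ∃ s : Fin (r.val + 1), A.orderEmbOfFin hA s ≠ ⟨s.val, by omega⟩ := by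
      by_contra hall
      push Not at hall
      apply hA0
      refine Finset.eq_of_subset_of_card_le ?_ (by rw [hA, card_initSet])
      intro x hx
      have : x ∈ Set.range (A.orderEmbOfFin hA) := by rw [Finset.range_orderEmbOfFin]; exact hx
      obtain ⟨s, rfl⟩ := this
      simp [initSet, hall s]; omega
    have hle : ∀ s : Fin (r.val + 1), (⟨s.val, by omega⟩ : Fin (d + 1)) ≤ A.orderEmbOfFin hA s :=
      fun s => val_le_apply _ (A.orderEmbOfFin hA).strictMono s
    have hlt : ∑ s : Fin (r.val + 1), (movingRows i j r ⟨s.val, by omega⟩).val <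
        ∑ s : Fin (r.val + 1), (movingRows i j r (A.orderEmbOfFin hA s)).val :=
      Finset.sum_lt_sum (fun s _ => hmono.monotone (hle s))
        ⟨s₀, Finset.mem_univ _, hmono (lt_of_le_of_ne (hle s₀) (Ne.symm hs₀))⟩
    have := codeg_add i
    have := codeg_add α
    omega
  · have sJ : ∑ t, (β.1 t).val =
        ∑ t ∈ Finset.univ.filter (fun t : Fin d => t.val < r.val), (j.1 t).val +
        ∑ s : Fin (d - r.val), (movingRows i j r (Aᶜ.orderEmbOfFin hC s)).val := by
      rw [← Equiv.sum_comp τ (fun t => (β.1 t).val), sum_split_lt r]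
      congr 1
      · refine Finset.sum_congr rfl fun t ht => ?_
        change ((β.1 ∘ τ) _).val = _
        rw [← hτ]
        simp only [shuffleJ]
        rw [dif_pos (Finset.mem_filter.1 ht).2]
      · refine Finset.sum_congr rfl fun s _ => ?_
        change ((β.1 ∘ τ) _).val = _
        rw [← hτ]
        simp only [shuffleJ]
        rw [dif_neg (by omega)]
        congr 3
        exact Fin.ext (by simp)
    have sj : ∑ t, (j.1 t).val =
        ∑ t ∈ Finset.univ.filter (fun t : Fin d => t.val < r.val), (j.1 t).val +
        ∑ s : Fin (d - r.val), (movingRows i j r ⟨r.val + 1 + s.val, by omega⟩).val := by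
      rw [sum_split_lt r]
      congr 1
      refine Finset.sum_congr rfl fun s _ => ?_
      rw [movingRows, dif_neg (by simp; omega)]
      congr 2
      all_goals exact Fin.ext (by simp)
    have tot : ∀ (B : Finset (Fin (d + 1))) (hB : B.card = r.val + 1) (hB' : Bᶜ.card = d - r.val),
        ∑ s : Fin (r.val + 1), (movingRows i j r (B.orderEmbOfFin hB s)).val +
        ∑ s : Fin (d - r.val), (movingRows i j r (Bᶜ.orderEmbOfFin hB' s)).val =
        ∑ k, (movingRows i j r k).val := by
      intro B hB hB'
      rw [← Finset.sum_add_sum_compl B]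
      congr 1
      · conv_rhs => rw [← Finset.map_orderEmbOfFin_univ B hB, Finset.sum_map]
        rfl
      · conv_rhs => rw [← Finset.map_orderEmbOfFin_univ Bᶜ hB', Finset.sum_map]
        rfl
    have t1 := tot A hA hC
    have t0 := tot (initSet r) (card_initSet r) (card_compl_eq r _ (card_initSet r))
    simp only [orderEmb_initSet, orderEmb_initSet_compl] at t0
    have := codeg_add i
    have := codeg_add j
    have := codeg_add α
    have := codeg_add β
    omega
  · rw [hσ, hτ, Plucker.coord_comp_perm, Plucker.coord_comp_perm, MvPolynomial.smul_eq_C_mul]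
    simp only [map_mul, map_pow, map_neg, map_one, map_intCast]
    ring

/-- one straightening step -/
theorem straighten_step (i j : Idx d n) (r : Fin d) (hp : IsPivot i j r) :
    (X i * X j : PlRing K d n) ∈ (plIdealTop (d := d) (n := n) K).restrictScalars K ⊔
      Submodule.span K {f : PlRing K d n | ∃ α β : Idx d n, codeg i < codeg α ∧
        codeg α + codeg β = codeg i + codeg j ∧ f = X α * X β} := by
  classical
  have h : (X i * X j : PlRing K d n) = shuffleRel K i j r -
      ∑ A ∈ Finset.univ.erase (initSet r), shuffleTerm K i j r A := by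
    rw [shuffleRel, ← Finset.add_sum_erase _ _ (Finset.mem_univ (initSet r)), shuffleTerm_initSet]
    ring
  rw [h]
  refine sub_mem (Submodule.mem_sup_left (Ideal.subset_span ⟨i, j, r, hp, rfl⟩))
    (Submodule.mem_sup_right (sum_mem fun A hA => ?_))
  rcases shuffleTerm_of_ne (K := K) i j r hp.2 A (Finset.ne_of_mem_erase hA) with
    h0 | ⟨c, α, β, h1, h2, h3⟩
  · rw [h0]; exact zero_mem _
  · rw [h3]; exact Submodule.smul_mem _ _ (Submodule.subset_span ⟨α, β, h1, h2, rfl⟩)

theorem exists_pivot (i j : Idx d n) (h : ¬ j ≤ i) : ∃ r, IsPivot i j r := by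
  classical
  have hne : (Finset.univ.filter fun t => i.1 t < j.1 t).Nonempty := by
    by_contra hc
    simp only [Finset.not_nonempty_iff_eq_empty, Finset.filter_eq_empty_iff, Finset.mem_univ,
      not_lt, forall_true_left] at hc
    exact h fun t => hc (x := t)
  refine ⟨(Finset.univ.filter fun t => i.1 t < j.1 t).min' hne, fun t ht => ?_, ?_⟩
  · by_contra hlt
    exact absurd (Finset.min'_le _ t (by simp [lt_of_not_ge hlt])) (not_le.2 ht)
  · exact (Finset.mem_filter.1 (Finset.min'_mem _ hne)).2

end straighten

end Groth.Agent.W4bk4.Shuffle
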